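import Groth.Agent.DualGeneric.NegDeg
import Groth.Agent.Intersect.Cartier
import Groth.Agent.Intersect.ProperInt
import Groth.Agent.KFlat.Pullback
import Groth.Agent.S2122

/-!
Degrees of inverses of ideal sheaves on components, and components of connected curves.
-/

set_option autoImplicit false
set_option backward.isDefEq.respectTransparency false
set_option backward.isDefEq.respectTransparency.types false
set_option linter.style.haveILetI false
set_option maxHeartbeats 1000000

universe u

open CategoryTheory CategoryTheory.Limits AlgebraicGeometry TopologicalSpace Opposite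

noncomputable section

namespace Groth.Agent.DualGeneric

variable {X : Scheme.{u}}

/-- finite closed sets of Jacobson spaces do not contain generic points of curves -/
theorem notMem_finite_of_dim_one [JacobsonSpace X] {D : Set X} (hD : IsClosed D) (hfin : D.Finite)
    {C : Set X} {η : X} (hη : IsGenericPoint η C) (hC : topologicalKrullDim C = 1) : η ∉ D := by
  intro h
  have h1 : C = {η} := hη.def.symm.trans (Intersect.isClosed_singleton_of_finite hD hfin h).closure_eq
  subst h1
  have h2 : topologicalKrullDim ({η} : Set X) ≤ 0 := topologicalKrullDim_zero_of_discreteTopology _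
  rw [hC] at h2
  exact absurd h2 (by decide)

variable (k : Type u) [Field k] [X.Over (Spec (CommRingCat.of k))] [IsProper (X ↘ Spec (CommRingCat.of k))]

include k in
/-- on a connected curve every component is a curve -/
theorem dim_component_eq_one [ConnectedSpace X] (hdim : topologicalKrullDim X = 1)
    (C : Set X) (hC : C ∈ irreducibleComponents (X : Type u)) : topologicalKrullDim C = 1 := by
  haveI := CurveRR.isNoetherian_of_proper k X
  haveI : JacobsonSpace X := LocallyOfFiniteType.jacobsonSpace (X ↘ Spec (CommRingCat.of k))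
  refine le_antisymm ((Topology.IsInducing.subtypeVal.topologicalKrullDim_le).trans hdim.le) ?_
  by_contra hlt
  have hd : topologicalKrullDim C ≤ 0 := by
    have key : ∀ a : WithBot ℕ∞, a < 1 → a ≤ 0 := fun a ha => by
      induction a with
      | bot => exact bot_le
      | coe a => exact WithBot.coe_le_coe.2 (ENat.lt_one_iff_eq_zero.1 (WithBot.coe_lt_coe.1 ha)).le
    exact key _ (not_le.1 hlt)
  have hcl := isClosed_of_mem_irreducibleComponents C hC
  obtain ⟨η, hη⟩ := QuasiSober.sober hC.1 hcl
  have h1 : C = {η} := hη.def.symm.trans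
    (Intersect.isClosed_singleton_of_finite hcl (CurveRR.finite_of_dim_le_zero (k := k) hcl hd) hη.mem).closure_eq
  have hfin : {C' ∈ irreducibleComponents (X : Type u) | C' ≠ C}.Finite :=
    (NoetherianSpace.finite_irreducibleComponents (α := X)).subset fun _ h => h.1
  have hop : IsOpen C := by
    have he : C = (⋃₀ {C' ∈ irreducibleComponents (X : Type u) | C' ≠ C})ᶜ := by
      refine Set.ext fun x => ⟨fun hx hx' => ?_, fun hx => ?_⟩
      · obtain ⟨C', ⟨hC', hne⟩, hxC'⟩ := hx'
        refine hne (le_antisymm (hC.2 hC'.1 ?_) ?_)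
        · rw [h1] at hx ⊢
          exact Set.singleton_subset_iff.2 (Set.mem_singleton_iff.1 hx ▸ hxC')
        · rw [h1] at hx ⊢
          exact Set.singleton_subset_iff.2 (Set.mem_singleton_iff.1 hx ▸ hxC')
      · obtain ⟨C', hC', hxC'⟩ := exists_mem_irreducibleComponents_subset_of_isIrreducible _ (isIrreducible_singleton (x := x))
        by_contra hxC
        exact hx ⟨C', ⟨hC', fun h => hxC (h ▸ hxC' rfl)⟩, hxC' rfl⟩
    rw [he, isOpen_compl_iff, Set.sUnion_eq_biUnion]
    exact hfin.isClosed_biUnion fun C' h => isClosed_of_mem_irreducibleComponents C' h.1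
  have huniv : C = Set.univ := (isClopen_iff.1 ⟨hcl, hop⟩).resolve_left hC.1.1.ne_empty
  have : topologicalKrullDim (Set.univ : Set X) ≤ 0 := huniv ▸ hd
  rw [IsHomeomorph.topologicalKrullDim_eq _ (Homeomorph.Set.univ X).isHomeomorph, hdim] at this
  exact absurd this (by decide)

/-- an inverse of an ideal sheaf has degree `≥ 0` on an integral curve not inside the divisor -/
theorem degOn_nonneg_of_inverse (D J : X.IdealSheafData) [IsIntegral J.subscheme]
    (hdim : topologicalKrullDim X ≤ 1) {L : X.Modules} (hL : PicF.IsInvertible L)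
    (e : CohB1.tensorMod L (ClSub.idealMod D) ≅ Coh.structureModule X)
    (hgen : J.subschemeι (genericPoint J.subscheme) ∉ D.support) :
    0 ≤ CurveRR.Multi.degOn k J 1 L := by
  letI : J.subscheme.Over (Spec (CommRingCat.of k)) := ⟨J.subschemeι ≫ (X ↘ Spec (CommRingCat.of k))⟩
  haveI : IsProper (J.subscheme ↘ Spec (CommRingCat.of k)) :=
    inferInstanceAs (IsProper (J.subschemeι ≫ (X ↘ Spec (CommRingCat.of k))))
  have hdimJ : topologicalKrullDim J.subscheme ≤ 1 :=
    (J.subschemeι.isClosedEmbedding.isInducing.topologicalKrullDim_le).trans hdim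
  let i := J.subschemeι
  let y := genericPoint J.subscheme
  have hI : PicF.IsInvertible (ClSub.idealMod D) :=
    Groth.Agent.S2122.result _ L (TMul.commIso _ L ≪≫ e)
  let P := Scheme.Modules.pullback i
  have hIJ := PicLoc.isInvertible_pullback i hI
  let φ : P.obj (ClSub.idealMod D) ⟶ Coh.structureModule J.subscheme :=
    P.map (ClSub.idealModι D) ≫ (PicLoc.pullbackStructureIso i).hom
  haveI := Intersect.isIso_stalk_idealModι D hgen
  have h1 : IsIso ((DerSch.stalkFunctor J.subscheme y).map (P.map (ClSub.idealModι D))) :=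
    (NatIso.isIso_map_iff (KFlat.pullStalkIso i y) (ClSub.idealModι D)).2
      (inferInstanceAs (IsIso ((ModuleCat.extendScalars.{u, u, u} (i.stalkMap y).hom).map
        ((DerSch.stalkFunctor X (i y)).map (ClSub.idealModι D)))))
  have hφ : φ ≠ 0 := fun h0 => by
    have h2 : IsIso ((DerSch.stalkFunctor J.subscheme y).map φ) := by
      rw [Functor.map_comp]; infer_instance
    rw [h0, Functor.map_zero] at h2
    have h3 : Subsingleton (J.subscheme.presheaf.stalk y) := by
      obtain ⟨q⟩ := CurveRR.Multi.nonempty_stalk_equiv (TMul.isInvertible_structureModule (X := J.subscheme)) y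
      have hz : IsZero ((DerSch.stalkFunctor J.subscheme y).obj (Coh.structureModule J.subscheme)) :=
        @IsZero.of_epi_zero _ _ _ ((DerSch.stalkFunctor J.subscheme y).obj (P.obj (ClSub.idealMod D))) _ (@IsIso.epi_of_iso _ _ _ _ _ h2)
      haveI : Subsingleton ((Coh.structureModule J.subscheme).presheaf.stalk y) :=
        ModuleCat.subsingleton_of_isZero hz
      exact q.toEquiv.subsingleton
    exact not_subsingleton _ h3
  obtain ⟨hle, -⟩ := CurveRR.deg_le_and_isIso (k := k) hdimJ hIJ TMul.isInvertible_structureModule φ hφ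
  rw [CurveRR.deg_structure] at hle
  obtain ⟨t⟩ := TMul.nonempty_pullTensorIso i L (ClSub.idealMod D)
  have hadd := CurveRR.deg_tensor_inv (k := k) hdimJ (PicLoc.isInvertible_pullback i hL) hIJ
  rw [Curv2.deg, CurveRR.euler_eq_of_iso (t ≪≫ P.mapIso e ≪≫ PicLoc.pullbackStructureIso i), ← Curv2.deg, CurveRR.deg_structure] at hadd
  show (0 : ℤ) ≤ Curv2.deg k J.subscheme ((Scheme.Modules.pullback i).obj L) 1
  omega

end Groth.Agent.DualGeneric
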