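import Groth.Agent.DCohShriek.DualizingField
import Groth.Agent.DualSch.SelfInv
import Groth.Agent.DualGeneric.DivDeg
import Groth.Agent.CurveRR.Tensor

/-!
The dualizing module of a Gorenstein curve is invertible.
-/

set_option autoImplicit false
set_option backward.isDefEq.respectTransparency false
set_option backward.isDefEq.respectTransparency.types false
set_option linter.style.haveILetI false
set_option maxHeartbeats 1000000

universe u

open CategoryTheory CategoryTheory.Limits AlgebraicGeometry

attribute [local instance] HasDerivedCategory.standard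

noncomputable section

namespace Groth.Agent.DualGeneric

/-- the dualizing module of a proper Gorenstein curve is invertible -/
theorem isInvertible_dualizingMod (k : Type u) [Field k] {X : Scheme.{u}} (f : X ⟶ Spec (CommRingCat.of k)) [IsProper f]
    [ConnectedSpace X] (hdim : topologicalKrullDim X = 1)
    (hG : ∀ x : X, LocCoh.IsGorensteinLocalRing (X.presheaf.stalk x))
    [DCoh.HasRpush f] (h : DCoh.RpushPreservesQCoh f) [DCoh.HasShriek f h]
    (OY : DCoh.DQCoh (Spec (CommRingCat.of k)))
    (hOY : Nonempty (OY.obj ≅ DCoh.inD (Spec (CommRingCat.of k)) (Coh.structureModule (Spec (CommRingCat.of k))))) :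
    PicF.IsInvertible (DCoh.dualizingMod f h OY 1) := by
  letI : X.Over (Spec (CommRingCat.of k)) := ⟨f⟩
  haveI : IsProper (X ↘ Spec (CommRingCat.of k)) := ‹IsProper f›
  haveI : IsNoetherian X := DCohShriek.isNoetherian_of_proper f
  haveI : ∀ (U V : Scheme.{u}) (j : U ⟶ V) [IsOpenImmersion j], PreservesFiniteLimits (Scheme.Modules.restrictFunctor j) :=
    fun U V j _ => inferInstance
  haveI : ∀ (R : CommRingCat.{u}), PreservesFiniteLimits (tilde.functor R) := fun R => inferInstance
  obtain ⟨eO⟩ := hOY
  let adj := DCoh.shriekAdj f h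
  have hK := DCohShriek.isDualizingSch_adjoint f adj OY (DCohShriek.isDualizingSch_point k eO)
  have hinv := DualSch.isInvertibleD_of_isGorenstein ⟨inferInstance, hG⟩ hK
  intro x
  obtain ⟨z, hz, hzc⟩ := (isClosed_closure (s := ({x} : Set X))).exists_closed_singleton ⟨x, subset_closure rfl⟩
  obtain ⟨U, n, hzU, ⟨e⟩⟩ := hinv z
  have hxU : x ∈ U := (specializes_iff_mem_closure.2 hz).mem_open U.2 hzU
  obtain ⟨C, hC, hzC⟩ := exists_mem_irreducibleComponents_subset_of_isIrreducible _ (isIrreducible_singleton (x := z))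
  have hCc := isClosed_of_mem_irreducibleComponents C hC
  have hη := hC.1.isGenericPoint_genericPoint hCc
  have hsp : hC.1.genericPoint ⤳ z := hη.specializes (hzC rfl)
  have hne : hC.1.genericPoint ≠ z := fun he => by
    have h1 := dim_component_eq_one k hdim C hC
    have hC1 : C = {z} := by rw [← hη.def, he, hzc.closure_eq]
    rw [hC1] at h1
    exact absurd (h1 ▸ topologicalKrullDim_zero_of_discreteTopology ({z} : Set X)) (by norm_num)
  let K : DCoh.D X := (DCoh.dualizingCx f h OY)
  let H := DerivedCategory.homologyFunctor (U : Scheme.{u}).Modules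
  let i₁ : (Scheme.Modules.restrictFunctor U.ι).obj (DCoh.HD K (-n)) ≅ Coh.structureModule (U : Scheme.{u}) :=
    ((DQCoh.homologyDerIso (Scheme.Modules.restrictFunctor U.ι) (-n)).app K).symm ≪≫ (H (-n)).mapIso e ≪≫
      ((DerivedCategory.homologyFunctor (U : Scheme.{u}).Modules 0).shiftIso n (-n) 0 (by omega)).app _ ≪≫
      (DerivedCategory.singleFunctorCompHomologyFunctorIso (U : Scheme.{u}).Modules 0).app _
  have hu : hC.1.genericPoint ∈ U := hsp.mem_open U.2 hzU
  have hnt : Nontrivial ((DCoh.HD K (-n)).presheaf.stalk hC.1.genericPoint) := by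
    have h1 : Nontrivial (((Scheme.Modules.restrictFunctor U.ι).obj (DCoh.HD K (-n))).presheaf.stalk
        (⟨_, hu⟩ : (U : Scheme.{u}))) :=
      (DualSch.nontrivial_stalk_congr i₁ _).2 (CurveRR.nontrivial_stalk_inv TMul.isInvertible_structureModule _)
    exact ((Scheme.Modules.restrictStalkNatIso U.ι (⟨_, hu⟩ : (U : Scheme.{u}))).app _).addCommGroupIsoToAddEquiv.toEquiv.nontrivial_congr.1 h1
  obtain ⟨h1, h2⟩ := DCohShriek.stalk_amplitude k f adj OY eO 1 hdim.le (-n) 1 ![z, hC.1.genericPoint]
    (fun t => by fin_cases t; exact ⟨hsp, hne⟩) hnt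
  obtain rfl : n = 1 := by push_cast at h1 h2; omega
  exact ⟨U, hxU, ⟨i₁⟩⟩

end Groth.Agent.DualGeneric
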