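import Groth.Agent.CurveRR.Deg
import Groth.Agent.CurveRR.TmapR
import Groth.Agent.DvrDom.ClosedProper

/-!
`O_D ⊗ L` for reduced closed subsets `D`, through local presentations.
-/

set_option autoImplicit false
set_option backward.isDefEq.respectTransparency false
set_option backward.isDefEq.respectTransparency.types false
set_option linter.style.haveILetI false
set_option maxHeartbeats 1000000

universe u

open CategoryTheory CategoryTheory.Limits AlgebraicGeometry TopologicalSpace Opposite
open Groth.Agent.CohFinite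
open Groth.Agent.QC (res resO res_res res_self res_smul resO_resO resO_self section_eq_of_locally app_res)
open TMul (IsGen homOf val_homOf tm)

noncomputable section

namespace Groth.Agent.DualGeneric.Sub

variable {X : Scheme.{u}}

/-- the ideal of the reduced structure -/
abbrev vI (D : Closeds X) : X.IdealSheafData := Scheme.IdealSheafData.vanishingIdeal D

/-- the structure module of the reduced closed subscheme on `D` -/
abbrev A (D : Closeds X) : X.Modules := ClSub.quotMod (vI D)

/-- the quotient map -/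
abbrev q (D : Closeds X) : Coh.structureModule X ⟶ A D := ClSub.toSubscheme (vI D)

theorem range_ι (D : Closeds X) : Set.range (vI D).subschemeι = (D : Set X) :=
  DvrDom.range_vanishingIdeal_subschemeι D

theorem q_eq_zero_iff (D : Closeds X) {W : X.Opens} (a : Γ(X, W)) :
    (q D).app W a = 0 ↔ ∀ x ∈ (D : Set X), x ∉ X.basicOpen a := by
  haveI : IsReduced (vI D).subscheme := DvrDom.isReduced_vanishingIdeal_subscheme _
  constructor
  · intro h x hx hxa
    rw [← range_ι D] at hx
    obtain ⟨z, rfl⟩ := hx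
    have h1 : z ∈ (vI D).subschemeι ⁻¹ᵁ X.basicOpen a := hxa
    rw [Scheme.preimage_basicOpen, show ((vI D).subschemeι.app W).hom a = 0 from h, Scheme.basicOpen_zero] at h1
    exact h1
  · intro h
    refine eq_zero_of_basicOpen_eq_bot (U := (vI D).subschemeι ⁻¹ᵁ W) ((vI D).subschemeι.app W a)
      (Opens.ext (Set.eq_empty_of_forall_notMem fun z hz => ?_))
    rw [← Scheme.preimage_basicOpen] at hz
    exact h _ ((range_ι D) ▸ ⟨z, rfl⟩) hz

theorem q_app_mul (D : Closeds X) {W : X.Opens} (c b : Γ(X, W)) :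
    (q D).app W (show Γ(X, W) from c * b) = c • (q D).app W b :=
  (Scheme.Modules.Hom.app_smul (q D) c b)

theorem exists_lift (D : Closeds X) {W : X.Opens} (t : Γ(A D, W)) {x : X} (hx : x ∈ W) :
    ∃ (V : X.Opens) (h : V ≤ W) (a : Γ(X, V)), x ∈ V ∧ (q D).app V a = res (A D) h t := by
  obtain ⟨V, hV, hxV, hVW⟩ := exists_isAffineOpen_mem_and_subset (X := X) (U := W) hx
  obtain ⟨a, ha⟩ := (vI D).subschemeι.app_surjective V hV (res (A D) (show V ≤ W from hVW) t)
  exact ⟨V, hVW, a, hxV, ha⟩

instance epi_q (D : Closeds X) : Epi (q D) := CurveRR.epi_toSubscheme _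

/-- a map `O → A D` kills the ideal of any `D` containing it -/
theorem idealι_q (D D' : Closeds X) (h : D' ≤ D) : ClSub.idealModι (vI D) ≫ q D' = 0 := by
  refine Scheme.Modules.hom_ext _ _ fun W => ?_
  ext c
  show (q D').app W ((ClSub.idealModι (vI D)).app W c) = 0
  refine (q_eq_zero_iff D' _).2 fun x hx => ?_
  refine (q_eq_zero_iff D _).1 ?_ x (h hx)
  exact ConcreteCategory.congr_hom (congrArg (fun ψ => Scheme.Modules.Hom.app ψ W) (kernel.condition (ClSub.toSubscheme (vI D)))) c

/-- restriction -/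
def r (D D' : Closeds X) (h : D' ≤ D) : A D ⟶ A D' :=
  (CokernelCofork.IsColimit.desc' (CurveRR.ideal_shortExact (vI D)).gIsCokernel (q D') (idealι_q D D' h)).1

theorem q_r (D D' : Closeds X) (h : D' ≤ D) : q D ≫ r D D' h = q D' :=
  (CokernelCofork.IsColimit.desc' (CurveRR.ideal_shortExact (vI D)).gIsCokernel (q D') (idealι_q D D' h)).2

theorem r_q (D D' : Closeds X) (h : D' ≤ D) {W : X.Opens} (a : Γ(X, W)) :
    (r D D' h).app W ((q D).app W a) = (q D').app W a :=
  ConcreteCategory.congr_hom (congrArg (fun ψ => Scheme.Modules.Hom.app ψ W) (q_r D D' h)) a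

variable {L : X.Modules}

/-- `O_D ⊗ L` -/
abbrev M (D : Closeds X) (L : X.Modules) : X.Modules := CohB1.tensorMod (A D) L

/-- restriction -/
abbrev rL (D D' : Closeds X) (h : D' ≤ D) (L : X.Modules) : M D L ⟶ M D' L := tmap (r D D' h) L

theorem rL_tm (D D' : Closeds X) (h : D' ≤ D) {W : X.Opens} (a : Γ(X, W)) (g : Γ(L, W)) :
    (rL D D' h L).app W (tm ((q D).app W a) g) = tm ((q D').app W a) g := by
  rw [tmap_tm, r_q]

/-- local presentation -/
theorem exists_pres (hL : PicF.IsInvertible L) (D : Closeds X) {W : X.Opens} (s : Γ(M D L, W)) {x : X} (hx : x ∈ W) :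
    ∃ (V : X.Opens) (h : V ≤ W) (g : Γ(L, V)) (a : Γ(X, V)), x ∈ V ∧ IsGen g ∧
      res (M D L) h s = tm ((q D).app V a) g := by
  obtain ⟨U, g, hxU, hg⟩ := TMul.exists_isGen hL x
  obtain ⟨m, hm⟩ := (TMul.tm_bijective (M := A D) hg (U ⊓ W) inf_le_left).2 (res (M D L) inf_le_right s)
  obtain ⟨V, hV, a, hxV, ha⟩ := exists_lift D m (x := x) ⟨hxU, hx⟩
  refine ⟨V, hV.trans inf_le_right, res L (hV.trans inf_le_left) g, a, hxV, hg.res _, ?_⟩
  have h1 := congrArg (res (M D L) hV) hm
  rw [TMul.res_tm, res_res, res_res] at h1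
  rw [ha]
  exact h1.symm

/-- vanishing criterion -/
theorem tm_q_eq_zero_iff (D : Closeds X) {V : X.Opens} (a : Γ(X, V)) {g : Γ(L, V)} (hg : IsGen g) :
    tm ((q D).app V a) g = 0 ↔ ∀ x ∈ (D : Set X), x ∉ X.basicOpen a := by
  rw [← q_eq_zero_iff]
  refine ⟨fun h => ?_, fun h => by rw [h, TMul.zero_tm]⟩
  refine (TMul.tm_bijective (M := A D) hg V le_rfl).1 ?_
  show tm ((q D).app V a) (res L le_rfl g) = tm 0 (res L le_rfl g)
  rw [res_self, h, TMul.zero_tm]

theorem smul_tm_q (D : Closeds X) {V : X.Opens} (c b : Γ(X, V)) (g : Γ(L, V)) :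
    c • tm ((q D).app V b) g = tm ((q D).app V (show Γ(X, V) from c * b)) g := by
  rw [q_app_mul, TMul.smul_tm]

/-- sections away from `D` vanish -/
theorem eq_zero_of_disjoint (hL : PicF.IsInvertible L) (D : Closeds X) {W : X.Opens} (s : Γ(M D L, W))
    (h : ∀ x ∈ (D : Set X), x ∉ W) : s = 0 :=
  section_eq_of_locally fun x hx => by
    obtain ⟨V, hV, g, a, hxV, hg, hs⟩ := exists_pres hL D s hx
    refine ⟨V, hV, hxV, ?_⟩
    rw [hs, map_zero]
    exact (tm_q_eq_zero_iff D a hg).2 fun y hy hya => h y hy (hV (X.basicOpen_le a hya))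

/-- sections killed on both parts vanish -/
theorem eq_zero_of_cover (hL : PicF.IsInvertible L) {D D' D'' : Closeds X} (h' : D' ≤ D) (h'' : D'' ≤ D)
    (hc : (D : Set X) ⊆ (D' : Set X) ∪ D'') {W : X.Opens} (s : Γ(M D L, W))
    (hs' : (rL D D' h' L).app W s = 0) (hs'' : (rL D D'' h'' L).app W s = 0) : s = 0 :=
  section_eq_of_locally fun x hx => by
    obtain ⟨V, hV, g, a, hxV, hg, hs⟩ := exists_pres hL D s hx
    refine ⟨V, hV, hxV, ?_⟩
    have key : ∀ (E : Closeds X) (hE : E ≤ D), (rL D E hE L).app W s = 0 → ∀ y ∈ (E : Set X), y ∉ X.basicOpen a := by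
      intro E hE h0
      refine (tm_q_eq_zero_iff (L := L) E a hg).1 ?_
      rw [← rL_tm D E hE, ← hs, ← app_res, h0, map_zero]
    rw [hs, map_zero]
    refine (tm_q_eq_zero_iff D a hg).2 fun y hy => ?_
    rcases hc hy with hy | hy
    · exact key D' h' hs' y hy
    · exact key D'' h'' hs'' y hy

/-- `M D` is killed by functions vanishing on `D` -/
theorem smul_eq_zero (hL : PicF.IsInvertible L) (D : Closeds X) {W : X.Opens} (c : Γ(X, W))
    (hc : (q D).app W c = 0) (s : Γ(M D L, W)) : c • s = 0 :=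
  section_eq_of_locally fun x hx => by
    obtain ⟨V, hV, g, a, hxV, hg, hs⟩ := exists_pres hL D s hx
    refine ⟨V, hV, hxV, ?_⟩
    rw [res_smul, hs, smul_tm_q, map_zero]
    refine (tm_q_eq_zero_iff D _ hg).2 fun y hy hya => (q_eq_zero_iff D c).1 hc y hy ?_
    rw [X.basicOpen_mul] at hya
    exact (X.basicOpen_res c (homOfLE hV).op).le hya.1 |>.2

/-- maps `O → M D` factor through `A D` -/
theorem idealι_comp (hL : PicF.IsInvertible L) (D : Closeds X) (t : Coh.structureModule X ⟶ M D L) :
    ClSub.idealModι (vI D) ≫ t = 0 := by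
  refine Scheme.Modules.hom_ext _ _ fun W => ?_
  ext c
  show t.app W ((ClSub.idealModι (vI D)).app W c) = 0
  rw [TMul.app_eq_smul]
  exact smul_eq_zero hL D _
    (ConcreteCategory.congr_hom (congrArg (fun ψ => Scheme.Modules.Hom.app ψ W) (kernel.condition (ClSub.toSubscheme (vI D)))) c) _

end Groth.Agent.DualGeneric.Sub
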