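import Groth.Agent.DualGeneric.GlobalField
import Groth.Agent.DualGeneric.SubA
import Groth.Agent.CurveRR.Point
import Groth.Agent.CurveRR.GlobGen
import Groth.Agent.Intersect.ProperInt
import Groth.Agent.DimZeroFT.Basic

/-!
Global functions of closed subschemes of a proper scheme.
-/

set_option autoImplicit false
set_option backward.isDefEq.respectTransparency false
set_option backward.isDefEq.respectTransparency.types false
set_option linter.style.haveILetI false
set_option maxHeartbeats 1000000

universe u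

open CategoryTheory CategoryTheory.Limits AlgebraicGeometry TopologicalSpace Opposite
open Groth.Agent.CohFinite

noncomputable section

namespace Groth.Agent.DualGeneric.Sub

variable {X : Scheme.{u}}

/-- a scheme whose functions have only trivial idempotents is connected -/
theorem preconnectedSpace_of_idempotent (h : ∀ e : Γ(X, ⊤), IsIdempotentElem e → e = 0 ∨ e = 1) :
    PreconnectedSpace X := by
  refine preconnectedSpace_iff_clopen.2 fun s hs => ?_
  by_contra! hne
  obtain ⟨⟨a, ha⟩, hb⟩ := hne
  obtain ⟨b, hb⟩ := (Set.ne_univ_iff_exists_notMem _).1 hb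
  let U : Bool → X.Opens := fun i => if i then ⟨s, hs.isOpen⟩ else ⟨sᶜ, hs.compl.isOpen⟩
  let sf : ∀ i : Bool, ToType (X.sheaf.1.obj (op (U i))) := fun i => if i then (1 : Γ(X, U i)) else (0 : Γ(X, U i))
  have hd : ∀ x, x ∈ U true → x ∈ U false → False := fun x h1 h2 => h2 h1
  have hcomp : TopCat.Presheaf.IsCompatible X.sheaf.1 U sf := fun i j => by
    by_cases hij : i = j
    · subst hij; rfl
    · haveI : Subsingleton (ToType (X.sheaf.1.obj (op (U i ⊓ U j)))) :=
        CommRingCat.subsingleton_of_isTerminal (X.sheaf.isTerminalOfEqEmpty (Opens.ext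
          (Set.eq_empty_of_forall_notMem fun x hx => by
            cases i <;> cases j
            · exact hij rfl
            · exact hd x hx.2 hx.1
            · exact hd x hx.1 hx.2
            · exact hij rfl)))
      exact Subsingleton.elim _ _
  obtain ⟨e, he, hu⟩ := X.sheaf.existsUnique_gluing' U ⊤ (fun i => homOfLE le_top) (fun x _ => by
    by_cases hx : x ∈ s
    · exact Opens.mem_iSup.2 ⟨true, hx⟩
    · exact Opens.mem_iSup.2 ⟨false, hx⟩) sf hcomp
  have hee : IsIdempotentElem (show Γ(X, ⊤) from e) := hu _ fun i => by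
    refine (map_mul (X.presheaf.map (homOfLE (le_top : U i ≤ ⊤)).op).hom _ _).trans ?_
    rw [show (X.presheaf.map (homOfLE (le_top : U i ≤ ⊤)).op).hom e = sf i from he i]
    cases i
    · exact mul_zero _
    · exact mul_one _
  have hval : ∀ (c : Γ(X, ⊤)) (i : Bool) (x : X), x ∈ U i →
      (x ∈ X.basicOpen c ↔ x ∈ X.basicOpen ((X.presheaf.map (homOfLE (le_top : U i ≤ ⊤)).op).hom c)) :=
    fun c i x hx => by rw [Scheme.basicOpen_res]; exact ⟨fun h => ⟨hx, h⟩, fun h => h.2⟩
  rcases h _ hee with h0 | h1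
  · have hm : a ∈ X.basicOpen (show Γ(X, ⊤) from e) := (hval _ true a ha).2 (by
      rw [show (X.presheaf.map (homOfLE (le_top : U true ≤ ⊤)).op).hom e = sf true from he true]
      exact (X.basicOpen_of_isUnit (isUnit_one : IsUnit (1 : Γ(X, U true)))).ge ha)
    rw [h0, Scheme.basicOpen_zero] at hm
    exact hm
  · have hm : b ∈ X.basicOpen (show Γ(X, ⊤) from e) := by
      rw [h1, X.basicOpen_of_isUnit isUnit_one]; trivial
    have hm' := (hval _ false b hb).1 hm
    rw [show (X.presheaf.map (homOfLE (le_top : U false ≤ ⊤)).op).hom e = (0 : Γ(X, U false)) from he false,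
      Scheme.basicOpen_zero] at hm'
    exact hm'

variable (k : Type u) [Field k] [X.Over (Spec (CommRingCat.of k))]

/-- the `k`-algebra of global functions of a closed subscheme -/
@[reducible] def algI (I : X.IdealSheafData) : Algebra k Γ(I.subscheme, ⊤) :=
  (Coh.toGlobal (I.subschemeι ≫ (X ↘ Spec (CommRingCat.of k)))).toAlgebra

variable [IsProper (X ↘ Spec (CommRingCat.of k))]

theorem h0_quotMod_eq (I : X.IdealSheafData) :
    CurveRR.h k (ClSub.quotMod I) 0 = @Module.finrank k Γ(I.subscheme, ⊤) _ _ (algI k I).toModule := by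
  letI := CurveRR.secMod k (ClSub.quotMod I) ⊤
  letI := algI k I
  rw [← CurveRR.finrank_sec]
  let e : Γ(ClSub.quotMod I, ⊤) ≃ₗ[k] Γ(I.subscheme, ⊤) :=
    { toFun := fun t => t
      invFun := fun t => t
      left_inv := fun _ => rfl
      right_inv := fun _ => rfl
      map_add' := fun _ _ => rfl
      map_smul' := fun a t => by
        show HMul.hMul (α := Γ(I.subscheme, ⊤)) (β := Γ(I.subscheme, ⊤)) ((I.subschemeι.app ⊤).hom (CurveRR.cst k X ⊤ a)) t = HMul.hMul (α := Γ(I.subscheme, ⊤)) (β := Γ(I.subscheme, ⊤)) (Coh.toGlobal (I.subschemeι ≫ (X ↘ Spec (CommRingCat.of k))) a) t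
        rw [show CurveRR.cst k X ⊤ a = Coh.toGlobal (X ↘ Spec (CommRingCat.of k)) a from
          Groth.Agent.QC.resO_self _ _]
        rfl }
  exact e.finrank_eq

theorem finite_algI (I : X.IdealSheafData) : @Module.Finite k Γ(I.subscheme, ⊤) _ _ (algI k I).toModule := by
  haveI := CurveRR.isNoetherian_of_proper k X
  letI := algI k I
  letI := CurveRR.secMod k (ClSub.quotMod I) ⊤
  haveI := finite_proper k X _ (CurveRR.isCoh_idealMod I).2 0
  haveI : Module.Finite k Γ(ClSub.quotMod I, ⊤) := Module.Finite.equiv (CurveRR.secH0 (k := k) (ClSub.quotMod I)).symm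
  let e : Γ(ClSub.quotMod I, ⊤) →ₗ[k] Γ(I.subscheme, ⊤) :=
    { toFun := fun t => t
      map_add' := fun _ _ => rfl
      map_smul' := fun a t => by
        show HMul.hMul (α := Γ(I.subscheme, ⊤)) (β := Γ(I.subscheme, ⊤)) ((I.subschemeι.app ⊤).hom (CurveRR.cst k X ⊤ a)) t = HMul.hMul (α := Γ(I.subscheme, ⊤)) (β := Γ(I.subscheme, ⊤)) (Coh.toGlobal (I.subschemeι ≫ (X ↘ Spec (CommRingCat.of k))) a) t
        rw [show CurveRR.cst k X ⊤ a = Coh.toGlobal (X ↘ Spec (CommRingCat.of k)) a from
          Groth.Agent.QC.resO_self _ _]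
        rfl }
  exact Module.Finite.of_surjective e fun t => ⟨t, rfl⟩

theorem toGlobal_inclusion {I J : X.IdealSheafData} (h : I ≤ J) (a : k) :
    (Scheme.IdealSheafData.inclusion h).appTop.hom (Coh.toGlobal (I.subschemeι ≫ (X ↘ Spec (CommRingCat.of k))) a) =
      Coh.toGlobal (J.subschemeι ≫ (X ↘ Spec (CommRingCat.of k))) a := by
  conv_rhs => rw [← Scheme.IdealSheafData.inclusion_subschemeι h, Category.assoc]
  rfl

/-- functions of a connected reduced subscheme act on those of smaller subschemes -/
theorem h0_dvd {I J : X.IdealSheafData} (h : I ≤ J) [IsReduced I.subscheme] [ConnectedSpace I.subscheme] :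
    CurveRR.h k (ClSub.quotMod I) 0 ∣ CurveRR.h k (ClSub.quotMod J) 0 := by
  letI : I.subscheme.Over (Spec (CommRingCat.of k)) := ⟨I.subschemeι ≫ (X ↘ Spec (CommRingCat.of k))⟩
  haveI : IsProper (I.subscheme ↘ Spec (CommRingCat.of k)) :=
    inferInstanceAs (IsProper (I.subschemeι ≫ (X ↘ Spec (CommRingCat.of k))))
  rw [h0_quotMod_eq, h0_quotMod_eq]
  letI := algI k I
  letI := algI k J
  letI : Field Γ(I.subscheme, ⊤) := (isField_gamma k (X := I.subscheme)).toField
  letI : Algebra Γ(I.subscheme, ⊤) Γ(J.subscheme, ⊤) := (Scheme.IdealSheafData.inclusion h).appTop.hom.toAlgebra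
  haveI : IsScalarTower k Γ(I.subscheme, ⊤) Γ(J.subscheme, ⊤) :=
    IsScalarTower.of_algebraMap_eq fun a => (toGlobal_inclusion k h a).symm
  exact Dvd.intro _ (Module.finrank_mul_finrank k Γ(I.subscheme, ⊤) Γ(J.subscheme, ⊤))

/-- a zero-dimensional subscheme with the functions of a field is a reduced point -/
theorem point_of_h0_eq {I J : X.IdealSheafData} (h : I ≤ J) [IsReduced I.subscheme] [ConnectedSpace I.subscheme]
    (hJ : topologicalKrullDim (J.support : Set X) ≤ 0)
    (he : CurveRR.h k (ClSub.quotMod J) 0 = CurveRR.h k (ClSub.quotMod I) 0) :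
    Nonempty J.subscheme ∧ Subsingleton J.subscheme ∧ IsReduced J.subscheme ∧
      ∀ c : J.subscheme, Function.Bijective
        (I.subscheme.evaluation ⊤ ((Scheme.IdealSheafData.inclusion h).base c) trivial) := by
  letI : I.subscheme.Over (Spec (CommRingCat.of k)) := ⟨I.subschemeι ≫ (X ↘ Spec (CommRingCat.of k))⟩
  haveI : IsProper (I.subscheme ↘ Spec (CommRingCat.of k)) :=
    inferInstanceAs (IsProper (I.subschemeι ≫ (X ↘ Spec (CommRingCat.of k))))
  rw [h0_quotMod_eq, h0_quotMod_eq] at he
  letI := algI k I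
  letI := algI k J
  haveI := finite_algI k I
  haveI := finite_algI k J
  haveI hK := isField_gamma k (X := I.subscheme)
  letI : Field Γ(I.subscheme, ⊤) := hK.toField
  let r := (Scheme.IdealSheafData.inclusion h).appTop.hom
  have hpos : 0 < Module.finrank k Γ(I.subscheme, ⊤) := Module.finrank_pos
  haveI : Nontrivial Γ(J.subscheme, ⊤) := Module.nontrivial_of_finrank_pos (R := k) (he ▸ hpos)
  let rl : Γ(I.subscheme, ⊤) →ₗ[k] Γ(J.subscheme, ⊤) :=
    { toFun := r
      map_add' := map_add r
      map_smul' := fun a t => by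
        show r (HMul.hMul (α := Γ(I.subscheme, ⊤)) (β := Γ(I.subscheme, ⊤)) (Coh.toGlobal (I.subschemeι ≫ (X ↘ Spec (CommRingCat.of k))) a) t) = HMul.hMul (α := Γ(J.subscheme, ⊤)) (β := Γ(J.subscheme, ⊤)) (Coh.toGlobal (J.subschemeι ≫ (X ↘ Spec (CommRingCat.of k))) a) (r t)
        rw [map_mul, toGlobal_inclusion k h a] }
  have hinj : Function.Injective rl := RingHom.injective (r : Γ(I.subscheme, ⊤) →+* Γ(J.subscheme, ⊤))
  have hbij : Function.Bijective r := ⟨hinj, (LinearMap.injective_iff_surjective_of_finrank_eq_finrank he.symm).1 hinj⟩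
  have hF : IsField Γ(J.subscheme, ⊤) := (RingEquiv.ofBijective r hbij).symm.toMulEquiv.isField hK
  haveI hne : Nonempty J.subscheme := by
    by_contra hc
    haveI := not_nonempty_iff.1 hc
    exact not_subsingleton Γ(J.subscheme, ⊤) (CommRingCat.subsingleton_of_isTerminal
      (J.subscheme.sheaf.isTerminalOfEqEmpty (Opens.ext (Set.eq_empty_of_forall_notMem fun y => isEmptyElim y))))
  haveI := preconnectedSpace_of_idempotent (X := J.subscheme) fun e he' => by
    letI := hF.toField
    exact IsIdempotentElem.iff_eq_zero_or_one.1 he'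
  haveI hfin : Finite J.subscheme := by
    haveI := (CurveRR.finite_of_dim_le_zero (k := k) J.support.isClosed hJ).to_subtype
    exact Finite.of_injective (fun y => (⟨J.subschemeι y, J.range_subschemeι.le ⟨y, rfl⟩⟩ : (J.support : Set X)))
      fun a b hab => J.subschemeι.isClosedEmbedding.injective (congrArg Subtype.val hab)
  haveI : T1Space J.subscheme := ⟨fun y => by
    haveI : JacobsonSpace X := LocallyOfFiniteType.jacobsonSpace (X ↘ Spec (CommRingCat.of k))
    have h1 : IsClosed ({J.subschemeι y} : Set X) := Intersect.isClosed_singleton_of_finite J.support.isClosed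
      (CurveRR.finite_of_dim_le_zero (k := k) J.support.isClosed hJ) (J.range_subschemeι.le ⟨y, rfl⟩)
    have h2 := h1.preimage J.subschemeι.continuous
    rwa [← Set.image_singleton, Set.preimage_image_eq _ J.subschemeι.isClosedEmbedding.injective] at h2⟩
  haveI hss : Subsingleton J.subscheme := by
    haveI : ConnectedSpace J.subscheme := ⟨inferInstance⟩
    exact PreconnectedSpace.trivial_of_discrete
  haveI haff : IsAffine J.subscheme := by
    obtain ⟨V, hV, hyV, -⟩ := exists_isAffineOpen_mem_and_subset (X := J.subscheme) (U := ⊤)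
      (x := hne.some) trivial
    have hVtop : V = ⊤ := top_le_iff.1 fun y _ => (Subsingleton.elim hne.some y) ▸ hyV
    rw [hVtop] at hV
    haveI : IsAffine ((⊤ : J.subscheme.Opens) : Scheme.{u}) := hV
    exact IsAffine.of_isIso J.subscheme.topIso.inv
  haveI hred : IsReduced J.subscheme := by
    haveI : _root_.IsReduced Γ(J.subscheme, ⊤) := by
      letI := hF.toField
      infer_instance
    exact isReduced_of_isOpenImmersion J.subscheme.isoSpec.hom
  refine ⟨hne, hss, hred, fun c => ?_⟩
  refine ⟨?_, fun t => ?_⟩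
  · exact RingHom.injective (I.subscheme.evaluation ⊤ ((Scheme.IdealSheafData.inclusion h).base c) trivial).hom
  let incl := Scheme.IdealSheafData.inclusion h
  have hg := DimZeroFT.bijective_germ (X := J.subscheme)
  obtain ⟨v, hv⟩ := IsLocalRing.residue_surjective (incl.residueFieldMap c t)
  obtain ⟨w, hw⟩ := hg.2 (fun x => (Subsingleton.elim c x) ▸ v)
  obtain ⟨s, rfl⟩ := hbij.2 w
  refine ⟨s, RingHom.injective (incl.residueFieldMap c).hom ?_⟩
  refine (Scheme.Γevaluation_naturality_apply incl c s).trans ?_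
  rw [← hv]
  exact congrArg (J.subscheme.residue c) (congrFun hw c)

end Groth.Agent.DualGeneric.Sub
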