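import Groth.Agent.DualGeneric.SubI
import Groth.Agent.DualGeneric.SubK
import Groth.Agent.DualGeneric.GorInv
import Groth.Agent.NodalRed.Gor

/-!
Rational tails and bridges: degrees of the dualizing module on components.
-/

set_option autoImplicit false
set_option backward.isDefEq.respectTransparency false
set_option backward.isDefEq.respectTransparency.types false
set_option linter.style.haveILetI false
set_option maxHeartbeats 1000000

universe u

open CategoryTheory CategoryTheory.Limits AlgebraicGeometry TopologicalSpace Opposite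
open Groth.Agent.CohFinite

attribute [local instance] HasDerivedCategory.standard

noncomputable section

namespace Groth.Agent.DualGeneric.Sub

variable (k : Type u) [Field k] {X : Scheme.{u}} [X.Over (Spec (CommRingCat.of k))]
  [IsProper (X ↘ Spec (CommRingCat.of k))]

include k in
/-- one-dimensional functions force connectedness -/
theorem connectedSpace_of_h0 (h0 : Module.finrank k (Coh.HH X (Coh.structureModule X) 0) = 1) : ConnectedSpace X := by
  change CurveRR.h k (Coh.structureModule X) 0 = 1 at h0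
  letI := CurveRR.secMod k (Coh.structureModule X) ⊤
  rw [← CurveRR.finrank_sec] at h0
  haveI : Nontrivial Γ(Coh.structureModule X, ⊤) := Module.nontrivial_of_finrank_pos (R := k) (by omega)
  haveI : Nontrivial Γ(X, ⊤) := ‹Nontrivial Γ(Coh.structureModule X, ⊤)›
  haveI hne : Nonempty X := by
    by_contra hc
    haveI := not_nonempty_iff.1 hc
    exact not_subsingleton Γ(X, ⊤) (CommRingCat.subsingleton_of_isTerminal
      (X.sheaf.isTerminalOfEqEmpty (Opens.ext (Set.eq_empty_of_forall_notMem fun y => isEmptyElim y))))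
  haveI := preconnectedSpace_of_idempotent (X := X) fun e he => by
    obtain ⟨c, hc⟩ := exists_smul_eq_of_finrank_eq_one h0 (show (1 : Γ(X, ⊤)) ≠ 0 from one_ne_zero)
      (show Γ(Coh.structureModule X, ⊤) from e)
    have hc' : e = CurveRR.cst k X ⊤ c := hc.symm.trans (mul_one (M := Γ(X, ⊤)) _)
    rw [hc'] at he ⊢
    rcases IsIdempotentElem.iff_eq_zero_or_one.1 (show IsIdempotentElem c from
      (CurveRR.cst k X ⊤).injective (by rw [map_mul]; exact he)) with rfl | rfl
    · exact Or.inl (map_zero _)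
    · exact Or.inr (map_one _)
  exact ⟨hne⟩

omit [IsProper (X ↘ Spec (CommRingCat.of k))] [X.Over (Spec (CommRingCat.of k))] in
omit k [Field k] in
/-- the kernel of a map from a reduced scheme is the reduced ideal of the closure of its image -/
theorem ker_eq_vI {Y : Scheme.{u}} (f : Y ⟶ X) [QuasiCompact f] [AlgebraicGeometry.IsReduced Y] :
    f.ker = vI ⟨closure (Set.range f), isClosed_closure⟩ := by
  rw [← Scheme.Hom.support_ker f |> Closeds.ext (t := ⟨closure (Set.range f), isClosed_closure⟩),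
    show vI f.ker.support = f.ker.radical from Scheme.IdealSheafData.vanishingIdeal_support]
  refine Scheme.IdealSheafData.ext (funext fun U => ?_)
  show f.ker.ideal U = (f.ker.ideal U).radical
  rw [Scheme.Hom.ker_apply]
  refine le_antisymm Ideal.le_radical ?_
  rintro x ⟨n, hn⟩
  rw [RingHom.mem_ker] at hn ⊢
  rw [map_pow] at hn
  exact IsNilpotent.eq_zero ⟨n, hn⟩

section

variable (C : Set X) (hC : C ∈ irreducibleComponents (X : Type u))

/-- the component as a subscheme -/
abbrev cI : X.IdealSheafData :=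
  Scheme.IdealSheafData.vanishingIdeal ⟨C, isClosed_of_mem_irreducibleComponents C hC⟩

/-- the other components -/
abbrev cI' : X.IdealSheafData :=
  (Scheme.Opens.ι (⟨Cᶜ, (isClosed_of_mem_irreducibleComponents C hC).isOpen_compl⟩ : X.Opens)).ker

instance isReduced_cI : AlgebraicGeometry.IsReduced (cI C hC).subscheme := DvrDom.isReduced_vanishingIdeal_subscheme _

instance connected_cI : ConnectedSpace (cI C hC).subscheme := connected_subscheme _ hC.1.isConnected

include k in
theorem dim_cI [ConnectedSpace X] (hdim : topologicalKrullDim X = 1) :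
    topologicalKrullDim (cI C hC).subscheme = 1 := by
  rw [(cI C hC).subschemeι.isClosedEmbedding.isEmbedding.toHomeomorph.isHomeomorph.topologicalKrullDim_eq,
    range_ι]
  exact dim_component_eq_one k hdim C hC

include k in
theorem cI'_eq [AlgebraicGeometry.IsReduced X] :
    cI' C hC = Scheme.IdealSheafData.vanishingIdeal ⟨closure (((cI C hC).support : Set X)ᶜ), isClosed_closure⟩ := by
  haveI := CurveRR.isNoetherian_of_proper k X
  rw [cI', ker_eq_vI]
  refine congrArg vI (Closeds.ext ?_)
  show closure (Set.range _) = closure (_ : Set X)ᶜ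
  rw [Scheme.Opens.range_ι, Scheme.IdealSheafData.coe_support_vanishingIdeal]
  rfl

end

variable [AlgebraicGeometry.IsReduced X]

/-- numerical data of the dualizing module on a reduced connected subcurve -/
theorem facts [DCoh.HasRpush (X ↘ Spec (CommRingCat.of k))]
    (h : DCoh.RpushPreservesQCoh (X ↘ Spec (CommRingCat.of k))) [DCoh.HasShriek (X ↘ Spec (CommRingCat.of k)) h]
    (OY : DCoh.DQCoh (Spec (CommRingCat.of k)))
    (hOY : Nonempty (OY.obj ≅ DCoh.inD (Spec (CommRingCat.of k)) (Coh.structureModule (Spec (CommRingCat.of k)))))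
    (hω : PicF.IsInvertible (DCoh.dualizingMod (X ↘ Spec (CommRingCat.of k)) h OY 1))
    [ConnectedSpace X] (hdim : topologicalKrullDim X = 1)
    (J : X.IdealSheafData) [AlgebraicGeometry.IsReduced J.subscheme] [ConnectedSpace J.subscheme]
    (hJ : topologicalKrullDim J.subscheme = 1) :
    let W := J ⊔ Scheme.IdealSheafData.vanishingIdeal ⟨closure ((J.support : Set X)ᶜ), isClosed_closure⟩
    @Curv2.deg k _ J.subscheme ⟨J.subschemeι ≫ (X ↘ (Spec (CommRingCat.of k)))⟩
        ((Scheme.Modules.pullback J.subschemeι).obj (DCoh.dualizingMod (X ↘ Spec (CommRingCat.of k)) h OY 1)) 1 =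
      2 * (CurveRR.h k (ClSub.quotMod J) 1 : ℤ) - 2 * (CurveRR.h k (ClSub.quotMod J) 0 : ℤ) +
        (CurveRR.h k (ClSub.quotMod W) 0 : ℤ) ∧
    CurveRR.h k (ClSub.quotMod J) 0 ∣ CurveRR.h k (ClSub.quotMod W) 0 ∧
    0 < CurveRR.h k (ClSub.quotMod J) 0 ∧
    (CurveRR.h k (ClSub.quotMod J) 1 = 0 ∨ CurveRR.h k (ClSub.quotMod J) 0 ≤ CurveRR.h k (ClSub.quotMod J) 1) ∧
    topologicalKrullDim (W.support : Set X) ≤ 0 ∧
    (CurveRR.h k (ClSub.quotMod W) 0 = 0 → J = ⊥) := by
  classical
  intro W
  obtain ⟨S₀, hI, hcl, -⟩ := exists_gens k (X := X)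
  obtain ⟨S, hS, -, -, hJe, hcompl⟩ := exists_sub k hdim.le hI hcl J hJ
  obtain ⟨tr, ht⟩ := exists_trace k h OY hOY hdim.le
  have hd := deg_omega_J k hω ht hdim.le J hJ
  letI : J.subscheme.Over (Spec (CommRingCat.of k)) := ⟨J.subschemeι ≫ (X ↘ Spec (CommRingCat.of k))⟩
  haveI : IsProper (J.subscheme ↘ Spec (CommRingCat.of k)) :=
    inferInstanceAs (IsProper (J.subschemeι ≫ (X ↘ Spec (CommRingCat.of k))))
  haveI := CurveRR.isNoetherian_of_proper k J.subscheme
  have hA : ∀ i, CurveRR.h k (ClSub.quotMod J) i = CurveRR.h k (Coh.structureModule J.subscheme) i := fun i => by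
    subst hJe
    exact hh_push_facts k (clo S) _ isQCoh_O i
  have hne : (J.support : Set X).Nonempty := by
    obtain ⟨y⟩ : Nonempty J.subscheme := inferInstance
    exact ⟨J.subschemeι y, J.range_subschemeι.le ⟨y, rfl⟩⟩
  refine ⟨?_, h0_dvd k le_sup_left, CurveRR.h0_quotMod_pos J hne, ?_, ?_, fun h0 => ?_⟩
  · change _ = _ + (CurveRR.h k (ClSub.quotMod W) 0 : ℤ) at hd
    rw [CurveRR.euler_eq hJ.le, ← hA 0, ← hA 1] at hd
    omega
  · rw [hA 0, hA 1]
    rcases Nat.eq_zero_or_pos (CurveRR.h k (Coh.structureModule J.subscheme) 1) with h1 | h1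
    · exact Or.inl h1
    · haveI := finite_proper k J.subscheme _ RefStalk.isCoh_structureModule 1
      exact Or.inr (h0_le_hh k _ RefStalk.isCoh_structureModule 1 (Module.finrank_pos_iff.1 h1))
  · show topologicalKrullDim (((J ⊔ _ : X.IdealSheafData)).support : Set X) ≤ 0
    rw [hcompl, hJe]
    refine dim_inter_le k hdim.le (T := S₀ \ S) (T' := S) fun ξ hξ hx => ?_
    obtain ⟨η, hη, hxη⟩ := mem_clo.1 hx
    exact (Finset.mem_sdiff.1 hξ).2 ((hI ξ (Finset.mem_sdiff.1 hξ).1 η (hS hη) hxη).symm ▸ hη)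
  · have hdisj : ∀ x ∈ (J.support : Set X), x ∉ closure (J.support : Set X)ᶜ := fun x hx hx' => by
      have := CurveRR.h0_quotMod_pos (k := k) W ⟨x, by
        rw [Scheme.IdealSheafData.support_sup]
        refine ⟨hx, ?_⟩
        rw [Scheme.IdealSheafData.coe_support_vanishingIdeal]
        exact hx'⟩
      omega
    have hop : IsOpen (J.support : Set X) := by
      rw [← isClosed_compl_iff]
      exact closure_subset_iff_isClosed.1 fun x hx hxS => hdisj x hxS hx
    exact Scheme.IdealSheafData.support_eq_top_iff.1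
      (Closeds.ext ((isClopen_iff.1 ⟨J.support.isClosed, hop⟩).resolve_left hne.ne_empty))

end Groth.Agent.DualGeneric.Sub

namespace Groth.Agent.DualGeneric.Sub

variable (k : Type u) [Field k] {X : Scheme.{u}} [X.Over (Spec (CommRingCat.of k))]
  [IsProper (X ↘ Spec (CommRingCat.of k))] (C : Set X) (hC : C ∈ irreducibleComponents (X : Type u))

theorem h_cI (i : ℕ) :
    CurveRR.h k (ClSub.quotMod (cI C hC)) i = @CurveRR.h k _ (cI C hC).subscheme
      ⟨(cI C hC).subschemeι ≫ (X ↘ Spec (CommRingCat.of k))⟩ (Coh.structureModule (cI C hC).subscheme) i :=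
  hh_push_facts k _ _ isQCoh_O i

theorem subsingleton_h1_cI_iff :
    Subsingleton (Coh.HH (cI C hC).subscheme (Coh.structureModule (cI C hC).subscheme) 1) ↔
      CurveRR.h k (ClSub.quotMod (cI C hC)) 1 = 0 := by
  letI : (cI C hC).subscheme.Over (Spec (CommRingCat.of k)) := ⟨(cI C hC).subschemeι ≫ (X ↘ Spec (CommRingCat.of k))⟩
  haveI : IsProper ((cI C hC).subscheme ↘ Spec (CommRingCat.of k)) :=
    inferInstanceAs (IsProper ((cI C hC).subschemeι ≫ (X ↘ Spec (CommRingCat.of k))))
  haveI := CurveRR.isNoetherian_of_proper k (cI C hC).subscheme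
  rw [h_cI]
  haveI := finite_proper k (cI C hC).subscheme _ RefStalk.isCoh_structureModule 1
  exact ⟨fun h => CurveRR.h_eq_zero h, fun h => Module.finrank_zero_iff.1 h⟩

/-- a component meeting the rest in as many functions as it has, with no cohomology, is a rational tail -/
theorem isRationalTail_of [AlgebraicGeometry.IsReduced X]
    (hW : topologicalKrullDim ((cI C hC ⊔ cI' C hC).support : Set X) ≤ 0)
    (h1 : CurveRR.h k (ClSub.quotMod (cI C hC)) 1 = 0)
    (he : CurveRR.h k (ClSub.quotMod (cI C hC ⊔ cI' C hC)) 0 = CurveRR.h k (ClSub.quotMod (cI C hC)) 0) :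
    Curv2.IsRationalTail X C hC := by
  obtain ⟨hne, hss, hred, hev⟩ := point_of_h0_eq k (le_sup_left : cI C hC ≤ cI C hC ⊔ cI' C hC) hW he
  refine ⟨?_, hne, hss, hred, hev, (subsingleton_h1_cI_iff k C hC).2 h1⟩
  obtain ⟨y⟩ := hne
  have hy := (cI C hC ⊔ cI' C hC).range_subschemeι.le ⟨y, rfl⟩
  rw [Scheme.IdealSheafData.support_sup] at hy
  exact ⟨_, hy.2⟩

/-- a rational tail meets the rest in as many functions as it has -/
theorem h0_tail (hT : Curv2.IsRationalTail X C hC) :
    CurveRR.h k (ClSub.quotMod (cI C hC ⊔ cI' C hC)) 0 = CurveRR.h k (ClSub.quotMod (cI C hC)) 0 := by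
  obtain ⟨-, hne, hss, hred, hev, -⟩ := hT
  let I := cI C hC
  let W := cI C hC ⊔ cI' C hC
  letI : I.subscheme.Over (Spec (CommRingCat.of k)) := ⟨I.subschemeι ≫ (X ↘ Spec (CommRingCat.of k))⟩
  haveI : IsProper (I.subscheme ↘ Spec (CommRingCat.of k)) :=
    inferInstanceAs (IsProper (I.subschemeι ≫ (X ↘ Spec (CommRingCat.of k))))
  rw [h0_quotMod_eq, h0_quotMod_eq]
  letI := algI k I
  letI := algI k W
  haveI hK := isField_gamma k (X := I.subscheme)
  letI : Field Γ(I.subscheme, ⊤) := hK.toField
  obtain ⟨c⟩ := hne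
  haveI : Nontrivial Γ(W.subscheme, ⊤) := (W.subscheme.presheaf.germ ⊤ c trivial).hom.domain_nontrivial
  let incl := Scheme.IdealSheafData.inclusion (le_sup_left : I ≤ W)
  let r := incl.appTop.hom
  let rl : Γ(I.subscheme, ⊤) →ₗ[k] Γ(W.subscheme, ⊤) :=
    { toFun := r
      map_add' := map_add r
      map_smul' := fun a t => by
        show r (HMul.hMul (α := Γ(I.subscheme, ⊤)) (β := Γ(I.subscheme, ⊤)) (Coh.toGlobal (I.subschemeι ≫ (X ↘ Spec (CommRingCat.of k))) a) t) = HMul.hMul (α := Γ(W.subscheme, ⊤)) (β := Γ(W.subscheme, ⊤)) (Coh.toGlobal (W.subschemeι ≫ (X ↘ Spec (CommRingCat.of k))) a) (r t)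
        rw [map_mul, toGlobal_inclusion k (le_sup_left : I ≤ W) a] }
  refine (LinearEquiv.ofBijective rl ⟨RingHom.injective (r : Γ(I.subscheme, ⊤) →+* Γ(W.subscheme, ⊤)), fun w => ?_⟩).finrank_eq.symm
  haveI : IsClosedImmersion incl := inferInstance
  obtain ⟨v, hv⟩ := IsLocalRing.residue_surjective (W.subscheme.Γevaluation c w)
  obtain ⟨v', rfl⟩ := incl.stalkMap_surjective c v
  obtain ⟨s, hs⟩ := (hev c).2 (I.subscheme.residue (incl c) v')
  refine ⟨s, ?_⟩
  have h0 : W.subscheme.Γevaluation c (w - r s) = 0 := by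
    rw [map_sub, sub_eq_zero, ← Scheme.Γevaluation_naturality_apply incl c s]
    refine hv.symm.trans ?_
    rw [show I.subscheme.Γevaluation (incl c) s = I.subscheme.residue (incl c) v' from hs]
    rfl
  have hb : W.subscheme.basicOpen (w - r s) = ⊥ := Opens.ext (Set.eq_empty_of_forall_notMem fun y hy =>
    (Scheme.evaluation_eq_zero_iff_notMem_basicOpen (X := W.subscheme) (U := ⊤) c trivial _).1 h0
      ((Subsingleton.elim y c) ▸ hy))
  exact (sub_eq_zero.1 (eq_zero_of_basicOpen_eq_bot _ hb)).symm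

/-- on an irreducible curve the only component is everything -/
theorem h_cI_univ [AlgebraicGeometry.IsReduced X] (hbot : cI C hC = ⊥) (i : ℕ) :
    CurveRR.h k (ClSub.quotMod (cI C hC)) i = CurveRR.h k (Coh.structureModule X) i := by
  haveI := isIso_q_top (X := X) (D := ⟨C, isClosed_of_mem_irreducibleComponents C hC⟩) (by
    have := congrArg Scheme.IdealSheafData.support hbot
    rw [Scheme.IdealSheafData.support_bot] at this
    rw [← this]
    exact Closeds.ext (Scheme.IdealSheafData.coe_support_vanishingIdeal _).symm)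
  exact (CurveRR.h_eq_of_iso (asIso (q (⟨C, isClosed_of_mem_irreducibleComponents C hC⟩ : Closeds X))) i).symm

end Groth.Agent.DualGeneric.Sub
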