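import Groth.Agent.CurveRR.Multi2
import Groth.Agent.CurveRR.Deg
import Groth.Agent.TMul.Pullback
import Groth.Agent.TopDegRep.Basic

/-!
Sections of line bundles of negative degree on every component vanish.
-/

set_option autoImplicit false
set_option backward.isDefEq.respectTransparency false
set_option backward.isDefEq.respectTransparency.types false
set_option linter.style.haveILetI false
set_option maxHeartbeats 1000000

universe u

open CategoryTheory CategoryTheory.Limits AlgebraicGeometry TopologicalSpace Opposite
open Groth.Agent.QC (res resO res_res res_smul)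

noncomputable section

namespace Groth.Agent.DualGeneric

variable {X : Scheme.{u}}

/-- the zero section generates nowhere -/
theorem notMem_genLocus_zero (L : X.Modules) (x : X) :
    x ∉ CohB1.genLocus L (0 : Coh.structureModule X ⟶ L) := fun h => by
  obtain ⟨U, hxU, hU⟩ := (TMul.mem_genLocus_iff _).mp h
  have hz : TMul.val (0 : Coh.structureModule X ⟶ L) U = 0 := rfl
  have h01 : (0 : Γ(X, U)) = 1 := (hU U le_rfl).1 (by
    show (0 : Γ(X, U)) • res L le_rfl (TMul.val (0 : Coh.structureModule X ⟶ L) U) =
      (1 : Γ(X, U)) • res L le_rfl (TMul.val (0 : Coh.structureModule X ⟶ L) U)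
    rw [hz, map_zero, smul_zero, smul_zero])
  have h' := congrArg (X.presheaf.germ U x hxU) h01
  rw [map_zero, map_one] at h'
  exact zero_ne_one h'

/-- on a reduced scheme a section generating nowhere is zero -/
theorem eq_zero_of_genLocus_empty [IsReduced X] {L : X.Modules} (hL : PicF.IsInvertible L)
    (s : Coh.structureModule X ⟶ L) (h : ∀ x, x ∉ CohB1.genLocus L s) : s = 0 := by
  refine TMul.hom_ext_val (QC.section_eq_of_locally fun x hx => ?_)
  obtain ⟨U, e, hxU, he⟩ := TMul.exists_isGen hL x
  obtain ⟨c, hc⟩ := (he U le_rfl).2 (TMul.val s U)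
  have hc' : TMul.val s U = c • e := by
    rw [← hc]
    show c • res L le_rfl e = c • e
    rw [Groth.Agent.QC.res_self]
  have hbot : X.basicOpen c = ⊥ := by
    refine le_bot_iff.1 fun y hy => ?_
    have hyU : y ∈ U := X.basicOpen_le c hy
    exact (h y ((TMul.mem_genLocus_iff_isUnit s he hc' hyU).2 ((X.mem_basicOpen c y hyU).1 hy))).elim
  have hc0 : c = 0 := (basicOpen_eq_bot_iff c).1 hbot
  refine ⟨U, le_top, hxU, ?_⟩
  rw [TMul.res_val, TMul.res_val, hc', hc0, zero_smul]
  rfl

variable (k : Type u) [Field k] [X.Over (Spec (CommRingCat.of k))] [IsProper (X ↘ Spec (CommRingCat.of k))]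

/-- Sections of negative degree on every component vanish. -/
theorem eq_zero_of_deg_neg [IsNoetherian X] [IsReduced X] (hdim : topologicalKrullDim X ≤ 1)
    {N : X.Modules} (hN : PicF.IsInvertible N)
    (hneg : ∀ (C : Set X) (hC : C ∈ irreducibleComponents (X : Type u)),
      CurveRR.Multi.degOn k (X.irreducibleComponentIdeal C hC).radical 1 N < 0)
    (s : Coh.structureModule X ⟶ N) : s = 0 := by
  refine eq_zero_of_genLocus_empty hN s fun x hx => ?_
  obtain ⟨C, hC, hxC⟩ := exists_mem_irreducibleComponents_subset_of_isIrreducible _ (isIrreducible_singleton (x := x))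
  let J := (X.irreducibleComponentIdeal C hC).radical
  let Z : irreducibleComponents (X : Type u) := ⟨C, hC⟩
  have hJ : J = Scheme.IdealSheafData.vanishingIdeal (Devissage.Zc Z.2.1.genericPoint) :=
    CurveRR.Multi.radical_component Z
  haveI hint : IsIntegral J.subscheme := by
    rw [hJ]
    exact Devissage.Zi_isIntegral _
  letI : J.subscheme.Over (Spec (CommRingCat.of k)) := ⟨J.subschemeι ≫ (X ↘ Spec (CommRingCat.of k))⟩
  haveI : IsProper (J.subscheme ↘ Spec (CommRingCat.of k)) :=
    inferInstanceAs (IsProper (J.subschemeι ≫ (X ↘ Spec (CommRingCat.of k))))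
  have hdimJ : topologicalKrullDim J.subscheme ≤ 1 :=
    (J.subschemeι.isClosedEmbedding.isInducing.topologicalKrullDim_le).trans hdim
  let i := J.subschemeι
  let e := (PicLoc.pullbackStructureIso i).symm
  have h0 : e.hom ≫ (Scheme.Modules.pullback i).map s = 0 := by
    by_contra hne
    have h1 := CurveRR.Easy.deg_nonneg (k := k) hdimJ (PicLoc.isInvertible_pullback i hN) _ hne
    exact absurd (hneg C hC) (not_lt.2 h1)
  obtain ⟨y, rfl⟩ : x ∈ Set.range i.base := by
    rw [Scheme.IdealSheafData.range_subschemeι, show J = _ from rfl, Scheme.IdealSheafData.support_radical]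
    exact hxC rfl
  have hg := TMul.genLocus_pullback i hN s e
  rw [h0] at hg
  exact notMem_genLocus_zero _ y (hg.ge hx)

end Groth.Agent.DualGeneric
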