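import Groth.Agent.CurveRR.Point
import Groth.Agent.CurveRR.Cartier

/-!
`h^0(O_P) = [κ(P) : k]`.
-/

set_option autoImplicit false
set_option backward.isDefEq.respectTransparency false
set_option backward.isDefEq.respectTransparency.types false
set_option linter.style.haveILetI false
set_option maxHeartbeats 1000000

universe u

open CategoryTheory CategoryTheory.Limits AlgebraicGeometry TopologicalSpace Opposite

noncomputable section

namespace Groth.Agent.DualGeneric

attribute [local instance] Curv2.resAlgebra

variable (k : Type u) [Field k] {X : Scheme.{u}} [X.Over (Spec (CommRingCat.of k))]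
  [IsProper (X ↘ Spec (CommRingCat.of k))]

theorem h0_quotMod_residue {P : X} (hP : IsClosed ({P} : Set X)) :
    CurveRR.h k (ClSub.quotMod (Scheme.IdealSheafData.vanishingIdeal ⟨{P}, hP⟩)) 0 =
      Module.finrank k (X.residueField P) := by
  haveI := CurveRR.isNoetherian_of_proper k X
  let I := Scheme.IdealSheafData.vanishingIdeal (⟨{P}, hP⟩ : Closeds X)
  haveI : IsReduced I.subscheme := Groth.Agent.DvrDom.isReduced_vanishingIdeal_subscheme _
  let i := I.subschemeι
  have hr : Set.range i = {P} := by
    rw [I.range_subschemeι]; simp [I]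
  obtain ⟨z, hz⟩ : P ∈ Set.range i := by rw [hr]; rfl
  haveI : Nonempty I.subscheme := ⟨z⟩
  haveI : Subsingleton I.subscheme := ⟨fun a b => i.isClosedEmbedding.injective
    ((hr.le ⟨a, rfl⟩ : i a = P).trans (hr.le ⟨b, rfl⟩ : i b = P).symm)⟩
  haveI : IrreducibleSpace I.subscheme :=
    { isPreirreducible_univ := Set.subsingleton_univ.isPreirreducible, toNonempty := inferInstance }
  haveI : IsIntegral I.subscheme := isIntegral_of_irreducibleSpace_of_isReduced _
  haveI : IsFinite (i ≫ (X ↘ Spec (CommRingCat.of k))) := CurveRR.isFinite_subscheme (CurveRR.point_dim hP)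
  haveI : IsAffine I.subscheme := isAffine_of_isAffineHom (i ≫ (X ↘ Spec (CommRingCat.of k)))
  suffices hsuff : CurveRR.h k (ClSub.quotMod I) 0 = Module.finrank k (X.residueField (i z)) from
    hsuff.trans (congrArg (fun Q => Module.finrank k (X.residueField Q)) hz)
  let A := Γ(I.subscheme, ⊤)
  have hA : IsField A := isField_of_universallyClosed k (i ≫ (X ↘ Spec (CommRingCat.of k)))
  letI : Algebra A (I.subscheme.presheaf.stalk z) := (I.subscheme.presheaf.germ ⊤ z trivial).hom.toAlgebra
  haveI : IsLocalization.AtPrime (I.subscheme.presheaf.stalk z) ((isAffineOpen_top I.subscheme).primeIdealOf ⟨z, trivial⟩).asIdeal :=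
    (isAffineOpen_top I.subscheme).isLocalization_stalk ⟨z, trivial⟩
  have hg : Function.Bijective (algebraMap A (I.subscheme.presheaf.stalk z)) := by
    refine IsField.localization_map_bijective (M := ((isAffineOpen_top I.subscheme).primeIdealOf ⟨z, trivial⟩).asIdeal.primeCompl) ?_ hA
    exact fun h => h (Ideal.zero_mem _)
  have hres : Function.Bijective (I.subscheme.residue z) := ⟨by
      letI := ((MulEquiv.isField hA (RingEquiv.ofBijective _ hg).symm.toMulEquiv)).toField
      exact (I.subscheme.residue z).hom.injective, IsLocalRing.residue_surjective⟩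
  have hmap : Function.Bijective (i.residueFieldMap z) := ⟨(i.residueFieldMap z).hom.injective, fun b => by
    obtain ⟨c, rfl⟩ := hres.2 b
    obtain ⟨a, rfl⟩ := i.stalkMap_surjective z c
    exact ⟨X.residue (i z) a, congrArg (fun q : X.presheaf.stalk (i z) ⟶ I.subscheme.residueField z => q.hom a)
      (Scheme.residue_residueFieldMap i z)⟩⟩
  letI := CurveRR.secMod k (ClSub.quotMod I) ⊤
  rw [← CurveRR.finrank_sec]
  let ev : Γ(I.subscheme, ⊤) →+* X.residueField (i z) :=
    ((RingEquiv.ofBijective (i.residueFieldMap z).hom hmap).symm.toRingHom).comp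
      ((I.subscheme.residue z).hom.comp (I.subscheme.presheaf.germ ⊤ z trivial).hom)
  have hev : Function.Bijective ev :=
    (RingEquiv.ofBijective (i.residueFieldMap z).hom hmap).symm.bijective.comp (hres.comp hg)
  have hconst : ∀ c : k, ev ((i.app ⊤).hom (CurveRR.cst k X ⊤ c)) = Curv2.resMap k X (i z) c := fun c => by
    apply hmap.1
    refine ((RingEquiv.ofBijective (i.residueFieldMap z).hom hmap).apply_symm_apply _).trans ?_
    rw [show CurveRR.cst k X ⊤ c = Coh.toGlobal (X ↘ Spec (CommRingCat.of k)) c from Groth.Agent.QC.resO_self _ _]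
    refine Eq.trans ?_ (congrArg (fun q : X.presheaf.stalk (i z) ⟶ I.subscheme.residueField z =>
      q.hom ((X.presheaf.germ ⊤ (i z) trivial).hom (Coh.toGlobal (X ↘ Spec (CommRingCat.of k)) c)))
      (Scheme.residue_residueFieldMap i z)).symm
    exact congrArg (I.subscheme.residue z).hom (Scheme.Hom.germ_stalkMap_apply i ⊤ z trivial _).symm
  let e : Γ(ClSub.quotMod I, ⊤) →ₗ[k] X.residueField (i z) :=
    { toFun := fun a => ev a
      map_add' := map_add ev
      map_smul' := fun c b => by
        refine (map_mul ev ((i.app ⊤).hom (CurveRR.cst k X ⊤ c)) b).trans ?_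
        refine (congrArg (· * ev b) (hconst c)).trans ?_
        rfl }
  exact (LinearEquiv.ofBijective e hev).finrank_eq

end Groth.Agent.DualGeneric
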