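import Groth.Agent.DualSch.StalkMod
import Groth.Agent.DCohShriek.DualModuleField
import Groth.Agent.DCohShriek.DualizingField
import Groth.Agent.FibVan.Noeth
import Groth.Agent.SerrePn.Basic
import Groth.Agent.W7Hull.LiftMono
import Groth.Agent.QC.Coherent
import Groth.Agent.Shriek.SelfProps
import Groth.Agent.DualCx.Unique

/-!
The dualizing module at the generic point.
-/

set_option autoImplicit false
set_option backward.isDefEq.respectTransparency false
set_option backward.isDefEq.respectTransparency.types false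
set_option linter.style.haveILetI false
set_option maxHeartbeats 1000000

universe u

open CategoryTheory CategoryTheory.Limits AlgebraicGeometry TensorProduct TopologicalSpace

attribute [local instance] HasDerivedCategory.standard

noncomputable section

namespace Groth.Agent.DualGeneric

open Groth.Agent.DQCoh Groth.Agent.DualCx Groth.Agent.DualFlat Groth.Agent.DualSch

variable {X : Scheme.{u}}

/-- proper closed subsets of an irreducible space of dimension `r` -/
theorem krullDim_closed_lt {T : Type u} [TopologicalSpace T] [IrreducibleSpace T] {Z : Set T} (hZ : IsClosed Z)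
    (hne : Z ≠ Set.univ) (hz : Z.Nonempty) {r : ℕ} (hr : topologicalKrullDim T ≤ r) :
    ∃ d : ℕ, d < r ∧ topologicalKrullDim Z ≤ d := by
  let g : IrreducibleCloseds ↥Z → IrreducibleCloseds T := IrreducibleCloseds.map Subtype.val continuous_subtype_val
  have hg : StrictMono g := IrreducibleCloseds.map_strictMono_of_isInducing Topology.IsInducing.subtypeVal
  let top : IrreducibleCloseds T := ⟨Set.univ, IrreducibleSpace.isIrreducible_univ T, isClosed_univ⟩
  have hlt : ∀ p : LTSeries (IrreducibleCloseds ↥Z), p.length < r := fun p => by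
    have hl : (p.map g hg).last < top := by
      refine lt_of_le_of_ne (fun y hy => Set.mem_univ y) fun he => hne (Set.univ_subset_iff.1 ?_)
      intro y _
      have hy : y ∈ ((g p.last : IrreducibleCloseds T) : Set T) := by
        rw [show g p.last = top from (LTSeries.last_map p g hg).symm.trans he]; exact Set.mem_univ y
      exact closure_minimal (Subtype.coe_image_subset Z _) hZ hy
    have := (Order.LTSeries.length_le_krullDim ((p.map g hg).snoc top hl)).trans hr
    simp only [RelSeries.snoc_length, LTSeries.map_length] at this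
    exact_mod_cast this
  obtain ⟨z, hz'⟩ := hz
  haveI : Nonempty ↥Z := ⟨⟨z, hz'⟩⟩
  have hpt : Nonempty (IrreducibleCloseds ↥Z) :=
    ⟨⟨closure {⟨z, hz'⟩}, isIrreducible_singleton.closure, isClosed_closure⟩⟩
  obtain ⟨p₀⟩ := hpt
  have h0 : 0 < r := Nat.zero_lt_of_lt (hlt (RelSeries.singleton _ p₀))
  refine ⟨r - 1, by omega, iSup_le fun p => ?_⟩
  have := hlt p
  exact_mod_cast (show p.length ≤ r - 1 by omega)

/-- `H^r` of a coherent module vanishing at the generic point. -/
theorem subsingleton_hh_top [IsIntegral X] [IsNoetherian X] {r : ℕ} (hr : topologicalKrullDim ↥X ≤ (r : WithBot ℕ∞))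
    {Q : X.Modules} (hQ : Coh.IsCoh Q) (h : Subsingleton (Q.presheaf.stalk (genericPoint X))) :
    Subsingleton (Coh.HH X Q r) ∨ ∀ x, Subsingleton (Q.presheaf.stalk x) := by
  rcases Set.eq_empty_or_nonempty (CohB1.support Q) with he | hne
  · refine Or.inr fun x => not_not.1 fun hx => ?_
    have : x ∈ CohB1.support Q := hx
    rw [he] at this
    exact this
  · refine Or.inl ?_
    have huniv : CohB1.support Q ≠ Set.univ := fun hu => by
      have hη : genericPoint X ∈ CohB1.support Q := hu ▸ Set.mem_univ _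
      exact hη h
    obtain ⟨d, hd, hdim⟩ := krullDim_closed_lt (QC.isClosed_support hQ.2) huniv hne hr
    exact FibVan.subsingleton_hh_of_supported (QC.isClosed_support hQ.2) d hdim Q (fun x hx => hx) r hd

section

variable [∀ (U : Scheme.{u}) (j : U ⟶ X) [IsOpenImmersion j], PreservesFiniteLimits (Scheme.Modules.restrictFunctor j)]
  [∀ (R : CommRingCat.{u}), PreservesFiniteLimits (tilde.functor R)]

/-- The cohomology of a dualizing complex at a point. -/
theorem exists_local_all {K : DCoh.D X} (hK : Dual2.IsDualizingSch X K) (x : X) :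
    ∃ w : Dual.D (X.presheaf.stalk x), Dual.IsDualizing (X.presheaf.stalk x) w ∧
      ∀ n : ℤ, Nonempty ((DCoh.HD K n).presheaf.stalk x ≃ₗ[X.presheaf.stalk x] Dual.HD (X.presheaf.stalk x) w n) := by
  obtain ⟨W, hW, hxW, -⟩ := exists_isAffineOpen_mem_and_subset (U := (⊤ : X.Opens)) (x := x) trivial
  haveI := fun (S T : Type u) [CommRing S] [CommRing T] (φ : S →+* T) => DRingKP.hasLBaseChange φ
  obtain ⟨ω, hω, ⟨eω⟩⟩ := hK Γ(X, W) (IsAffineOpen.fromSpec hW)
  haveI := hω.isNoetherianRing
  let O := X.presheaf.stalk x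
  letI := (X.presheaf.germ W x hxW).hom.toAlgebra
  haveI : IsLocalization.AtPrime O (hW.primeIdealOf ⟨x, hxW⟩).asIdeal := hW.isLocalization_stalk ⟨x, hxW⟩
  let S := (hW.primeIdealOf ⟨x, hxW⟩).asIdeal.primeCompl
  haveI : Module.Flat Γ(X, W) O := IsLocalization.flat O S
  haveI : PreservesFiniteLimits (DualCx.ext (algebraMap Γ(X, W) O)) := DualCx.preservesFiniteLimits_ext
  let w : Dual.D O := (DRing.LBaseChange (algebraMap Γ(X, W) O)).obj ω
  have hHD : ∀ i, Nonempty (O ⊗[Γ(X, W)] Dual.HD Γ(X, W) ω i ≃ₗ[O] Dual.HD O w i) := fun i =>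
    ⟨(tens O (Dual.HD Γ(X, W) ω i)).symm.trans (((locHD (algebraMap Γ(X, W) O) ω i).toLinearEquiv).symm.trans
      ((DerivedCategory.homologyFunctor (ModuleCat.{u} O) i).mapIso (lBaseChangeObjIso _ ω).symm).toLinearEquiv)⟩
  refine ⟨w, DualCx.Loc.isDualizing_lBaseChange (B := O) S hω, fun n => ?_⟩
  · obtain ⟨f⟩ := nonempty_restrict_HD (IsAffineOpen.fromSpec hW) eω n
    obtain ⟨e⟩ := nonempty_sections_equiv hW _ f
    obtain ⟨eh⟩ := hHD n
    have hq : Coh.IsQCoh ((Scheme.Modules.restrictFunctor (IsAffineOpen.fromSpec hW)).obj (DCoh.HD K n)) :=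
      QC.isQCoh_of_iso f.symm (QC.isQCoh_tilde _)
    have hloc : QC.IsLoc (DCoh.HD K n) W := (QC.isLoc_iff_isQCoh hW).2 hq
    letI : Module Γ(X, W) ((DCoh.HD K n).presheaf.stalk x) :=
      Module.compHom ((DCoh.HD K n).presheaf.stalk x) (X.presheaf.germ W x hxW).hom
    obtain ⟨g, hg⟩ := exists_stalkMap_of_isLoc hW hloc hxW
    haveI : IsScalarTower Γ(X, W) O ((DCoh.HD K n).presheaf.stalk x) :=
      IsScalarTower.of_algebraMap_smul fun _ _ => rfl
    have hbc : IsBaseChange O g := (isLocalizedModule_iff_isBaseChange S O g).1 hg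
    exact ⟨hbc.equiv.symm.trans ((LinearEquiv.baseChange Γ(X, W) O _ _ e).trans eh)⟩


/-- Over a field a dualizing complex has one line of cohomology. -/
theorem exists_degree (K : Type u) [CommRing K] (hK : IsField K) {w : Dual.D K} (hw : Dual.IsDualizing K w) :
    ∃ n : ℤ, Nonempty (Dual.HD K w n ≃ₗ[K] K) ∧ ∀ i, i ≠ n → Subsingleton (Dual.HD K w i) := by
  letI := hK.toField
  obtain ⟨m, ⟨e⟩⟩ := DualCx.exists_shift_iso (Shriek.isDualizing_field K) hw
  refine ⟨-m, ⟨?_⟩, fun i hi => ?_⟩
  · exact (((DerivedCategory.homologyFunctor (ModuleCat.{u} K) (-m)).mapIso e) ≪≫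
      ((DerivedCategory.homologyFunctor (ModuleCat.{u} K) 0).shiftIso m (-m) 0 (by omega)).app _ ≪≫
      (DerivedCategory.singleFunctorCompHomologyFunctorIso (ModuleCat.{u} K) 0).app (ModuleCat.of K K)).toLinearEquiv
  · refine ModuleCat.subsingleton_of_isZero (IsZero.of_iso ?_
      ((DerivedCategory.homologyFunctor (ModuleCat.{u} K) i).mapIso e ≪≫
        ((DerivedCategory.homologyFunctor (ModuleCat.{u} K) 0).shiftIso m i (m + i) rfl).app _))
    rcases lt_or_gt_of_ne (show m + i ≠ 0 by omega) with h | h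
    · exact (DerivedCategory.isGE_iff _ 0).1 inferInstance _ h
    · exact (DerivedCategory.isLE_iff _ 0).1 inferInstance _ h

end

/-- a chain of points ending at the generic point -/
theorem exists_chain [IrreducibleSpace X] {r : ℕ} (hr : topologicalKrullDim ↥X = (r : WithBot ℕ∞)) :
    ∃ y : Fin (r + 1) → X, DimChain.IsChainSpec y ∧ y (Fin.last r) = genericPoint X := by
  obtain ⟨p, hp⟩ := Order.le_krullDim_iff.1 hr.ge
  subst hp
  let y : Fin (p.length + 1) → X := fun i => (p i).isIrreducible.genericPoint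
  have hy : ∀ i, closure {y i} = (p i : Set X) := fun i =>
    (p i).isIrreducible.isGenericPoint_genericPoint (p i).isClosed
  have hlast : (p.last : Set X) = Set.univ := by
    by_contra hne
    let top : IrreducibleCloseds X := ⟨Set.univ, IrreducibleSpace.isIrreducible_univ X, isClosed_univ⟩
    have hl : p.last < top := lt_of_le_of_ne (fun y hy => Set.mem_univ y) fun he => hne (congrArg SetLike.coe he)
    have h1 := (Order.LTSeries.length_le_krullDim (p.snoc top hl)).trans hr.le
    simp only [RelSeries.snoc_length] at h1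
    have : p.length + 1 ≤ p.length := by exact_mod_cast h1
    omega
  refine ⟨y, fun i => ?_, ?_⟩
  · have hlt : p i.castSucc < p i.succ := p.step i
    refine ⟨specializes_iff_mem_closure.2 ?_, fun he => hlt.ne (IrreducibleCloseds.ext ?_)⟩
    · rw [hy]
      exact SetLike.coe_subset_coe.2 hlt.le ((p i.castSucc).isIrreducible.isGenericPoint_genericPoint
        (p i.castSucc).isClosed).mem
    · rw [← hy, ← hy, he]
  · refine ((p.last).isIrreducible.isGenericPoint_genericPoint p.last.isClosed).eq ?_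
    rw [hlast]
    exact genericPoint_spec X

variable (k : Type u) [Field k] [X.Over (Spec (CommRingCat.of k))]

/-- Coherent dualizing pairs are isomorphic. -/
theorem nonempty_iso_of_coh {r : ℕ} {ω ω' : X.Modules} (hω : Coh.IsCoh ω) (hω' : Coh.IsCoh ω')
    (t : Coh.HH X ω r →ₗ[k] k) (t' : Coh.HH X ω' r →ₗ[k] k)
    (h : ∀ F : X.Modules, Coh.IsCoh F → Function.Bijective (Canon.dualityMap k X r ω t F))
    (h' : ∀ F : X.Modules, Coh.IsCoh F → Function.Bijective (Canon.dualityMap k X r ω' t' F)) :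
    Nonempty (ω' ≅ ω) := by
  have hcomp : ∀ (F G H : X.Modules) (a : F ⟶ G) (b : G ⟶ H) (x : Coh.HH X F r),
      Canon.HHlin k (a ≫ b) r x = Canon.HHlin k b r (Canon.HHlin k a r x) := fun F G H a b x => by
    exact Groth.Agent.CohQC.hmap_comp r a b x
  have hid : ∀ (F : X.Modules) (x : Coh.HH X F r), Canon.HHlin k (𝟙 F) r x = x := fun F x => by
    exact Groth.Agent.CohQC.hmap_id r F x
  obtain ⟨ρ, hρ⟩ := (h ω' hω').2 t'
  obtain ⟨σ, hσ⟩ := (h' ω hω).2 t
  refine ⟨ρ, σ, (h' ω' hω').1 (LinearMap.ext fun x => ?_), (h ω hω).1 (LinearMap.ext fun x => ?_)⟩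
  · change t' (Canon.HHlin k (ρ ≫ σ) r x) = t' (Canon.HHlin k (𝟙 ω') r x)
    rw [hcomp, hid]
    exact (LinearMap.congr_fun hσ _).trans (LinearMap.congr_fun hρ x)
  · change t (Canon.HHlin k (σ ≫ ρ) r x) = t (Canon.HHlin k (𝟙 ω) r x)
    rw [hcomp, hid]
    exact (LinearMap.congr_fun hρ _).trans (LinearMap.congr_fun hσ x)

/-- The dualizing module of an integral proper scheme has rank one. -/
theorem exists_generic_equiv [IsProper (X ↘ Spec (CommRingCat.of k))] [IsIntegral X] {r : ℕ} (hr : topologicalKrullDim ↥X = (r : WithBot ℕ∞))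
    {ω : X.Modules} (hω : Coh.IsCoh ω) (t : Coh.HH X ω r →ₗ[k] k)
    (h : ∀ F : X.Modules, Coh.IsCoh F → Function.Bijective (Canon.dualityMap k X r ω t F)) :
    Nonempty (ω.presheaf.stalk (genericPoint X) ≃ₗ[X.presheaf.stalk (genericPoint X)]
      X.presheaf.stalk (genericPoint X)) := by
  haveI := DCohShriek.isNoetherian_of_proper (X ↘ Spec (CommRingCat.of k))
  haveI : DCoh.HasRpush (X ↘ Spec (CommRingCat.of k)) := DerPush.hasRpush_sch _
  have hf : DCoh.RpushPreservesQCoh (X ↘ Spec (CommRingCat.of k)) := fun E hE =>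
    DQPush.isQCohD_rpush (X ↘ Spec (CommRingCat.of k)) hE
  haveI : (DCoh.RpushQ (X ↘ Spec (CommRingCat.of k)) hf).IsLeftAdjoint :=
    DCohShriek.isLeftAdjoint_rpushQ (X ↘ Spec (CommRingCat.of k)) hf
  let adj : DCoh.RpushQ (X ↘ Spec (CommRingCat.of k)) hf ⊣ _ := Adjunction.ofIsLeftAdjoint _
  let O := (DCohShriek.tildeQ k).obj (DCohShriek.unitD k)
  obtain ⟨t', ht'⟩ := DCohShriek.exists_isRDual k adj O (DCohShriek.tildeUnitIso k) r hr.le
  let a := (DCoh.RpushQ (X ↘ Spec (CommRingCat.of k)) hf).rightAdjoint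
  obtain ⟨e⟩ := nonempty_iso_of_coh k hω (DCohShriek.isCoh_dualModule k adj O (DCohShriek.tildeUnitIso k) _) t t' h
    fun F hF => ht'.2 F hF.1
  haveI : ∀ (U : Scheme.{u}) (j : U ⟶ X) [IsOpenImmersion j], PreservesFiniteLimits (Scheme.Modules.restrictFunctor j) :=
    fun U j _ => inferInstance
  haveI : ∀ (R : CommRingCat.{u}), PreservesFiniteLimits (tilde.functor R) := fun R => inferInstance
  have hD : Dual2.IsDualizingSch X (a.obj O).obj := DCohShriek.isDualizingSch_adjoint _ adj O
    (DCohShriek.isDualizingSch_point k (DCohShriek.tildeUnitIso k))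
  obtain ⟨w, hw, hst⟩ := exists_local_all hD (genericPoint X)
  obtain ⟨n, ⟨en⟩, hn⟩ := exists_degree (X.presheaf.stalk (genericPoint X))
    (Field.toIsField X.functionField) hw
  obtain ⟨en'⟩ := hst n
  obtain ⟨y, hy, hylast⟩ := exists_chain hr
  have hnt : Nontrivial ((DCoh.HD (a.obj O).obj n).presheaf.stalk (y (Fin.last r))) := by
    rw [hylast]
    exact (en'.trans en).toEquiv.nontrivial
  have hb := DCohShriek.stalk_amplitude k _ adj O (DCohShriek.tildeUnitIso k) r hr.le n r y hy hnt
  obtain rfl : n = -(r : ℤ) := by omega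
  exact ⟨((DerSch.stalkFunctor X (genericPoint X)).mapIso e).symm.toLinearEquiv.trans (en'.trans en)⟩

end Groth.Agent.DualGeneric
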