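import Groth.Agent.DualGeneric.GlobalField
import Groth.Agent.DCohShriek.DualModuleField
import Groth.Agent.SerrePn.Basic
import Groth.Agent.SymAlg.InvDual
import Groth.Agent.CurveRR.Multi2
import Groth.Agent.CurveRR.Cartier
import Groth.Agent.S8914

/-!
The degree of an invertible dualizing module of a curve.
-/

set_option autoImplicit false
set_option backward.isDefEq.respectTransparency false
set_option backward.isDefEq.respectTransparency.types false
set_option linter.style.haveILetI false
set_option maxHeartbeats 1000000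

universe u

open CategoryTheory CategoryTheory.Limits AlgebraicGeometry TopologicalSpace Opposite

noncomputable section

namespace Groth.Agent.DualGeneric

variable (k : Type u) [Field k] {X : Scheme.{u}} [X.Over (Spec (CommRingCat.of k))] [IsProper (X ↘ Spec (CommRingCat.of k))]

/-- the duality map, linearly -/
theorem finrank_hom_eq {r : ℕ} {ω : X.Modules} {t : Coh.HH X ω r →ₗ[k] k} (ht : Canon.IsRDualOver k X r ω t)
    {F : X.Modules} (hF : Coh.IsQCoh F) : Module.finrank k (F ⟶ ω) = Module.finrank k (Coh.HH X F r) := by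
  let E : (F ⟶ ω) →ₗ[k] Module.Dual k (Coh.HH X F r) := (LinearMap.llcomp k _ _ _ t).comp (SerrePn.hhHom k F ω r)
  have hE : Function.Bijective E := ht.2 F hF
  rw [(LinearEquiv.ofBijective E hE).finrank_eq]
  exact Subspace.dual_finrank_eq

/-- an invertible dualizing module has Euler characteristic `-χ(O)` -/
theorem euler_dualizing (hdim : topologicalKrullDim X ≤ 1) {ω : X.Modules} (hω : PicF.IsInvertible ω)
    {t : Coh.HH X ω 1 →ₗ[k] k} (ht : Canon.IsRDualOver k X 1 ω t) :
    Curv2.euler k X ω = - Curv2.euler k X (Coh.structureModule X) := by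
  have hO : PicF.IsInvertible (Coh.structureModule X) := TMul.isInvertible_structureModule
  obtain ⟨E0⟩ := SerrePn.nonempty_homEquiv k hO (TMul.leftUnitIso (Coh.structureModule X)) ω
  have h1 : CurveRR.h k ω 0 = CurveRR.h k (Coh.structureModule X) 1 := by
    rw [← CurveRR.h_eq_of_iso (k := k) (TMul.commIso ω _ ≪≫ TMul.leftUnitIso ω) 0]
    exact E0.finrank_eq.symm.trans (finrank_hom_eq k ht (TMul.isQCoh_of_isInvertible hO))
  obtain ⟨ω', hω', ⟨θ⟩⟩ := SymAlg.exists_inverse hω
  obtain ⟨E1⟩ := SerrePn.nonempty_homEquiv k hω' (TMul.commIso ω' ω ≪≫ θ) ω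
  have h2 : CurveRR.h k (Coh.structureModule X) 0 = CurveRR.h k ω 1 := by
    rw [← CurveRR.h_eq_of_iso (k := k) θ 0]
    exact E1.finrank_eq.symm.trans (finrank_hom_eq k ht (TMul.isQCoh_of_isInvertible hω))
  rw [CurveRR.euler_eq hdim, CurveRR.euler_eq hdim]
  omega

/-- degree of the inverse of the ideal of an effective divisor -/
theorem deg_inverse_ideal (hdim : topologicalKrullDim X ≤ 1) {D : X.IdealSheafData} {L : X.Modules}
    (hL : PicF.IsInvertible L) (hI : PicF.IsInvertible (ClSub.idealMod D))
    (hLD : ClSub.IsInverseOf L (ClSub.idealMod D)) :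
    Curv2.deg k X L 1 = CurveRR.h k (ClSub.quotMod D) 0 := by
  have h := CurveRR.deg_tensor_cartier (k := k) hdim ((Groth.Agent.S8914.result D).1 hI) hL hLD
    (CurveRR.isFinLocFreeOfRank_one (TMul.isInvertible_structureModule (X := X)))
  rw [Curv2.deg, Curv2.deg, CurveRR.euler_eq_of_iso (TMul.leftUnitIso L)] at h
  rw [Curv2.deg]
  push_cast at h ⊢
  omega

end Groth.Agent.DualGeneric
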