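import Groth.Agent.DualGeneric.GlobalField
import Groth.Agent.DualGeneric.PointDeg
import Groth.Agent.DualGeneric.DegOmega
import Groth.Agent.CurveRR.SmoothPt
import Groth.Agent.CurveRR.Tensor
import Groth.Agent.DualGeneric.Basic
import Groth.Agent.S1636
import Groth.Agent.S1627
import Groth.Agent.Horrocks.Dim
import Groth.Agent.ProjMor.ProjSpaceBase
import Groth.Agent.RefStalk.RankOne
import Groth.Agent.DualSch.SelfInv
import Groth.Agent.Intersect.ProperInt

/-!
Curves of genus zero.
-/

set_option autoImplicit false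
set_option backward.isDefEq.respectTransparency false
set_option backward.isDefEq.respectTransparency.types false
set_option linter.style.haveILetI false
set_option maxHeartbeats 1000000

universe u

open CategoryTheory CategoryTheory.Limits AlgebraicGeometry TopologicalSpace Opposite

attribute [local instance] HasDerivedCategory.standard

noncomputable section

namespace Groth.Agent.DualGeneric

variable (k : Type u) [Field k] {X : Scheme.{u}} [X.Over (Spec (CommRingCat.of k))]
  [IsProper (X ↘ Spec (CommRingCat.of k))]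

/-- the dimension of the global functions divides every Euler characteristic -/
theorem h0_dvd_euler [IsReduced X] [ConnectedSpace X] (hdim : topologicalKrullDim X ≤ 1) (F : X.Modules) :
    (CurveRR.h k (Coh.structureModule X) 0 : ℤ) ∣ Curv2.euler k X F := by
  letI secM := CurveRR.secMod k (Coh.structureModule X) ⊤
  have hK : IsField Γ(X, ⊤) := isField_gamma k
  letI : Algebra k (Coh.Γtop X) := RingHom.toAlgebra' (Coh.toGlobal (X ↘ Spec (CommRingCat.of k))) (fun c x =>
    mul_comm (G := Γ(X, ⊤)) _ _)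
  have he : Module.finrank k (Coh.Γtop X) = CurveRR.h k (Coh.structureModule X) 0 := by
    rw [← CurveRR.finrank_sec]
    let e : Γ(Coh.structureModule X, ⊤) →ₗ[k] Coh.Γtop X :=
      { toFun := fun a => a
        map_add' := fun _ _ => rfl
        map_smul' := fun a b => by
          show HMul.hMul (α := Γ(X, ⊤)) (β := Γ(X, ⊤)) (CurveRR.cst k X ⊤ a) b =
            HMul.hMul (α := Γ(X, ⊤)) (β := Γ(X, ⊤)) (Coh.toGlobal (X ↘ Spec (CommRingCat.of k)) a) b
          rw [show CurveRR.cst k X ⊤ a = Coh.toGlobal (X ↘ Spec (CommRingCat.of k)) a from Groth.Agent.QC.resO_self _ _] }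
    exact (LinearEquiv.ofBijective e Function.bijective_id).finrank_eq.symm
  have key : ∀ (G : X.Modules) (q : ℕ), (CurveRR.h k (Coh.structureModule X) 0 : ℤ) ∣ (CurveRR.h k G q : ℤ) := fun G q => by
    haveI : IsScalarTower k (Coh.Γtop X) (Coh.HH X G q) := IsScalarTower.of_algebraMap_smul fun _ _ => rfl
    letI : DivisionRing (Coh.Γtop X) := hK.toField.toDivisionRing
    haveI : Module.Free (Coh.Γtop X) (Coh.HH X G q) := Module.Free.of_divisionRing _ _
    haveI : Module.Free k (Coh.Γtop X) := Module.Free.of_divisionRing _ _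
    refine Int.natCast_dvd_natCast.2 ⟨Module.finrank (Coh.Γtop X) (Coh.HH X G q), ?_⟩
    rw [← he]
    exact (Module.finrank_mul_finrank k (Coh.Γtop X) (Coh.HH X G q)).symm
  rw [CurveRR.euler_eq hdim]
  exact dvd_sub (key F 0) (key F 1)

variable [IsIntegral X]

/-- proper curves are projective -/
theorem exists_projective (hdim : topologicalKrullDim X = 1) :
    ∃ (N : ℕ) (i : X ⟶ CohB1.ProjSpace N k), IsClosedImmersion i ∧ i ≫ CohB1.ProjSpace.toSpec N k = X ↘ Spec (CommRingCat.of k) := by
  refine (Groth.Agent.S1627.result k X hdim).resolve_left fun hX => ?_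
  haveI := CurveRR.isNoetherian_of_proper k X
  haveI : IsAffineHom (X ↘ Spec (CommRingCat.of k)) := inferInstance
  haveI : IsFinite (X ↘ Spec (CommRingCat.of k)) := IsFinite.iff_isProper_and_isAffineHom.2 ⟨inferInstance, inferInstance⟩
  haveI : Finite X := by
    have h := Scheme.Hom.finite_preimage_singleton (X ↘ Spec (CommRingCat.of k)) (IsLocalRing.closedPoint k)
    rw [show (X ↘ Spec (CommRingCat.of k)) ⁻¹' {IsLocalRing.closedPoint k} = Set.univ from
      Set.eq_univ_of_forall fun x => Subsingleton.elim (α := PrimeSpectrum k) _ _] at h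
    exact Set.finite_univ_iff.1 h
  haveI : JacobsonSpace X := LocallyOfFiniteType.jacobsonSpace (X ↘ Spec (CommRingCat.of k))
  have hP : IsClosed ({genericPoint X} : Set X) :=
    Intersect.isClosed_singleton_of_finite isClosed_univ Set.finite_univ trivial
  exact CurveRR.genericPoint_ne_of_closed (k := k) hdim hP rfl

/-- an integral curve of genus zero with a line bundle of degree one is the projective line -/
theorem exists_iso_of_deg_one (hdim : topologicalKrullDim X = 1) (hg : Curv2.genus k X = 0)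
    {L : X.Modules} (hL : PicF.IsInvertible L) (hdeg : Curv2.deg k X L 1 = 1) :
    ∃ e : X ≅ CohB1.ProjSpace 1 k, e.hom ≫ CohB1.ProjSpace.toSpec 1 k = X ↘ Spec (CommRingCat.of k) := by
  have h0 : CurveRR.h k (Coh.structureModule X) 0 = 1 := by
    have h1 : (CurveRR.h k (Coh.structureModule X) 0 : ℤ) ∣ 1 := by
      rw [← hdeg, Curv2.deg]
      exact dvd_sub (h0_dvd_euler k hdim.le L) (dvd_mul_of_dvd_right (h0_dvd_euler k hdim.le _) _)
    exact_mod_cast Int.eq_one_of_dvd_one (Int.natCast_nonneg _) h1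
  obtain ⟨i, hi, hi', -⟩ := Groth.Agent.S1636.result k X hdim h0 hg L hL 1 one_pos hdeg
  haveI := Horrocks.isIntegral_projSpace (k := k) (n := 1)
  haveI : Surjective i := by
    refine ⟨Set.range_eq_univ.1 (by_contra fun hne => ?_)⟩
    have hd := Horrocks.dim_le_of_closed_ne_univ i.isClosedEmbedding.isClosed_range hne 0 le_rfl
    rw [← i.isClosedEmbedding.isEmbedding.toHomeomorph.isHomeomorph.topologicalKrullDim_eq, hdim] at hd
    exact absurd hd (by decide)
  haveI := isIso_of_isClosedImmersion_of_surjective i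
  exact ⟨asIso i, hi'⟩

omit [IsIntegral X] in
/-- the set of degrees is a group -/
theorem exists_deg_zsmul (hdim : topologicalKrullDim X ≤ 1) {L : X.Modules} (hL : PicF.IsInvertible L) (n : ℤ) :
    ∃ M : X.Modules, PicF.IsInvertible M ∧ Curv2.deg k X M 1 = n * Curv2.deg k X L 1 := by
  obtain ⟨L', hL', ⟨θ⟩⟩ := SymAlg.exists_inverse hL
  have hdd : ∀ (A B : X.Modules), PicF.IsInvertible A → PicF.IsInvertible B →
      Curv2.deg k X (CohB1.tensorMod A B) 1 = Curv2.deg k X A 1 + Curv2.deg k X B 1 := fun A B hA hB => by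
    have h := CurveRR.Multi.deg_tensor k hdim 1 1 A B (CurveRR.isFinLocFreeOfRank_one hA) (CurveRR.isFinLocFreeOfRank_one hB)
    rw [Nat.mul_one, Nat.cast_one, one_mul, one_mul] at h
    rw [h]; ring
  have hneg : Curv2.deg k X L' 1 = - Curv2.deg k X L 1 := by
    have h := hdd L L' hL hL'
    rw [show Curv2.deg k X (CohB1.tensorMod L L') 1 = 0 by
      rw [Curv2.deg, CurveRR.euler_eq_of_iso θ]; simp] at h
    omega
  have hpow : ∀ (A : X.Modules), PicF.IsInvertible A → ∀ m : ℕ,
      Curv2.deg k X (CohB1.tensorPow A m) 1 = m * Curv2.deg k X A 1 := fun A hA m => by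
    induction m with
    | zero => show Curv2.deg k X (Coh.structureModule X) 1 = _; simp [Curv2.deg]
    | succ m ih =>
      show Curv2.deg k X (CohB1.tensorMod (CohB1.tensorPow A m) A) 1 = _
      rw [hdd _ _ (TMul.isInvertible_tensorPow hA m) hA, ih]; push_cast; ring
  rcases Int.eq_nat_or_neg n with ⟨m, rfl | rfl⟩
  · exact ⟨_, TMul.isInvertible_tensorPow hL m, hpow L hL m⟩
  · exact ⟨_, TMul.isInvertible_tensorPow hL' m, by rw [hpow L' hL' m, hneg]; ring⟩

omit [IsIntegral X] in
theorem exists_deg_of_gcd (hdim : topologicalKrullDim X ≤ 1) {ι : Type*} (s : Finset ι) (d : ι → ℕ)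
    (h : ∀ j ∈ s, ∃ L : X.Modules, PicF.IsInvertible L ∧ Curv2.deg k X L 1 = d j) :
    ∃ L : X.Modules, PicF.IsInvertible L ∧ Curv2.deg k X L 1 = (s.gcd d : ℕ) := by
  classical
  induction s using Finset.induction with
  | empty => exact ⟨_, TMul.isInvertible_structureModule, by simp [Curv2.deg]⟩
  | insert j s hj ih =>
    obtain ⟨A, hA, ha⟩ := h j (Finset.mem_insert_self j s)
    obtain ⟨B, hB, hb⟩ := ih fun i hi => h i (Finset.mem_insert_of_mem hi)
    obtain ⟨A', hA', ha'⟩ := exists_deg_zsmul k hdim hA (Nat.gcdA (d j) (s.gcd d))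
    obtain ⟨B', hB', hb'⟩ := exists_deg_zsmul k hdim hB (Nat.gcdB (d j) (s.gcd d))
    refine ⟨_, TMul.isInvertible_tensorMod hA' hB', ?_⟩
    have h' := CurveRR.Multi.deg_tensor k hdim 1 1 A' B' (CurveRR.isFinLocFreeOfRank_one hA') (CurveRR.isFinLocFreeOfRank_one hB')
    rw [Nat.mul_one, Nat.cast_one, one_mul, one_mul, ha', hb', ha, hb] at h'
    rw [h', Finset.gcd_insert, gcd_eq_nat_gcd, Nat.gcd_eq_gcd_ab]
    ring

/-- a regular closed point gives a line bundle of degree its residue degree -/
theorem exists_deg_point (hdim : topologicalKrullDim X = 1) {P : X} (hP : IsClosed ({P} : Set X))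
    (hreg : IsRegularLocalRing (X.presheaf.stalk P)) :
    letI := Curv2.resAlgebra k X P
    ∃ L : X.Modules, PicF.IsInvertible L ∧ Curv2.deg k X L 1 = Module.finrank k (X.residueField P) := by
  haveI := CurveRR.isNoetherian_of_proper k X
  have hI := CurveRR.isInvertible_pointIdeal hdim.le hP (CurveRR.genericPoint_ne_of_closed (k := k) hdim hP) hreg
  obtain ⟨J, hJ, ⟨e⟩⟩ := SymAlg.exists_inverse hI
  refine ⟨J, hJ, ?_⟩
  rw [deg_inverse_ideal k hdim.le hJ hI ⟨TMul.commIso _ _ ≪≫ e⟩, h0_quotMod_residue k hP]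

/-- the canonical module of a Gorenstein curve is invertible -/
theorem exists_omega_gorenstein (hdim : topologicalKrullDim X = 1)
    (hgor : ∀ x : X, LocCoh.IsGorensteinLocalRing (X.presheaf.stalk x)) :
    ∃ ω : X.Modules, PicF.IsInvertible ω ∧ Curv2.euler k X ω = - Curv2.euler k X (Coh.structureModule X) := by
  haveI := DCohShriek.isNoetherian_of_proper (X ↘ Spec (CommRingCat.of k))
  haveI : DCoh.HasRpush (X ↘ Spec (CommRingCat.of k)) := DerPush.hasRpush_sch _
  have hf : DCoh.RpushPreservesQCoh (X ↘ Spec (CommRingCat.of k)) := fun E hE =>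
    DQPush.isQCohD_rpush (X ↘ Spec (CommRingCat.of k)) hE
  haveI : (DCoh.RpushQ (X ↘ Spec (CommRingCat.of k)) hf).IsLeftAdjoint :=
    DCohShriek.isLeftAdjoint_rpushQ (X ↘ Spec (CommRingCat.of k)) hf
  let adj : DCoh.RpushQ (X ↘ Spec (CommRingCat.of k)) hf ⊣ _ := Adjunction.ofIsLeftAdjoint _
  let O := (DCohShriek.tildeQ k).obj (DCohShriek.unitD k)
  let a := (DCoh.RpushQ (X ↘ Spec (CommRingCat.of k)) hf).rightAdjoint
  obtain ⟨t, ht⟩ := DCohShriek.exists_isRDual k adj O (DCohShriek.tildeUnitIso k) 1 hdim.le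
  let K := (a.obj O).obj
  let ω := DCoh.HD K (-(1 : ℤ))
  have hKd : Dual2.IsDualizingSch X K := DCohShriek.isDualizingSch_adjoint (X ↘ Spec (CommRingCat.of k)) adj O
    (DCohShriek.isDualizingSch_point k (DCohShriek.tildeUnitIso k))
  have hω : Coh.IsCoh ω := DCohShriek.isCoh_dualModule k adj O (DCohShriek.tildeUnitIso k) _
  obtain ⟨eη⟩ := exists_generic_equiv (k := k) (r := 1) (by exact_mod_cast hdim) hω t (fun F hF => ht.2 F hF.1)
  refine ⟨ω, ?_, euler_dualizing k hdim.le ?_ ht⟩
  all_goals
    refine RefStalk.isInvertible_of_stalk_equiv hω.1 hω.2 fun x => ?_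
    obtain ⟨w, hw, hwe⟩ := exists_local_all hKd x
    haveI := hgor x
    haveI : IsNoetherianRing (X.presheaf.stalk x) := inferInstance
    obtain ⟨r, hr⟩ := SerreReg.exists_dim_nat (X.presheaf.stalk x)
    obtain ⟨m, ⟨em⟩⟩ := DualCx.exists_shift_iso (DualCx.gorenstein_normalized hr).1 hw
    obtain ⟨e1⟩ := hwe (-1)
    let eK : w ≅ (Dual.inD (X.presheaf.stalk x) (X.presheaf.stalk x))⟦(r : ℤ) + m⟧ :=
      em ≪≫ ((CategoryTheory.shiftFunctorAdd' (Dual.D (X.presheaf.stalk x)) (r : ℤ) m ((r : ℤ) + m) rfl).app _).symm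
    obtain ⟨es⟩ := DualCx.nonempty_hd_shift (Dual.inD (X.presheaf.stalk x) (X.presheaf.stalk x)) ((r : ℤ) + m) (-1)
    let e2 := e1.trans ((((DerivedCategory.homologyFunctor (ModuleCat.{u} (X.presheaf.stalk x)) (-1)).mapIso eK)).toLinearEquiv.trans es)
    by_cases hn : (r : ℤ) + m + -1 = 0
    · exact ⟨e2.trans (by
        rw [hn]
        exact ((DerivedCategory.singleFunctorCompHomologyFunctorIso (ModuleCat.{u} (X.presheaf.stalk x)) 0).app
          (ModuleCat.of (X.presheaf.stalk x) (X.presheaf.stalk x))).toLinearEquiv)⟩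
    · exfalso
      haveI := DualCx.subsingleton_hd_inD (A := X.presheaf.stalk x) (X.presheaf.stalk x) hn
      haveI : Subsingleton (ω.presheaf.stalk x) := e2.toEquiv.subsingleton
      have hxs : x ∉ CohB1.support ω := fun h => h ‹_›
      have hηs : genericPoint X ∉ CohB1.support ω := fun h =>
        hxs ((genericPoint_specializes x).mem_closed (Groth.Agent.QC.isClosed_support hω.2) h)
      haveI := CurveRR.subsingleton_stalk hηs
      haveI : Subsingleton (X.presheaf.stalk (genericPoint X)) := eη.symm.toEquiv.subsingleton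
      exact false_of_nontrivial_of_subsingleton (X.presheaf.stalk (genericPoint X))

end Groth.Agent.DualGeneric
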