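import Groth.Agent.CurveRR.Deg
import Groth.Agent.CurveRR.Point

/-!
Global functions of connected reduced schemes proper over a field.
-/

set_option autoImplicit false
set_option backward.isDefEq.respectTransparency false
set_option backward.isDefEq.respectTransparency.types false
set_option linter.style.haveILetI false
set_option maxHeartbeats 1000000

universe u

open CategoryTheory CategoryTheory.Limits AlgebraicGeometry TopologicalSpace Opposite

noncomputable section

namespace Groth.Agent.DualGeneric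

variable {X : Scheme.{u}}

/-- a connected scheme has only the trivial idempotents -/
theorem eq_zero_or_one_of_idempotent [ConnectedSpace X] {e : Γ(X, ⊤)} (he : IsIdempotentElem e) : e = 0 ∨ e = 1 := by
  have h1 : e * (1 - e) = 0 := by rw [mul_sub, mul_one, he.eq, sub_self]
  have hu : ∀ a b : Γ(X, ⊤), a + b = 1 → ∀ x : X, x ∈ X.basicOpen a ∨ x ∈ X.basicOpen b := fun a b hab x => by
    have h : IsUnit ((X.presheaf.germ ⊤ x trivial) a + (X.presheaf.germ ⊤ x trivial) b) := by
      rw [← map_add, hab, map_one]; exact isUnit_one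
    rcases IsLocalRing.isUnit_or_isUnit_of_isUnit_add h with h' | h'
    · exact Or.inl ((X.mem_basicOpen a x trivial).2 h')
    · exact Or.inr ((X.mem_basicOpen b x trivial).2 h')
  have hd : Disjoint (X.basicOpen e : Set X) (X.basicOpen (1 - e) : Set X) := by
    rw [Set.disjoint_iff_inter_eq_empty]
    refine Set.eq_empty_of_forall_notMem fun x hx => ?_
    have hmem : x ∈ X.basicOpen (e * (1 - e)) := by
      rw [Scheme.basicOpen_mul]; exact hx
    rw [h1, Scheme.basicOpen_zero] at hmem
    exact hmem.elim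
  have hcl : IsClopen (X.basicOpen e : Set X) := by
    refine ⟨⟨?_⟩, (X.basicOpen e).isOpen⟩
    have : ((X.basicOpen e : Set X))ᶜ = (X.basicOpen (1 - e) : Set X) := Set.ext fun x =>
      ⟨fun hx => (hu e (1 - e) (by ring) x).resolve_left hx, fun hx hx' => hd.le_bot ⟨hx', hx⟩⟩
    rw [this]; exact (X.basicOpen (1 - e)).isOpen
  have key : ∀ a : Γ(X, ⊤), IsIdempotentElem a → X.basicOpen a = ⊤ → a = 1 := fun a ha h => by
    have hunit : IsUnit a := by
      refine X.toRingedSpace.isUnit_of_isUnit_germ ⊤ a fun x hx => ?_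
      exact (X.mem_basicOpen a x hx).1 (h.ge trivial)
    exact hunit.mul_left_cancel (ha.eq.trans (mul_one a).symm)
  rcases isClopen_iff.1 hcl with h | h
  · left
    have h2 : X.basicOpen (1 - e) = ⊤ := top_le_iff.1 fun x _ =>
      (hu e (1 - e) (by ring) x).resolve_left fun hx => (Set.eq_empty_iff_forall_notMem.1 h) x hx
    simpa using key _ he.one_sub h2
  · exact Or.inr (key _ he (top_le_iff.1 fun x _ => (h.ge (Set.mem_univ x) : x ∈ X.basicOpen e)))

variable (k : Type u) [Field k] [X.Over (Spec (CommRingCat.of k))] [IsProper (X ↘ Spec (CommRingCat.of k))]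

include k in
/-- the global functions of a connected reduced proper scheme form a field -/
theorem isField_gamma [IsReduced X] [ConnectedSpace X] : IsField Γ(X, ⊤) := by
  let f := X ↘ Spec (CommRingCat.of k)
  let F : CommRingCat.of k ⟶ Γ(X, ⊤) := (Scheme.ΓSpecIso _).inv ≫ f.appTop
  letI : Algebra k Γ(X, ⊤) := F.hom.toAlgebra
  have hint : F.hom.IsIntegral := by
    apply RingHom.isIntegral_respectsIso.2 (e := (Scheme.ΓSpecIso _).symm.commRingCatIsoToRingEquiv)
    exact isIntegral_appTop_of_universallyClosed f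
  haveI : Algebra.IsIntegral k Γ(X, ⊤) := ⟨hint⟩
  haveI : Nontrivial Γ(X, ⊤) := by
    obtain ⟨x⟩ := (inferInstance : Nonempty X)
    exact (X.presheaf.germ ⊤ x trivial).hom.domain_nontrivial
  refine ⟨⟨0, 1, zero_ne_one⟩, mul_comm, fun {x} hx => ?_⟩
  let S := Algebra.adjoin k ({x} : Set Γ(X, ⊤))
  haveI : Module.Finite k S := Module.Finite.iff_fg.2 (Algebra.IsIntegral.isIntegral x).fg_adjoin_singleton
  haveI : IsArtinianRing S := IsArtinianRing.of_finite k S
  obtain ⟨n, y, hy⟩ := IsArtinian.exists_pow_succ_smul_dvd (M := S)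
    (⟨x, Algebra.subset_adjoin rfl⟩ : S) (1 : S)
  have hy' : x ^ (n + 1) * (y : Γ(X, ⊤)) = x ^ n := by
    have := congrArg Subtype.val hy
    simpa using this
  have h0 : x * (1 - x * (y : Γ(X, ⊤))) = 0 := by
    refine IsNilpotent.eq_zero ⟨n + 1, ?_⟩
    have e1 : x ^ n * (1 - x * (y : Γ(X, ⊤))) = 0 := by
      rw [mul_sub, mul_one, ← mul_assoc, ← pow_succ, hy', sub_self]
    generalize 1 - x * (y : Γ(X, ⊤)) = t at e1 ⊢
    calc (x * t) ^ (n + 1) = (x ^ n * t) * (x * t ^ n) := by ring
      _ = 0 := by rw [e1, zero_mul]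
  have he : IsIdempotentElem (x * (y : Γ(X, ⊤))) := by
    show x * (y : Γ(X, ⊤)) * (x * (y : Γ(X, ⊤))) = x * (y : Γ(X, ⊤))
    have h0' : x * (y : Γ(X, ⊤)) * (x * (y : Γ(X, ⊤))) = x * (y : Γ(X, ⊤)) - (y : Γ(X, ⊤)) * (x * (1 - x * (y : Γ(X, ⊤)))) := by ring
    rw [h0', h0, mul_zero, sub_zero]
  rcases eq_zero_or_one_of_idempotent he with h | h
  · rw [h, sub_zero, mul_one] at h0
    exact absurd h0 hx
  · exact ⟨y, h⟩

/-- over an algebraically closed field they are the constants -/
theorem h0_structure_connected [IsAlgClosed k] [IsReduced X] [ConnectedSpace X] :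
    Module.finrank k (Coh.HH X (Coh.structureModule X) 0) = 1 := by
  let f := X ↘ Spec (CommRingCat.of k)
  let F : CommRingCat.of k ⟶ Γ(X, ⊤) := (Scheme.ΓSpecIso _).inv ≫ f.appTop
  letI : Field Γ(X, ⊤) := (isField_gamma k).toField
  letI : Algebra k Γ(X, ⊤) := F.hom.toAlgebra
  haveI : Algebra.IsIntegral k Γ(X, ⊤) := ⟨by
    have : F.hom.IsIntegral := by
      apply RingHom.isIntegral_respectsIso.2 (e := (Scheme.ΓSpecIso _).symm.commRingCatIsoToRingEquiv)
      exact isIntegral_appTop_of_universallyClosed f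
    exact this⟩
  have hb : Function.Bijective F.hom := IsAlgClosed.algebraMap_bijective_of_isIntegral (k := k) (K := Γ(X, ⊤))
  letI := CurveRR.secMod k (Coh.structureModule X) ⊤
  show CurveRR.h k (Coh.structureModule X) 0 = 1
  rw [← CurveRR.finrank_sec]
  let e : k →ₗ[k] Γ(Coh.structureModule X, ⊤) :=
    { toFun := fun a => CurveRR.cst k X ⊤ a
      map_add' := map_add _
      map_smul' := fun a b => by
        show CurveRR.cst k X ⊤ (a * b) = CurveRR.cst k X ⊤ a * CurveRR.cst k X ⊤ b
        exact map_mul _ _ _ }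
  have he : Function.Bijective e := by
    have h1 : (CurveRR.cst k X ⊤ : k → Γ(X, ⊤)) = F.hom := funext fun a =>
      (Groth.Agent.QC.resO_self (le_top : (⊤ : X.Opens) ≤ ⊤) (Coh.toGlobal f a))
    show Function.Bijective (CurveRR.cst k X ⊤ : k → Γ(X, ⊤))
    rw [h1]; exact hb
  rw [← (LinearEquiv.ofBijective e he).finrank_eq, Module.finrank_self]

end Groth.Agent.DualGeneric
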