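import Groth.Agent.CurveRR.Tensor
import Groth.Agent.CurveRR.Multi2
import Groth.Agent.EulerMult.Basic
import Groth.Agent.S0927
import Groth.Agent.DerPerf.Local
import Groth.Agent.DerPerf.Tensor
import Groth.Agent.Intersect.ProperInt

/-!
Stalks of direct images along closed maps, and degrees of inverse images along finite maps of curves.
-/

set_option autoImplicit false
set_option backward.isDefEq.respectTransparency false
set_option backward.isDefEq.respectTransparency.types false
set_option linter.style.haveILetI false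
set_option maxHeartbeats 1000000

universe u

open CategoryTheory CategoryTheory.Limits AlgebraicGeometry TopologicalSpace Opposite
open Groth.Agent.WeakAssLib (mgerm mgerm_smul mgerm_res)

noncomputable section

namespace Groth.Agent.DualGeneric

variable {X Y : Scheme.{u}}

/-- stalks of direct images at a point with a one-point fibre -/
theorem finrank_push_stalk (f : X ⟶ Y) (hf : IsClosedMap f) (x : X) (hx : ∀ x', f x' = f x → x' = x)
    (M : X.Modules) :
    letI := (f.stalkMap x).hom.toAlgebra
    letI : Module (Y.presheaf.stalk (f x)) (M.presheaf.stalk x) := Module.compHom _ (f.stalkMap x).hom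
    Module.finrank (Y.presheaf.stalk (f x)) (((Scheme.Modules.pushforward f).obj M).presheaf.stalk (f x)) =
      Module.finrank (Y.presheaf.stalk (f x)) (M.presheaf.stalk x) := by
  letI : Module (Y.presheaf.stalk (f x)) (M.presheaf.stalk x) := Module.compHom _ (f.stalkMap x).hom
  let P := (Scheme.Modules.pushforward f).obj M
  have cof : ∀ W : X.Opens, x ∈ W → ∃ V : Y.Opens, f x ∈ V ∧ f ⁻¹ᵁ V ≤ W := fun W hW =>
    ⟨⟨(f '' (W : Set X)ᶜ)ᶜ, (hf _ W.isOpen.isClosed_compl).isOpen_compl⟩,
      fun ⟨x', hx', he⟩ => hx' (hx x' he ▸ hW),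
      fun z hz => by_contra fun hzW => hz ⟨z, hzW, rfl⟩⟩
  let φ : P.presheaf.stalk (f x) →+ M.presheaf.stalk x :=
    (TopCat.Presheaf.stalkPushforward AddCommGrpCat f.base M.presheaf x).hom
  have hφ : ∀ (V : Y.Opens) (hV : f x ∈ V) (s : Γ(P, V)),
      φ (mgerm P hV s) = mgerm M (U := f ⁻¹ᵁ V) hV s := fun V hV s =>
    TopCat.Presheaf.stalkPushforward_germ_apply AddCommGrpCat f.base M.presheaf V x hV s
  have hlin : ∀ (a : Y.presheaf.stalk (f x)) (m : P.presheaf.stalk (f x)),
      φ (a • m) = (f.stalkMap x).hom a • φ m := fun a m => by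
    obtain ⟨U₁, h₁, r, rfl⟩ := TopCat.Presheaf.exists_germ_eq Y.presheaf a
    obtain ⟨U₂, h₂, s, rfl⟩ := TopCat.Presheaf.exists_germ_eq P.presheaf m
    have hV : f x ∈ U₁ ⊓ U₂ := ⟨h₁, h₂⟩
    change φ ((Y.presheaf.germ U₁ (f x) h₁).hom r • mgerm P h₂ s) = (f.stalkMap x).hom ((Y.presheaf.germ U₁ (f x) h₁).hom r) • φ (mgerm P h₂ s)
    rw [show (Y.presheaf.germ U₁ (f x) h₁).hom r =
        (Y.presheaf.germ (U₁ ⊓ U₂) (f x) hV).hom (Y.presheaf.map (homOfLE inf_le_left).op r) from
        (TopCat.Presheaf.germ_res_apply Y.presheaf (homOfLE inf_le_left) (f x) hV r).symm,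
      ← mgerm_res P (inf_le_right : U₁ ⊓ U₂ ≤ U₂) hV s, ← mgerm_smul, hφ, hφ,
      show (f.stalkMap x).hom ((Y.presheaf.germ (U₁ ⊓ U₂) (f x) hV).hom (Y.presheaf.map (homOfLE inf_le_left).op r)) =
        (X.presheaf.germ (f ⁻¹ᵁ (U₁ ⊓ U₂)) x hV).hom ((f.app (U₁ ⊓ U₂)).hom (Y.presheaf.map (homOfLE inf_le_left).op r)) from
        Scheme.Hom.germ_stalkMap_apply f (U₁ ⊓ U₂) x hV _, ← mgerm_smul]
    rfl
  have hinj : Function.Injective φ := (injective_iff_map_eq_zero φ).2 fun m hm => by
    obtain ⟨U₂, h₂, s, rfl⟩ := TopCat.Presheaf.exists_germ_eq P.presheaf m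
    change φ (mgerm P h₂ s) = 0 at hm
    rw [hφ] at hm
    obtain ⟨W, hxW, i₁, i₂, he⟩ := TopCat.Presheaf.germ_eq M.presheaf x (show x ∈ f ⁻¹ᵁ U₂ from h₂) (show x ∈ f ⁻¹ᵁ U₂ from h₂)
      (show Γ(M, f ⁻¹ᵁ U₂) from s) 0 (hm.trans (map_zero _).symm)
    obtain ⟨V, hV, hle⟩ := cof W hxW
    show mgerm P h₂ s = 0
    rw [← mgerm_res P (inf_le_right : V ⊓ U₂ ≤ U₂) (⟨hV, h₂⟩ : f x ∈ V ⊓ U₂) s]
    have h0 : Groth.Agent.QC.res P (inf_le_right : V ⊓ U₂ ≤ U₂) s = 0 := by
      show Groth.Agent.QC.res M (f.preimage_mono inf_le_right) s = 0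
      rw [← Groth.Agent.QC.res_res M (show f ⁻¹ᵁ (V ⊓ U₂) ≤ W from (f.preimage_mono inf_le_left).trans hle) i₁.le s]
      have he' : Groth.Agent.QC.res M i₁.le s = 0 := he.trans (map_zero _)
      rw [he', map_zero]
    rw [h0]; exact map_zero _
  have hsurj : Function.Surjective φ := fun n => by
    obtain ⟨W, hxW, t, rfl⟩ := TopCat.Presheaf.exists_germ_eq M.presheaf n
    obtain ⟨V, hV, hle⟩ := cof W hxW
    refine ⟨mgerm P hV (show Γ(P, V) from Groth.Agent.QC.res M hle t), ?_⟩
    rw [hφ]
    exact mgerm_res M hle hV t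
  exact (LinearEquiv.ofBijective ({ φ with map_smul' := hlin } : P.presheaf.stalk (f x) →ₗ[Y.presheaf.stalk (f x)] M.presheaf.stalk x)
    ⟨hinj, hsurj⟩).finrank_eq

/-- `rank_η f_* O = [K(X) : K(Y)]` -/
theorem finrank_push_generic (f : X ⟶ Y) (hf : IsClosedMap f) [IsIntegral X] [IsIntegral Y]
    (hξ : f (genericPoint X) = genericPoint Y) (hx : ∀ x', f x' = f (genericPoint X) → x' = genericPoint X) :
    Module.finrank (Y.presheaf.stalk (genericPoint Y))
      (((Scheme.Modules.pushforward f).obj (Coh.structureModule X)).presheaf.stalk (genericPoint Y)) =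
      f.residueDegree (genericPoint X) := by
  suffices h : Module.finrank (Y.presheaf.stalk (f (genericPoint X)))
      (((Scheme.Modules.pushforward f).obj (Coh.structureModule X)).presheaf.stalk (f (genericPoint X))) =
      f.residueDegree (genericPoint X) by rwa [hξ] at h
  let x := genericPoint X
  refine (finrank_push_stalk f hf x hx (Coh.structureModule X)).trans ?_
  letI : Algebra (Y.presheaf.stalk (f x)) (X.presheaf.stalk x) := (f.stalkMap x).hom.toAlgebra
  letI : Module (Y.presheaf.stalk (f x)) ((Coh.structureModule X).presheaf.stalk x) :=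
    Module.compHom _ (f.stalkMap x).hom
  obtain ⟨e⟩ := CurveRR.Multi.nonempty_stalk_equiv (TMul.isInvertible_structureModule (X := X)) x
  let e' : X.presheaf.stalk x ≃ₗ[Y.presheaf.stalk (f x)] (Coh.structureModule X).presheaf.stalk x :=
    { e.toAddEquiv with
      map_smul' := fun a b => by
        show e ((f.stalkMap x).hom a * b) = (f.stalkMap x).hom a • e b
        exact map_smul e _ _ }
  rw [← e'.finrank_eq]
  have hY : IsField (Y.presheaf.stalk (f x)) := by
    have h : ∀ y, y = genericPoint Y → IsField (Y.presheaf.stalk y) := fun y hy => by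
      subst hy; exact Field.toIsField Y.functionField
    exact h _ hξ
  have hX : IsField (X.presheaf.stalk x) := Field.toIsField X.functionField
  have bij : ∀ {Z : Scheme.{u}} (z : Z), IsField (Z.presheaf.stalk z) → Function.Bijective (Z.residue z) :=
    fun {Z} z hz => ⟨by
      haveI : Nontrivial (Z.residueField z) := inferInstance
      letI := hz.toField
      exact (Z.residue z).hom.injective, IsLocalRing.residue_surjective⟩
  letI : Algebra (Y.residueField (f x)) (X.residueField x) := (f.residueFieldMap x).hom.toAlgebra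
  exact Algebra.finrank_eq_of_equiv_equiv (RingEquiv.ofBijective (Y.residue (f x)).hom (bij _ hY))
    (RingEquiv.ofBijective (X.residue x).hom (bij _ hX))
    (RingHom.ext fun a => (congrArg (fun q : Y.presheaf.stalk (f x) ⟶ X.residueField x => q.hom a) (Scheme.residue_residueFieldMap f x)))

variable (k : Type u) [Field k] [X.Over (Spec (CommRingCat.of k))] [Y.Over (Spec (CommRingCat.of k))]
  [IsProper (X ↘ Spec (CommRingCat.of k))] [IsProper (Y ↘ Spec (CommRingCat.of k))]

/-- degree of an inverse image along a nonconstant morphism of curves -/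
theorem deg_pullback [IsIntegral X] [IsIntegral Y] (hdX : topologicalKrullDim X ≤ 1) (hdY : topologicalKrullDim Y ≤ 1)
    (f : X ⟶ Y) (hf : f ≫ (Y ↘ Spec (CommRingCat.of k)) = X ↘ Spec (CommRingCat.of k))
    (hξ : f (genericPoint X) = genericPoint Y) (hfib : ∀ y : Y, IsClosed ({y} : Set Y) → genericPoint X ∉ f ⁻¹' {y})
    (hgen : ∀ x', f x' = f (genericPoint X) → x' = genericPoint X)
    {n : ℕ} {E : Y.Modules} (hE : FlatMod.IsFinLocFreeOfRank n E) :
    Curv2.deg k X ((Scheme.Modules.pullback f).obj E) n =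
      (f.residueDegree (genericPoint X) : ℤ) * Curv2.deg k Y E n := by
  haveI := CurveRR.isNoetherian_of_proper k X
  haveI := CurveRR.isNoetherian_of_proper k Y
  haveI : IsProper (f ≫ (Y ↘ Spec (CommRingCat.of k))) := by rw [hf]; infer_instance
  haveI : IsProper f := IsProper.of_comp f (Y ↘ Spec (CommRingCat.of k))
  haveI : LocallyQuasiFinite f := by
    refine LocallyQuasiFinite.of_finite_preimage_singleton _ fun y => ?_
    by_cases hy : IsClosed ({y} : Set Y)
    · have hcl := hy.preimage f.continuous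
      exact CurveRR.finite_of_dim_le_zero (k := k) hcl (CurveRR.dim_le_zero_of_closed hdX hcl (hfib y hy))
    · have hy' : y = genericPoint Y := by
        by_contra hne
        refine hy ?_
        haveI : JacobsonSpace Y := LocallyOfFiniteType.jacobsonSpace (Y ↘ Spec (CommRingCat.of k))
        have hcl : IsClosed (closure ({y} : Set Y)) := isClosed_closure
        have hnm : genericPoint Y ∉ closure ({y} : Set Y) := fun hm =>
          hne (((genericPoint_spec Y).specializes trivial).antisymm (specializes_iff_mem_closure.2 hm)).eq.symm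
        exact Intersect.isClosed_singleton_of_finite hcl (CurveRR.finite_of_dim_le_zero (k := k) hcl
          (CurveRR.dim_le_zero_of_closed hdY hcl hnm)) (subset_closure rfl)
      subst hy'
      exact (Set.finite_singleton (genericPoint X)).subset fun x' hx' => hgen x' (Eq.trans hx' hξ.symm)
  haveI : IsFinite f := IsFinite.of_isProper_of_locallyQuasiFinite _
  let OX := Coh.structureModule X
  let P := (Scheme.Modules.pushforward f).obj OX
  have hP : Coh.IsCoh P := by
    haveI : (Coh.structureModule X).IsQuasicoherent := Groth.Agent.QC.isQCoh_unit _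
    exact ⟨Groth.Agent.QC.isQCoh_pushforward f,
      (Groth.Agent.QC.isCoh_pushforward_of_isFinite (M := OX) f RefStalk.isCoh_structureModule.2).2⟩
  haveI := Groth.Agent.S0927.isIso_proj f E (fun y => let ⟨U, h1, h2⟩ := hE y; ⟨U, n, h1, h2⟩) OX
  have hq : Coh.IsQCoh (CohB1.tensorMod ((Scheme.Modules.pullback f).obj E) OX) :=
    (CurveRR.isCoh_tensor' (CurveRR.isCoh_of_rank (CurveRR.Multi.isFinLocFreeOfRank_pullback f hE)) RefStalk.isCoh_structureModule).1
  have h1 : Curv2.euler k X ((Scheme.Modules.pullback f).obj E) = Curv2.euler k Y (CohB1.tensorMod E P) := by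
    rw [CurveRR.euler_eq_of_iso (asIso (Groth.Agent.S0927.proj f E OX)), EulerMult.euler_push_affine f hf _ hq]
    exact CurveRR.euler_eq_of_iso ((TMul.commIso _ OX ≪≫ TMul.leftUnitIso _).symm)
  have h2 : Curv2.euler k Y P = Curv2.euler k X OX :=
    EulerMult.euler_push_affine f hf _ (Groth.Agent.QC.isQCoh_unit X)
  rw [CurveRR.euler_tensor (k := k) hdY hE P hP, finrank_push_generic f f.isClosedMap hξ hgen, h2] at h1
  rw [Curv2.deg] at h1 ⊢
  rw [Curv2.deg, h1]
  ring

end Groth.Agent.DualGeneric
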