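import Groth.Agent.CurveRR.Point
import Groth.Agent.CurveRR.Cartier
import Groth.Agent.Intersect.ProperInt

/-!
Degree of a reduced finite closed subscheme over an algebraically closed field.
-/

set_option autoImplicit false
set_option backward.isDefEq.respectTransparency false
set_option backward.isDefEq.respectTransparency.types false
set_option linter.style.haveILetI false
set_option maxHeartbeats 1000000

universe u

open CategoryTheory CategoryTheory.Limits AlgebraicGeometry TopologicalSpace Opposite

noncomputable section

namespace Groth.Agent.DualGeneric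

/-- a reduced finite algebra over an algebraically closed field has dimension the number of its points -/
theorem finrank_eq_card (k A : Type u) [Field k] [IsAlgClosed k] [CommRing A] [Algebra k A] [Module.Finite k A]
    [_root_.IsReduced A] : Module.finrank k A = Nat.card (PrimeSpectrum A) := by
  haveI : IsArtinianRing A := IsArtinianRing.of_finite k A
  haveI : Fintype (MaximalSpectrum A) := Fintype.ofFinite _
  rw [Nat.card_congr (IsArtinianRing.primeSpectrumEquivMaximalSpectrum (R := A)), Nat.card_eq_fintype_card,
    ((IsArtinianRing.equivPi A).toLinearEquiv.restrictScalars k).finrank_eq, Module.finrank_pi_fintype]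
  rw [Finset.sum_congr rfl fun I _ => (show Module.finrank k (A ⧸ I.asIdeal) = 1 from ?_)]
  · simp
  · haveI := I.isMaximal
    letI := Ideal.Quotient.field I.asIdeal
    have hb := IsAlgClosed.algebraMap_bijective_of_isIntegral (k := k) (K := A ⧸ I.asIdeal)
    rw [← (LinearEquiv.ofBijective (Algebra.linearMap k (A ⧸ I.asIdeal)) hb).finrank_eq, Module.finrank_self]

variable (k : Type u) [Field k] [IsAlgClosed k] {X : Scheme.{u}} [X.Over (Spec (CommRingCat.of k))]
  [IsProper (X ↘ Spec (CommRingCat.of k))]

/-- `h^0(O_D) = #D` for a reduced finite closed subscheme -/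
theorem h0_quotMod_finite {D : Set X} (hD : IsClosed D) (hfin : D.Finite) :
    CurveRR.h k (ClSub.quotMod (Scheme.IdealSheafData.vanishingIdeal ⟨D, hD⟩)) 0 = Nat.card D := by
  haveI := CurveRR.isNoetherian_of_proper k X
  haveI : JacobsonSpace X := LocallyOfFiniteType.jacobsonSpace (X ↘ Spec (CommRingCat.of k))
  let I := Scheme.IdealSheafData.vanishingIdeal (⟨D, hD⟩ : Closeds X)
  haveI : IsReduced I.subscheme := Groth.Agent.DvrDom.isReduced_vanishingIdeal_subscheme _
  have hdim : topologicalKrullDim (I.support : Set X) ≤ 0 := by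
    rw [Scheme.IdealSheafData.coe_support_vanishingIdeal]
    haveI : Finite D := hfin.to_subtype
    haveI : T1Space D := t1Space_iff_exists_open.2 fun a b hab =>
      ⟨Subtype.val ⁻¹' ({b.1}ᶜ : Set X),
        (Intersect.isClosed_singleton_of_finite hD hfin b.2).isOpen_compl.preimage continuous_subtype_val,
        fun h => hab (Subtype.ext h), fun h => h rfl⟩
    exact topologicalKrullDim_zero_of_discreteTopology _
  let g := I.subschemeι ≫ (X ↘ Spec (CommRingCat.of k))
  haveI : IsFinite g := CurveRR.isFinite_subscheme hdim
  haveI : IsAffine I.subscheme := isAffine_of_isAffineHom g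
  let F : CommRingCat.of k ⟶ Γ(I.subscheme, ⊤) := (Scheme.ΓSpecIso _).inv ≫ g.appTop
  letI : Algebra k Γ(I.subscheme, ⊤) := F.hom.toAlgebra
  haveI : Module.Finite k Γ(I.subscheme, ⊤) := by
    have : g.appTop.hom.Finite := IsFinite.finite_app (f := g) ⊤ (isAffineOpen_top _)
    have h' : F.hom.Finite := by
      rw [CommRingCat.hom_comp]
      exact this.comp (RingHom.Finite.of_surjective _ (Scheme.ΓSpecIso _).symm.commRingCatIsoToRingEquiv.surjective)
    exact h'
  have hr : Set.range I.subschemeι = D := by
    rw [I.range_subschemeι, Scheme.IdealSheafData.coe_support_vanishingIdeal]; rfl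
  have hc : Nat.card (PrimeSpectrum Γ(I.subscheme, ⊤)) = Nat.card D := by
    have e2 : Nat.card (Set.range I.subschemeι) = Nat.card I.subscheme :=
      (Nat.card_congr (Equiv.ofInjective _ I.subschemeι.isClosedEmbedding.injective)).symm
    rw [hr] at e2
    exact (Nat.card_congr I.subscheme.isoSpec.hom.homeomorph.toEquiv).symm.trans e2.symm
  letI := CurveRR.secMod k (ClSub.quotMod I) ⊤
  rw [← CurveRR.finrank_sec, ← hc, ← finrank_eq_card k Γ(I.subscheme, ⊤)]
  let e : Γ(ClSub.quotMod I, ⊤) →ₗ[k] Γ(I.subscheme, ⊤) :=
    { toFun := fun a => a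
      map_add' := fun _ _ => rfl
      map_smul' := fun a b => by
        show HMul.hMul (α := Γ(I.subscheme, ⊤)) (β := Γ(I.subscheme, ⊤)) ((I.subschemeι.app ⊤).hom (CurveRR.cst k X ⊤ a)) b =
          HMul.hMul (α := Γ(I.subscheme, ⊤)) (β := Γ(I.subscheme, ⊤)) (F.hom a) b
        rw [show CurveRR.cst k X ⊤ a = Coh.toGlobal (X ↘ Spec (CommRingCat.of k)) a from Groth.Agent.QC.resO_self _ _]
        rfl }
  exact (LinearEquiv.ofBijective e Function.bijective_id).finrank_eq

end Groth.Agent.DualGeneric
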