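import Groth.Agent.DualGeneric.EndOmega
import Groth.Agent.RegTilde.Koszul
import Groth.Agent.S1664
import Groth.Agent.TMul.AmpleBasis
import Groth.Agent.WeakAssLib.Basic
import Groth.Agent.AssLib.Points
import Groth.Agent.NegTwist.Coker
import Groth.Agent.CurveRR.TmapR

/-!
Twisting the dualizing module by a non-trivial globally generated invertible module kills first cohomology.
-/

set_option autoImplicit false
set_option backward.isDefEq.respectTransparency false
set_option backward.isDefEq.respectTransparency.types false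
set_option linter.style.haveILetI false
set_option maxHeartbeats 1000000

universe u

open CategoryTheory CategoryTheory.Limits AlgebraicGeometry TopologicalSpace Opposite
open Groth.Agent.QC (res resO res_res res_smul app_res)
open Groth.Agent.WeakAssLib (mgerm mgerm_res mgerm_smul)

noncomputable section

namespace Groth.Agent.DualGeneric

variable (k : Type u) [Field k] {X : Scheme.{u}} [X.Over (Spec (CommRingCat.of k))]
  [IsProper (X ↘ Spec (CommRingCat.of k))]

/-- a nowhere vanishing section trivializes -/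
theorem nonempty_iso_of_genLocus_eq_top {L : X.Modules} (t : Coh.structureModule X ⟶ L)
    (h : CohB1.genLocus L t = ⊤) : Nonempty (L ≅ Coh.structureModule X) := by
  have hg := TMul.isGen_genLocus t
  have : IsIso t := by
    rw [Scheme.Modules.Hom.isIso_iff_isIso_app]
    intro V
    rw [ConcreteCategory.isIso_iff_bijective]
    have hV : V ≤ CohB1.genLocus L t := by rw [h]; exact le_top
    have := hg V hV
    rw [show (fun c : Γ(X, V) => c • res L hV (TMul.val t (CohB1.genLocus L t))) = fun c => t.app V c from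
      funext fun c => by rw [TMul.app_eq_smul, TMul.res_val]] at this
    exact this
  exact ⟨(asIso t).symm⟩

include k in
theorem subsingleton_h1_twist {ω : X.Modules} (hc : Coh.IsCoh ω) (hst : ∀ x : X, Nontrivial (ω.presheaf.stalk x))
    {tr : Coh.HH X ω 1 →ₗ[k] k} (ht : Canon.IsRDualOver k X 1 ω tr)
    (hend : ∀ ψ : ω ⟶ ω, ∃ a : k, ψ = a • 𝟙 ω) {L : X.Modules} (hL : PicF.IsInvertible L)
    (hgg : Curv2.IsGloballyGenerated L) (hnt : IsEmpty (L ≅ Coh.structureModule X)) :
    Subsingleton (Coh.HH X (CohB1.tensorMod ω L) 1) := by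
  haveI := CurveRR.isNoetherian_of_proper k X
  haveI : ω.IsQuasicoherent := hc.1
  refine CurveRR.subsingleton_hh_of_hom ht (TMul.isQCoh_tensor (M := L) hL) fun φ => ?_
  by_contra hφ
  have hgen := Groth.Agent.S1664.gen_of_globallyGenerated hL hgg
  -- some section gives a nonzero endomorphism
  obtain ⟨t, hne⟩ : ∃ t : Coh.structureModule X ⟶ L, RegKos.mulR (TMul.val t ⊤) ω ≫ φ ≠ 0 := by
    by_contra! hall
    refine hφ (TMul.hom_ext fun U m n => ?_)
    refine Groth.Agent.QC.section_eq_of_locally fun x hx => ?_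
    obtain ⟨t, hxt⟩ := hgen x
    let V : X.Opens := U ⊓ CohB1.genLocus L t
    obtain ⟨c, hc'⟩ := (TMul.isGen_genLocus t V inf_le_right).2 (res L inf_le_left n)
    refine ⟨V, inf_le_left, ⟨hx, hxt⟩, ?_⟩
    rw [app_res, app_res, TMul.res_tm, ← hc', TMul.tm_smul, TMul.app_smul, TMul.app_smul, TMul.res_val]
    have h0 : (RegKos.mulR (TMul.val t ⊤) ω ≫ φ).app V (res ω inf_le_left m) = 0 := by rw [hall t]; rfl
    rw [show φ.app V (TMul.tm (res ω inf_le_left m) (TMul.val t V)) = 0 from by
      rw [← TMul.res_val t (le_top : V ≤ ⊤)]; exact h0]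
    exact (smul_zero _).trans (smul_zero _).symm
  obtain ⟨a, ha⟩ := hend (RegKos.mulR (TMul.val t ⊤) ω ≫ φ)
  have ha0 : a ≠ 0 := fun h => hne (by rw [ha, h, zero_smul])
  refine hnt.false (nonempty_iso_of_genLocus_eq_top t (eq_top_iff.2 fun x _ => ?_)).some
  obtain ⟨t', hxU⟩ := hgen x
  set U := CohB1.genLocus L t' with hUdef
  have he := TMul.isGen_genLocus t'
  obtain ⟨c, hc'⟩ := (he U le_rfl).2 (TMul.val t U)
  replace hc' : c • TMul.val t' U = TMul.val t U := by rw [← hc']; show _ = c • res L le_rfl _; rw [TMul.res_val]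
  by_contra hxt
  have hm : X.presheaf.germ U x hxU c ∈ IsLocalRing.maximalIdeal (X.presheaf.stalk x) := by
    rw [IsLocalRing.mem_maximalIdeal, mem_nonunits_iff]
    exact fun h => hxt ((TMul.mem_genLocus_iff_isUnit t he hc'.symm hxU).2 h)
  let R := X.presheaf.stalk x
  let g : X.presheaf.stalk x := X.presheaf.germ ⊤ x trivial (Coh.toGlobal (X ↘ Spec (CommRingCat.of k)) a)
  have hg : IsUnit g := ((isUnit_iff_ne_zero.2 ha0).map (Coh.toGlobal (X ↘ Spec (CommRingCat.of k)))).map
    (X.presheaf.germ ⊤ x trivial).hom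
  have key : (⊤ : Submodule (X.presheaf.stalk x) (ω.presheaf.stalk x)) ≤
      IsLocalRing.maximalIdeal (X.presheaf.stalk x) • ⊤ := fun s _ => by
    obtain ⟨V, hxV, m, rfl⟩ := AssLib.exists_mgerm ω s
    let W : X.Opens := V ⊓ U
    have hxW : x ∈ W := ⟨hxV, hxU⟩
    have h1 : (RegKos.mulR (TMul.val t ⊤) ω ≫ φ).app W (res ω inf_le_left m) =
        resO X (inf_le_right : W ≤ U) c •
          φ.app W (TMul.tm (res ω inf_le_left m) (res L (inf_le_right : W ≤ U) (TMul.val t' U))) := by
      show φ.app W (TMul.tm _ _) = _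
      rw [← TMul.app_smul, ← TMul.tm_smul, ← res_smul, hc', TMul.res_val, TMul.res_val]
    rw [ha, KLin.smul_app_apply] at h1
    have h2 := congrArg (mgerm ω hxW) h1
    rw [mgerm_smul, mgerm_smul] at h2
    have h3 : g • mgerm ω hxV m ∈ IsLocalRing.maximalIdeal (X.presheaf.stalk x) •
        (⊤ : Submodule (X.presheaf.stalk x) (ω.presheaf.stalk x)) := by
      refine (congrArg₂ (· • ·) ?_ ?_).trans h2 ▸ Submodule.smul_mem_smul ?_ Submodule.mem_top
      · exact (X.presheaf.germ_res_apply _ _ _ _).symm
      · exact (mgerm_res ω inf_le_left hxW m).symm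
      · rw [show (X.presheaf.germ W x hxW).hom (resO X (inf_le_right : W ≤ U) c) = X.presheaf.germ U x hxU c from
          X.presheaf.germ_res_apply _ _ _ _]
        exact hm
    exact (Submodule.smul_mem_iff_of_isUnit _ hg).1 h3
  haveI := NegTwist.finite_stalk_of_isCoh hc x
  haveI := hst x
  exact top_ne_bot (α := Submodule (X.presheaf.stalk x) (ω.presheaf.stalk x))
    (Submodule.eq_bot_of_le_smul_of_le_jacobson_bot _ _ Module.Finite.fg_top key
      (IsLocalRing.maximalIdeal_le_jacobson _))

end Groth.Agent.DualGeneric
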