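import Groth.Agent.DualGeneric.GenusZero
import Groth.Agent.GeomProp.SmoothPoint
import Groth.Agent.S1535
import Groth.Agent.CurveRR.RatPoint
import Groth.Agent.CurveRR.BaseTwist

/-!
A curve of genus zero with a smooth rational point is the projective line.
-/

set_option autoImplicit false
set_option backward.isDefEq.respectTransparency false
set_option backward.isDefEq.respectTransparency.types false
set_option maxHeartbeats 1000000

universe u

open CategoryTheory CategoryTheory.Limits AlgebraicGeometry TopologicalSpace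

noncomputable section

namespace Groth.Agent.DualGeneric

variable (k : Type u) [Field k] {X : Scheme.{u}} [X.Over (Spec (CommRingCat.of k))]
  [IsProper (X ↘ Spec (CommRingCat.of k))] [IsIntegral X]

/-- a smooth rational point on a curve of genus zero makes it the projective line -/
theorem exists_iso_of_ratPoint (hdim : topologicalKrullDim X = 1) (hg : Curv2.genus k X = 0)
    (s : Spec (CommRingCat.of k) ⟶ X) (hs : s ≫ (X ↘ Spec (CommRingCat.of k)) = 𝟙 _)
    (U : X.Opens) (hU : s (IsLocalRing.closedPoint k) ∈ U) [Smooth (U.ι ≫ (X ↘ Spec (CommRingCat.of k)))] :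
    ∃ e : X ≅ CohB1.ProjSpace 1 k, e.hom ≫ CohB1.ProjSpace.toSpec 1 k = X ↘ Spec (CommRingCat.of k) := by
  haveI := CurveRR.isNoetherian_of_proper k X
  haveI : IsClosedImmersion (s ≫ (X ↘ Spec (CommRingCat.of k))) := by rw [hs]; infer_instance
  haveI : IsClosedImmersion s := IsClosedImmersion.of_comp s (X ↘ Spec (CommRingCat.of k))
  let P := s (IsLocalRing.closedPoint k)
  have hxP : ∀ q, s q = P := fun q => congrArg s (Subsingleton.elim (α := PrimeSpectrum k) q _)
  have hP : IsClosed ({P} : Set X) := (Set.range_eq_singleton_iff.2 hxP) ▸ s.isClosedEmbedding.isClosed_range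
  have hreg : IsRegularLocalRing (X.presheaf.stalk P) := by
    letI : U.toScheme.Over (Spec (CommRingCat.of k)) := ⟨U.ι ≫ (X ↘ Spec (CommRingCat.of k))⟩
    haveI : Smooth (U.toScheme ↘ Spec (CommRingCat.of k)) := ‹Smooth (U.ι ≫ _)›
    haveI := Groth.Agent.S1535.result k U.toScheme ⟨P, hU⟩
    exact IsRegularLocalRing.of_ringEquiv (R := U.toScheme.presheaf.stalk ⟨P, hU⟩)
      (asIso (U.ι.stalkMap ⟨P, hU⟩)).commRingCatIsoToRingEquiv.symm
  obtain ⟨L, hL, hd⟩ := exists_deg_point k hdim hP hreg
  refine exists_iso_of_deg_one k hdim hg hL ?_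
  rw [hd, ← h0_quotMod_residue k hP, CurveRR.h0_quotMod_ratPoint hP s hs hxP, Nat.cast_one]

end Groth.Agent.DualGeneric
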