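import Mathlib.Algebra.Homology.DerivedCategory.KInjective
import Mathlib.Algebra.Homology.DerivedCategory.TStructure
import Mathlib.Algebra.Homology.SingleHomology
import Mathlib.Algebra.Homology.ShortComplex.Exact
import Mathlib.CategoryTheory.Preadditive.Injective.Basic

/-!
Maps into an injective object placed in degree zero are maps on `H⁰`.
-/

set_option autoImplicit false
set_option backward.isDefEq.respectTransparency false
set_option backward.isDefEq.respectTransparency.types false
set_option linter.style.haveILetI false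

universe w v u

open CategoryTheory Limits HomologicalComplex

noncomputable section

namespace Groth.Agent.DualGeneric

variable {A : Type u} [Category.{v} A] [Abelian A] (I : A) [Injective I]

/-- the complex `I` in degree zero is K-injective -/
theorem isKInjective_single :
    CochainComplex.IsKInjective (show CochainComplex A ℤ from (HomologicalComplex.single A (ComplexShape.up ℤ) 0).obj I) := by
  let L : CochainComplex A ℤ := (HomologicalComplex.single A (ComplexShape.up ℤ) 0).obj I
  haveI : L.IsStrictlyGE 0 := (CochainComplex.isStrictlyGE_iff L 0).2 fun i hi =>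
    HomologicalComplex.isZero_single_obj_X _ _ _ _ hi.ne
  haveI : ∀ n : ℤ, Injective (L.X n) := fun n => by
    by_cases hn : n = 0
    · subst hn
      exact Injective.of_iso (HomologicalComplex.singleObjXSelf (ComplexShape.up ℤ) (0 : ℤ) I).symm inferInstance
    · exact (HomologicalComplex.isZero_single_obj_X _ _ _ _ hn).injective
  exact CochainComplex.isKInjective_of_injective L 0

variable [HasDerivedCategory.{w} A]

/-- maps into an injective object in degree zero are maps on `H⁰` -/
theorem homH_injective_bijective (K : DerivedCategory A) :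
    Function.Bijective fun v : K ⟶ (DerivedCategory.singleFunctor A 0).obj I =>
      (DerivedCategory.homologyFunctor A 0).map v := by
  let L : CochainComplex A ℤ := (HomologicalComplex.single A (ComplexShape.up ℤ) 0).obj I
  haveI : L.IsKInjective := isKInjective_single I
  suffices h : ∀ C : CochainComplex A ℤ, Function.Bijective fun v : DerivedCategory.Q.obj C ⟶ DerivedCategory.Q.obj L =>
      (DerivedCategory.homologyFunctor A 0).map v by
    let C : CochainComplex A ℤ := DerivedCategory.Q.objPreimage K
    let eC : DerivedCategory.Q.obj C ≅ K := DerivedCategory.Q.objObjPreimageIso K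
    have h' := h C
    refine ⟨fun v w hvw => (cancel_epi eC.hom).1 (h'.1 ?_), fun t => ?_⟩
    · show (DerivedCategory.homologyFunctor A 0).map (eC.hom ≫ v) = (DerivedCategory.homologyFunctor A 0).map (eC.hom ≫ w)
      rw [Functor.map_comp, Functor.map_comp]
      exact congrArg _ hvw
    · obtain ⟨v, hv⟩ := h'.2 ((DerivedCategory.homologyFunctor A 0).map eC.hom ≫ t)
      refine ⟨eC.inv ≫ v, ?_⟩
      show (DerivedCategory.homologyFunctor A 0).map (eC.inv ≫ v) = t
      rw [Functor.map_comp, show (DerivedCategory.homologyFunctor A 0).map v = _ from hv, ← Category.assoc,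
        ← Functor.map_comp, eC.inv_hom_id, CategoryTheory.Functor.map_id, Category.id_comp]
  intro C
  let ff := DerivedCategory.homologyFunctorFactors A 0
  let op : I ≅ L.opcycles 0 := HomologicalComplex.singleObjOpcyclesSelfIso (ComplexShape.up ℤ) (0 : ℤ) I
  let xs : L.X 0 ≅ I := HomologicalComplex.singleObjXSelf (ComplexShape.up ℤ) (0 : ℤ) I
  haveI : IsIso (L.homologyι 0) := L.isIso_homologyι 0 1 (by simp) (by
    refine IsZero.eq_of_tgt (HomologicalComplex.isZero_single_obj_X _ _ _ _ one_ne_zero) _ _)
  have hQ : ∀ v : DerivedCategory.Q.obj C ⟶ DerivedCategory.Q.obj L, ∃ f : C ⟶ L, DerivedCategory.Q.map f = v := fun v => by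
    let qi := DerivedCategory.quotientCompQhIso A
    obtain ⟨g, hg⟩ := (CochainComplex.IsKInjective.Qh_map_bijective
      ((HomotopyCategory.quotient A (ComplexShape.up ℤ)).obj C) L).2 (qi.hom.app C ≫ v ≫ qi.inv.app L)
    obtain ⟨f, rfl⟩ := (HomotopyCategory.quotient A (ComplexShape.up ℤ)).map_surjective g
    refine ⟨f, ?_⟩
    rw [← cancel_epi (qi.hom.app C)]
    exact (qi.hom.naturality f).symm.trans ((congrArg (· ≫ qi.hom.app L) hg).trans (by simp))
  have hH : ∀ f : C ⟶ L, (DerivedCategory.homologyFunctor A 0).map (DerivedCategory.Q.map f) =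
      ff.hom.app C ≫ HomologicalComplex.homologyMap f 0 ≫ ff.inv.app L := fun f => (NatIso.naturality_2 ff f).symm
  refine ⟨fun v w hvw => ?_, fun t => ?_⟩
  · obtain ⟨f, rfl⟩ := hQ v
    obtain ⟨f', rfl⟩ := hQ w
    rw [← sub_eq_zero, ← Functor.map_sub]
    have h0 : HomologicalComplex.homologyMap (f - f') 0 = 0 := by
      have h1 := (hH f).symm.trans (hvw.trans (hH f'))
      rw [cancel_epi, cancel_mono] at h1
      rw [HomologicalComplex.homologyMap_sub, h1, sub_self]
    revert h0
    generalize f - f' = φ
    intro h0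
    let g : C.opcycles 0 ⟶ I := HomologicalComplex.opcyclesMap φ 0 ≫ op.inv
    have hg : C.homologyι 0 ≫ g = 0 := by
      rw [← HomologicalComplex.homologyι_naturality_assoc, h0, zero_comp]
    let S := ShortComplex.mk (C.homologyι 0) (C.fromOpcycles 0 1) (C.homologyι_comp_fromOpcycles 0 1)
    have hS : S.Exact := S.exact_of_f_is_kernel (C.homologyIsKernel 0 1 (by simp))
    let h : C.X 1 ⟶ I := hS.descToInjective g hg
    have hd : C.d 0 1 ≫ h = φ.f 0 ≫ xs.hom := by
      rw [← C.p_fromOpcycles 0 1, Category.assoc, show C.fromOpcycles 0 1 ≫ h = g from hS.comp_descToInjective g hg]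
      show C.pOpcycles 0 ≫ HomologicalComplex.opcyclesMap φ 0 ≫ op.inv = _
      rw [HomologicalComplex.p_opcyclesMap_assoc, HomologicalComplex.pOpcycles_singleObjOpcyclesSelfIso_inv]
    let hom : ∀ i j : ℤ, C.X i ⟶ L.X j := fun i j =>
      if hij : i = 1 ∧ j = 0 then eqToHom (by rw [hij.1]) ≫ h ≫ xs.inv ≫ eqToHom (by rw [hij.2]) else 0
    have hzero : ∀ i j : ℤ, ¬ (ComplexShape.up ℤ).Rel j i → hom i j = 0 := fun i j hn => by
      refine dif_neg fun hij => hn ?_
      rw [hij.1, hij.2]; exact zero_add 1
    let H := Homotopy.nullHomotopy (C := C) (D := L) hom hzero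
    have hφ : Homotopy.nullHomotopicMap hom = φ := by
      refine HomologicalComplex.to_single_hom_ext ?_
      rw [Homotopy.nullHomotopicMap_f (show (ComplexShape.up ℤ).Rel (-1) 0 by simp) (show (ComplexShape.up ℤ).Rel 0 1 by simp)]
      have h2 : hom 0 (-1) = 0 := dif_neg (by omega)
      have h3 : hom 1 0 = h ≫ xs.inv := by
        simp [hom]
      rw [h2, h3, zero_comp, add_zero, ← Category.assoc, hd, Category.assoc, xs.hom_inv_id, Category.comp_id]
    rw [← hφ]
    have h4 : (HomotopyCategory.quotient A (ComplexShape.up ℤ)).map (Homotopy.nullHomotopicMap hom) = 0 :=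
      (HomotopyCategory.eq_of_homotopy _ _ H).trans (Functor.map_zero _ _ _)
    rw [← NatIso.naturality_1 (DerivedCategory.quotientCompQhIso A) (Homotopy.nullHomotopicMap hom),
      show (HomotopyCategory.quotient A (ComplexShape.up ℤ) ⋙ DerivedCategory.Qh).map (Homotopy.nullHomotopicMap hom) =
        DerivedCategory.Qh.map ((HomotopyCategory.quotient A (ComplexShape.up ℤ)).map (Homotopy.nullHomotopicMap hom)) from rfl,
      h4, Functor.map_zero, zero_comp, comp_zero]
  · let t' : C.homology 0 ⟶ L.homology 0 := ff.inv.app C ≫ t ≫ ff.hom.app L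
    let g : C.opcycles 0 ⟶ I := Injective.factorThru (t' ≫ L.homologyι 0 ≫ op.inv) (C.homologyι 0)
    have hg : C.homologyι 0 ≫ g = t' ≫ L.homologyι 0 ≫ op.inv := Injective.comp_factorThru _ _
    let f : C ⟶ L := HomologicalComplex.mkHomToSingle (C.pOpcycles 0 ≫ g) fun i _ => by
      rw [← Category.assoc, C.d_pOpcycles, zero_comp]
    have hf : HomologicalComplex.homologyMap f 0 = t' := by
      rw [← cancel_mono (L.homologyι 0 ≫ op.inv), HomologicalComplex.homologyι_naturality_assoc, ← hg]
      refine congrArg (C.homologyι 0 ≫ ·) ?_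
      rw [← cancel_epi (C.pOpcycles 0), HomologicalComplex.p_opcyclesMap_assoc,
        HomologicalComplex.pOpcycles_singleObjOpcyclesSelfIso_inv, HomologicalComplex.mkHomToSingle_f]
      simp
    refine ⟨DerivedCategory.Q.map f, ?_⟩
    show (DerivedCategory.homologyFunctor A 0).map (DerivedCategory.Q.map f) = t
    rw [hH, hf]
    simp [t', ff]

end Groth.Agent.DualGeneric
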