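import Groth.Agent.DualGeneric.SubD
import Groth.Agent.DualGeneric.GlobalField
import Groth.Agent.CurveRR.Multi
import Groth.Agent.ClSubLib.EssSurj

/-!
A connected subcurve carrying a nonzero class bounds the degree.
-/

set_option autoImplicit false
set_option backward.isDefEq.respectTransparency false
set_option backward.isDefEq.respectTransparency.types false
set_option linter.style.haveILetI false
set_option maxHeartbeats 1000000

universe u

open CategoryTheory CategoryTheory.Limits AlgebraicGeometry TopologicalSpace Opposite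
open Groth.Agent.CohFinite
open Groth.Agent.QC (res resO res_res res_self res_smul resO_resO resO_self section_eq_of_locally app_res)
open TMul (IsGen homOf val_homOf tm)

noncomputable section

namespace Groth.Agent.DualGeneric.Sub

variable (k : Type u) [Field k] {X : Scheme.{u}} [X.Over (Spec (CommRingCat.of k))]
  [IsProper (X ↘ Spec (CommRingCat.of k))]

/-- on a connected reduced scheme a nonzero cohomology group is at least as big as the field of functions -/
theorem h0_le_hh [IsReduced X] [ConnectedSpace X] (F : X.Modules) (hF : Coh.IsCoh F) (i : ℕ)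
    (hne : Nontrivial (Coh.HH X F i)) :
    CurveRR.h k (Coh.structureModule X) 0 ≤ CurveRR.h k F i := by
  letI secM := CurveRR.secMod k (Coh.structureModule X) ⊤
  haveI := finite_proper k X _ hF i
  have hK : IsField Γ(X, ⊤) := isField_gamma k
  obtain ⟨x₀, hx₀⟩ := exists_ne (0 : Coh.HH X F i)
  letI : Field (Coh.Γtop X) := hK.toField
  let e : Γ(Coh.structureModule X, ⊤) →ₗ[k] Coh.HH X F i :=
    { toFun := fun a => (show Coh.Γtop X from a) • x₀
      map_add' := fun a b => add_smul (R := Coh.Γtop X) _ _ _
      map_smul' := fun a b => by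
        show (HMul.hMul (α := Γ(X, ⊤)) (β := Γ(X, ⊤)) (CurveRR.cst k X ⊤ a) b : Coh.Γtop X) • x₀ = _
        rw [show CurveRR.cst k X ⊤ a = Coh.toGlobal (X ↘ Spec (CommRingCat.of k)) a from Groth.Agent.QC.resO_self _ _]
        exact mul_smul (α := Coh.Γtop X) _ _ _ }
  have he : Function.Injective e := fun a b hab => by
    by_contra hne'
    have h0 : ((show Coh.Γtop X from a) - (show Coh.Γtop X from b)) • x₀ = 0 := by
      rw [sub_smul]; exact sub_eq_zero.2 hab
    exact hx₀ ((_root_.smul_eq_zero.1 h0).resolve_left (sub_ne_zero.2 hne'))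
  rw [← CurveRR.finrank_sec]
  exact LinearMap.finrank_le_finrank_of_injective he

variable (D : Closeds X)

theorem hh_push_facts (F : (vI D).subscheme.Modules) (hF : Coh.IsQCoh F) (i : ℕ) :
    letI : (vI D).subscheme.Over (Spec (CommRingCat.of k)) := ⟨(vI D).subschemeι ≫ (X ↘ Spec (CommRingCat.of k))⟩
    CurveRR.h k ((Scheme.Modules.pushforward (vI D).subschemeι).obj F) i = CurveRR.h k F i := by
  letI : (vI D).subscheme.Over (Spec (CommRingCat.of k)) := ⟨(vI D).subschemeι ≫ (X ↘ Spec (CommRingCat.of k))⟩
  haveI := hF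
  obtain ⟨e⟩ := hh_push_linear k (vI D).subschemeι rfl F (CohQC.directAcyclic_of_isAffineHom _ F) i
  exact e.finrank_eq.symm

theorem isQCoh_O {Y : Scheme.{u}} : Coh.IsQCoh (Coh.structureModule Y) := Groth.Agent.QC.isQCoh_unit Y

theorem euler_A :
    letI : (vI D).subscheme.Over (Spec (CommRingCat.of k)) := ⟨(vI D).subschemeι ≫ (X ↘ Spec (CommRingCat.of k))⟩
    Curv2.euler k X (A D) = Curv2.euler k (vI D).subscheme (Coh.structureModule (vI D).subscheme) :=
  CurveRR.Multi.euler_push k (vI D).subschemeι _ isQCoh_O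

theorem deg_sub {L : X.Modules} (hL : PicF.IsInvertible L) :
    letI : (vI D).subscheme.Over (Spec (CommRingCat.of k)) := ⟨(vI D).subschemeι ≫ (X ↘ Spec (CommRingCat.of k))⟩
    Curv2.deg k (vI D).subscheme ((Scheme.Modules.pullback (vI D).subschemeι).obj L) 1 =
      Curv2.euler k X (M D L) - Curv2.euler k X (A D) := by
  letI : (vI D).subscheme.Over (Spec (CommRingCat.of k)) := ⟨(vI D).subschemeι ≫ (X ↘ Spec (CommRingCat.of k))⟩
  haveI := CurveRR.isNoetherian_of_proper k X
  haveI := LocallyOfFiniteType.isLocallyNoetherian (vI D).subschemeι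
  have e : M D L ≅ (Scheme.Modules.pushforward (vI D).subschemeι).obj
      (CohB1.tensorMod (Coh.structureModule _) ((Scheme.Modules.pullback (vI D).subschemeι).obj L)) :=
    KFlat.projFormulaIso (vI D).subschemeι _ L
  rw [Curv2.deg, euler_A, CurveRR.euler_eq_of_iso (e ≪≫ (Scheme.Modules.pushforward (vI D).subschemeι).mapIso (TMul.leftUnitIso _)),
    CurveRR.Multi.euler_push k (vI D).subschemeι _ (TMul.isQCoh_of_isInvertible (PicLoc.isInvertible_pullback _ hL))]
  push_cast
  ring

theorem genus_sub :
    letI : (vI D).subscheme.Over (Spec (CommRingCat.of k)) := ⟨(vI D).subschemeι ≫ (X ↘ Spec (CommRingCat.of k))⟩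
    Curv2.genus k (vI D).subscheme = CurveRR.h k (A D) 1 :=
  (hh_push_facts k D _ isQCoh_O 1).symm

theorem connected_subscheme (hc : _root_.IsConnected (D : Set X)) : ConnectedSpace (vI D).subscheme := by
  haveI : ConnectedSpace (D : Set X) := isConnected_iff_connectedSpace.1 hc
  let e : (vI D).subscheme ≃ₜ (D : Set X) :=
    (vI D).subschemeι.isClosedEmbedding.isEmbedding.toHomeomorph.trans (Homeomorph.setCongr (range_ι D))
  exact e.symm.surjective.connectedSpace e.symm.continuous

variable (Z : X.IdealSheafData) {L : X.Modules} (hL : PicF.IsInvertible L)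

include hL in
/-- a class on a connected subcurve is at least as big as its field of functions -/
theorem h0A_le_h1G (hc : _root_.IsConnected (D : Set X)) (hne : Nontrivial (Coh.HH X (G Z L D) 1)) :
    CurveRR.h k (A D) 0 ≤ CurveRR.h k (G Z L D) 1 := by
  letI : (vI D).subscheme.Over (Spec (CommRingCat.of k)) := ⟨(vI D).subschemeι ≫ (X ↘ Spec (CommRingCat.of k))⟩
  haveI : IsProper ((vI D).subscheme ↘ Spec (CommRingCat.of k)) :=
    inferInstanceAs (IsProper ((vI D).subschemeι ≫ (X ↘ Spec (CommRingCat.of k))))
  haveI : IsReduced (vI D).subscheme := DvrDom.isReduced_vanishingIdeal_subscheme _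
  haveI := connected_subscheme D hc
  haveI := CurveRR.isNoetherian_of_proper k X
  haveI := mono_jG Z hL D
  have hk : ClSub.KilledByIdeal (vI D).subschemeι.ker (G Z L D) := fun U a ha m => by
    rw [Scheme.IdealSheafData.ker_subschemeι] at ha
    obtain ⟨m', hm'⟩ := (Groth.Agent.QC.mem_range_idealModι_affine (vI D) U a).2 ha
    refine Groth.Agent.QC.app_injective_of_mono (jG Z L D) U.1 ?_
    rw [map_zero]
    refine (Scheme.Modules.Hom.app_smul (jG Z L D) a _).trans (smul_eq_zero hL D a ?_ _)
    rw [← hm']
    exact kernel_app (ClSub.toSubscheme (vI D)) m'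
  obtain ⟨G', hG', ⟨e⟩⟩ := ClSubLib.exists_pushforward_iso (vI D).subschemeι (G Z L D) (isCoh_G Z hL k D) hk
  have h1 : CurveRR.h k (G Z L D) 1 = CurveRR.h k G' 1 := by
    rw [← CurveRR.h_eq_of_iso e 1, hh_push_facts k D G' hG'.1]
  have h2 : Nontrivial (Coh.HH (vI D).subscheme G' 1) := by
    haveI := finite_proper k (vI D).subscheme _ hG' 1
    haveI := finite_proper k X _ (isCoh_G Z hL k D) 1
    rw [← Module.finrank_pos_iff (R := k)]
    change 0 < CurveRR.h k G' 1
    rw [← h1]
    exact Module.finrank_pos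
  rw [h1, show CurveRR.h k (A D) 0 = CurveRR.h k (Coh.structureModule (vI D).subscheme) 0 from hh_push_facts k D _ isQCoh_O 0]
  exact h0_le_hh k G' hG' 1 h2

end Groth.Agent.DualGeneric.Sub
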