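import Groth.Agent.DualGeneric.PointDual
import Groth.Agent.CurveRR.Point
import Groth.Agent.CurveRR.GGVanish
import Groth.Agent.S2122

/-!
Homomorphisms `O(p) → ω` and sections of `ω` vanishing at `p`.
-/

set_option autoImplicit false
set_option backward.isDefEq.respectTransparency false
set_option backward.isDefEq.respectTransparency.types false
set_option linter.style.haveILetI false
set_option maxHeartbeats 1000000

universe u

open CategoryTheory CategoryTheory.Limits AlgebraicGeometry TopologicalSpace Opposite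
open Groth.Agent.CohFinite
open Groth.Agent.QC (res resO res_res res_self res_smul resO_resO resO_self section_eq_of_locally app_res)
open TMul (IsGen tm val app_smul)

noncomputable section

namespace Groth.Agent.DualGeneric

variable {X : Scheme.{u}}

/-- morphisms agreeing on all sections -/
theorem hom_eq_zero {M N : X.Modules} (φ : M ⟶ N)
    (h : ∀ (U : X.Opens) (s : Γ(M, U)) (y : X), y ∈ U → ∃ (V : X.Opens) (hV : V ≤ U), y ∈ V ∧
      φ.app V (res M hV s) = 0) : φ = 0 := by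
  refine Scheme.Modules.hom_ext _ _ fun U => ?_
  ext s
  exact section_eq_of_locally fun y hy => by
    obtain ⟨V, hV, hyV, hV0⟩ := h U s y hy
    refine ⟨V, hV, hyV, ?_⟩
    rw [app_res]
    exact hV0.trans (map_zero _).symm

theorem leftUnitIso_inv_app (M : X.Modules) {U : X.Opens} (m : Γ(M, U)) :
    (TMul.leftUnitIso M).inv.app U m = tm (M := Coh.structureModule X) (1 : Γ(X, U)) m := by
  have h := CurveRR.leftUnitIso_tm M (1 : Γ(X, U)) m
  rw [one_smul] at h
  conv_lhs => rw [← h]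
  exact congrArg (fun φ : CohB1.tensorMod (Coh.structureModule X) M ⟶ CohB1.tensorMod (Coh.structureModule X) M =>
    φ.app U (tm (M := Coh.structureModule X) (1 : Γ(X, U)) m)) (TMul.leftUnitIso M).hom_inv_id

/-- `M → N ⊗ L` from a section -/
def mulBy {N : X.Modules} (s : Coh.structureModule X ⟶ N) (L : X.Modules) : L ⟶ CohB1.tensorMod N L :=
  (TMul.leftUnitIso L).inv ≫ tmap s L

theorem mulBy_app {N : X.Modules} (s : Coh.structureModule X ⟶ N) (L : X.Modules) {U : X.Opens} (l : Γ(L, U)) :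
    (mulBy s L).app U l = tm (val s U) l := by
  show (tmap s L).app U ((TMul.leftUnitIso L).inv.app U l) = _
  rw [leftUnitIso_inv_app, tmap_tm]
  rfl

section Factor

variable {p : X} {hp : IsClosed ({p} : Set X)} {L ω : X.Modules}

/-- the ideal of a closed point -/
abbrev ptI (p : X) (hp : IsClosed ({p} : Set X)) : X.IdealSheafData := Scheme.IdealSheafData.vanishingIdeal ⟨{p}, hp⟩

/-- the section of `L` cutting out `p` -/
def secOf (θ : CohB1.tensorMod (ClSub.idealMod (ptI p hp)) L ≅ Coh.structureModule X) : Coh.structureModule X ⟶ L :=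
  θ.inv ≫ CurveRR.idealIncl (ptI p hp) L

variable (θ : CohB1.tensorMod (ClSub.idealMod (ptI p hp)) L ≅ Coh.structureModule X)

theorem isGen_val_inv (U : X.Opens) : IsGen (val θ.inv U) :=
  (TMul.isIso_restrict_iff θ.inv U).1 inferInstance

theorem val_secOf (U : X.Opens) : val (secOf θ) U = (CurveRR.idealIncl (ptI p hp) L).app U (val θ.inv U) := rfl

/-- local shape of the section -/
theorem exists_coeff {W : X.Opens} (hW : IsAffineOpen W) {g : Γ(L, W)} (hg : IsGen g) :
    ∃ t : Γ(X, W), val (secOf θ) W = t • g ∧ ∀ c ∈ ((ptI p hp)).ideal ⟨W, hW⟩, ∃ r : Γ(X, W), c • g = (r * t) • g := by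
  obtain ⟨a, ha⟩ := (TMul.tm_bijective (M := ClSub.idealMod (ptI p hp)) hg W le_rfl).2 (val θ.inv W)
  change tm a (res L le_rfl g) = _ at ha
  rw [res_self] at ha
  refine ⟨(ClSub.idealModι (ptI p hp)).app W a, ?_, fun c hc => ?_⟩
  · rw [val_secOf, ← ha, CurveRR.idealIncl_tm]
  · obtain ⟨a', ha'⟩ := (Groth.Agent.QC.mem_range_idealModι_affine (ptI p hp) ⟨W, hW⟩ c).mpr hc
    obtain ⟨r, hr⟩ := (isGen_val_inv θ W W le_rfl).2 (tm a' g)
    change r • res _ le_rfl (val θ.inv W) = _ at hr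
    rw [res_self, ← ha] at hr
    refine ⟨r, ?_⟩
    have h := congrArg ((CurveRR.idealIncl (ptI p hp) L).app W) hr
    rw [app_smul, CurveRR.idealIncl_tm, CurveRR.idealIncl_tm, ha', smul_smul] at h
    exact h.symm

theorem isGen_secOf_off {W : X.Opens} (hW : IsAffineOpen W) {g : Γ(L, W)} (hg : IsGen g) (hpW : p ∉ W) :
    IsGen (val (secOf θ) W) := by
  obtain ⟨t, ht, hI⟩ := exists_coeff θ hW hg
  obtain ⟨r, hr⟩ := hI 1 (by
    rw [Scheme.IdealSheafData.vanishingIdeal_ideal, PrimeSpectrum.mem_vanishingIdeal]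
    intro q hq
    exact (hpW (by
      have h1 : hW.fromSpec q = p := hq
      rw [← h1]
      exact hW.range_fromSpec.le ⟨q, rfl⟩)).elim)
  have h1 : (1 : Γ(X, W)) = r * t := by
    refine (hg W le_rfl).1 ?_
    show (1 : Γ(X, W)) • res L le_rfl g = (r * t) • res L le_rfl g
    rw [res_self]
    exact hr
  rw [ht]
  exact TMul.isGen_smul hg (IsUnit.of_mul_eq_one r (by rw [mul_comm]; exact h1.symm))

theorem exists_off (hL : PicF.IsInvertible L) {U : X.Opens} {y : X} (hy : y ∈ U) (hne : y ≠ p) :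
    ∃ (W : X.Opens) (_ : W ≤ U), y ∈ W ∧ IsGen (val (secOf θ) W) := by
  obtain ⟨D, g, hyD, hg⟩ := TMul.exists_isGen hL y
  obtain ⟨W, hW, hyW, hWD⟩ := exists_isAffineOpen_mem_and_subset
    (U := U ⊓ D ⊓ ⟨{p}ᶜ, hp.isOpen_compl⟩) (x := y) ⟨⟨hy, hyD⟩, hne⟩
  exact ⟨W, fun z hz => (hWD hz).1.1, hyW,
    isGen_secOf_off θ hW (hg.res (fun z hz => (hWD hz).1.2)) fun h => (hWD h).2 rfl⟩

theorem notMem_secOf (hL : PicF.IsInvertible L) : p ∉ CohB1.genLocus L (secOf θ) := by
  have h := CurveRR.notMem_genLocus_idealIncl hL (ptI p hp) (val θ.inv ⊤) (z := p) (by simp)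
  rwa [show TMul.homOf ((CurveRR.idealIncl (ptI p hp) L).app ⊤ (val θ.inv ⊤)) = secOf θ from
    TMul.hom_ext_val ((TMul.val_homOf _ ⊤).trans (res_self L le_rfl _))] at h

/-- the local equation at `p` -/
theorem exists_at (hL : PicF.IsInvertible L) [IsDomain (X.presheaf.stalk p)]
    (hgen : ∃ η, η ⤳ p ∧ η ≠ p) {U : X.Opens} (hU : p ∈ U) :
    ∃ (W : X.Opens) (_ : W ≤ U) (hpW : p ∈ W) (hW : IsAffineOpen W) (g : Γ(L, W)) (t : Γ(X, W)),
      IsGen g ∧ val (secOf θ) W = t • g ∧ ¬ IsUnit (X.presheaf.germ W p hpW t) ∧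
        X.presheaf.germ W p hpW t ≠ 0 ∧ ∀ c : Γ(X, W), ¬ IsUnit (X.presheaf.germ W p hpW c) → ∃ r, c = r * t := by
  obtain ⟨D, g, hpD, hg⟩ := TMul.exists_isGen hL p
  obtain ⟨W, hW, hpW, hWD⟩ := exists_isAffineOpen_mem_and_subset (U := U ⊓ D) (x := p) ⟨hU, hpD⟩
  have hg' := hg.res (hWD.trans inf_le_right : W ≤ D)
  obtain ⟨t, ht, hI⟩ := exists_coeff θ hW hg'
  refine ⟨W, hWD.trans inf_le_left, hpW, hW, _, t, hg', ht, fun h => notMem_secOf θ hL
    ((TMul.mem_genLocus_iff_isUnit _ hg' ht hpW).2 h), fun h0 => ?_, fun c hc => ?_⟩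
  · obtain ⟨η, hη, hne⟩ := hgen
    obtain ⟨V, hpV, i₁, i₂, hres⟩ := X.presheaf.germ_eq (U := W) (V := W) p hpW hpW t 0 (h0.trans (map_zero _).symm)
    have hηW : η ∈ W := hη.mem_open W.2 hpW
    have hηV : η ∈ V := hη.mem_open V.2 hpV
    obtain ⟨W', hW'U, hηW', hgen'⟩ := exists_off θ hL (U := V) hηV hne
    have hu := (TMul.mem_genLocus_iff_isUnit _ hg' ht hηW).1 (TMul.le_genLocus _ hgen' hηW')
    refine hu.ne_zero ?_
    rw [← X.presheaf.germ_res_apply i₁ η hηV t, hres, map_zero, map_zero]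
  · obtain ⟨r, hr⟩ := hI c (by
      rw [Scheme.IdealSheafData.vanishingIdeal_ideal, PrimeSpectrum.mem_vanishingIdeal]
      intro q hq
      by_contra hcq
      have h1 : hW.fromSpec q = p := hq
      have hmem : hW.fromSpec q ∈ X.basicOpen c := by
        have : q ∈ hW.fromSpec ⁻¹ᵁ X.basicOpen c := by rw [hW.fromSpec_preimage_basicOpen]; exact hcq
        exact this
      rw [h1] at hmem
      exact hc ((X.mem_basicOpen c p hpW).1 hmem))
    refine ⟨r, (hg' W le_rfl).1 ?_⟩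
    show c • res L le_rfl _ = (r * t) • res L le_rfl _
    rw [res_self]
    exact hr

variable (hL : PicF.IsInvertible L) [IsDomain (X.presheaf.stalk p)] (hgen : ∃ η, η ⤳ p ∧ η ≠ p)
  {We : X.Opens} (hpe : p ∈ We) {e : Γ(ω, We)} (he : IsGen e)

omit hL hgen hpe in
include he in
/-- the local equation is a nonzerodivisor on `ω` at `p` -/
theorem torsion_free {W : X.Opens} (hW : W ≤ We) (hpW : p ∈ W) {t : Γ(X, W)}
    (ht : X.presheaf.germ W p hpW t ≠ 0) (m : Γ(ω, W)) (hm : t • m = 0) :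
    ∃ (V : X.Opens) (hV : V ≤ W), p ∈ V ∧ res ω hV m = 0 := by
  obtain ⟨c, hc⟩ := (he W hW).2 m
  change c • res ω hW e = m at hc
  have h1 : t * c = 0 := (he W hW).1 (show (t * c) • res ω hW e = (0 : Γ(X, W)) • res ω hW e by
    rw [mul_smul, hc, hm, zero_smul])
  have h2 : X.presheaf.germ W p hpW c = 0 :=
    (mul_eq_zero.1 ((map_mul _ t c).symm.trans (by rw [h1, map_zero]))).resolve_left ht
  obtain ⟨V, hpV, i₁, i₂, hres⟩ := X.presheaf.germ_eq (U := W) (V := W) p hpW hpW c 0 (h2.trans (map_zero _).symm)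
  refine ⟨V, i₁.le, hpV, ?_⟩
  rw [← hc, res_smul, show resO X i₁.le c = 0 from hres.trans (map_zero _), zero_smul]

include hL hgen hpe he in
theorem eq_zero_of_secOf_comp (φ : L ⟶ ω) (h : secOf θ ≫ φ = 0) : φ = 0 := by
  have hv : ∀ W, φ.app W (val (secOf θ) W) = 0 := fun W =>
    congrArg (fun ψ : Coh.structureModule X ⟶ ω => val ψ W) h
  refine hom_eq_zero φ fun U s y hy => ?_
  by_cases hyp : y = p
  · subst hyp
    obtain ⟨W, hWU, hpW, -, g, t, hg, ht, -, ht0, -⟩ := exists_at θ hL hgen (U := U ⊓ We) ⟨hy, hpe⟩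
    obtain ⟨c, hc⟩ := (hg W le_rfl).2 (res L (hWU.trans inf_le_left) s)
    change c • res L le_rfl g = _ at hc
    rw [res_self] at hc
    have h1 : t • φ.app W g = 0 := by rw [← app_smul, ← ht, hv]
    obtain ⟨V, hV, hpV, hV0⟩ := torsion_free he (hWU.trans inf_le_right) hpW ht0 _ h1
    refine ⟨V, hV.trans (hWU.trans inf_le_left), hpV, ?_⟩
    rw [← res_res L hV (hWU.trans inf_le_left), ← app_res, ← hc, app_smul, res_smul, hV0, smul_zero]
  · obtain ⟨W, hWU, hyW, hg⟩ := exists_off θ hL hy hyp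
    refine ⟨W, hWU, hyW, ?_⟩
    obtain ⟨c, hc⟩ := (hg W le_rfl).2 (res L hWU s)
    change c • res L le_rfl _ = _ at hc
    rw [res_self] at hc
    rw [← hc, app_smul, hv, smul_zero]

include hL hgen hpe he in
theorem notMem_genLocus_comp (φ : L ⟶ ω) : p ∉ CohB1.genLocus ω (secOf θ ≫ φ) := by
  obtain ⟨W, hWe, hpW, -, g, t, hg, ht, htu, -, -⟩ := exists_at θ hL hgen (U := We) hpe
  obtain ⟨c, hc⟩ := (he.res hWe W le_rfl).2 (φ.app W g)
  change c • res ω le_rfl (res ω hWe e) = _ at hc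
  rw [res_self] at hc
  have h1 : val (secOf θ ≫ φ) W = (t * c) • res ω hWe e := by
    rw [mul_smul, hc, ← app_smul, ← ht]
    rfl
  intro h
  have h2 := (TMul.mem_genLocus_iff_isUnit _ (he.res hWe) h1 hpW).1 h
  rw [map_mul] at h2
  exact htu (isUnit_of_mul_isUnit_left h2)

include hL hgen hpe he in
theorem exists_factor (s : Coh.structureModule X ⟶ ω) (hs : p ∉ CohB1.genLocus ω s) :
    ∃ φ : L ⟶ ω, secOf θ ≫ φ = s := by
  let m : ω ⟶ CohB1.tensorMod ω L := mulBy (secOf θ) ω ≫ (TMul.commIso L ω).hom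
  have hm : ∀ (U : X.Opens) (v : Γ(ω, U)), m.app U v = tm v (val (secOf θ) U) := fun U v => by
    show (TMul.commIso L ω).hom.app U ((mulBy (secOf θ) ω).app U v) = _
    rw [mulBy_app]
    exact TMul.commHom_tm _ _
  haveI : Mono m := Preadditive.mono_of_cancel_zero _ fun {Z} a ha => hom_eq_zero a fun U z y hy => by
    have h0 : ∀ (V : X.Opens) (hV : V ≤ U), tm (a.app V (res Z hV z)) (val (secOf θ) V) = 0 := fun V hV => by
      rw [← hm]
      exact congrArg (fun ψ : Z ⟶ _ => ψ.app V (res Z hV z)) ha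
    by_cases hyp : y = p
    · subst hyp
      obtain ⟨W, hWU, hpW, -, g, t, hg, ht, -, ht0, -⟩ := exists_at θ hL hgen (U := U ⊓ We) ⟨hy, hpe⟩
      have h1 := h0 W (hWU.trans inf_le_left)
      rw [ht, TMul.tm_smul, ← TMul.smul_tm] at h1
      have h2 : t • a.app W (res Z (hWU.trans inf_le_left) z) = 0 := by
        refine (TMul.tm_bijective hg W le_rfl).1 ?_
        show tm _ (res L le_rfl g) = tm 0 (res L le_rfl g)
        rw [res_self, h1, TMul.zero_tm]
      obtain ⟨V, hV, hpV, hV0⟩ := torsion_free he (hWU.trans inf_le_right) hpW ht0 _ h2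
      refine ⟨V, hV.trans (hWU.trans inf_le_left), hpV, ?_⟩
      rw [← res_res Z hV (hWU.trans inf_le_left), ← app_res, hV0]
    · obtain ⟨W, hWU, hyW, hg⟩ := exists_off θ hL hy hyp
      refine ⟨W, hWU, hyW, (TMul.tm_bijective hg W le_rfl).1 ?_⟩
      show tm _ (res L le_rfl (val (secOf θ) W)) = tm 0 (res L le_rfl (val (secOf θ) W))
      rw [res_self, h0 W hWU, TMul.zero_tm]
  let h : L ⟶ CohB1.tensorMod ω L := mulBy s L
  have hh : ∀ (U : X.Opens) (l : Γ(L, U)), h.app U l = tm (val s U) l := fun U l => mulBy_app s L l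
  have hπ : h ≫ cokernel.π m = 0 := hom_eq_zero _ fun U l y hy => by
    suffices key : ∃ (W : X.Opens) (hW : W ≤ U) (v : Γ(ω, W)), y ∈ W ∧
        tm (val s W) (res L hW l) = tm v (val (secOf θ) W) by
      obtain ⟨W, hW, v, hyW, hv⟩ := key
      refine ⟨W, hW, hyW, ?_⟩
      show (cokernel.π m).app W (h.app W (res L hW l)) = 0
      rw [hh, hv, ← hm]
      exact congrArg (fun ψ : _ ⟶ cokernel m => ψ.app W v) (cokernel.condition _)
    by_cases hyp : y = p
    · subst hyp
      obtain ⟨W, hWU, hpW, -, g, t, hg, ht, -, -, hdiv⟩ := exists_at θ hL hgen (U := U ⊓ We) ⟨hy, hpe⟩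
      have hWe : W ≤ We := hWU.trans inf_le_right
      obtain ⟨c, hc⟩ := (he W hWe).2 (val s W)
      change c • res ω hWe e = _ at hc
      obtain ⟨r, rfl⟩ := hdiv c fun hu => hs
        ((TMul.mem_genLocus_iff_isUnit s (he.res hWe) hc.symm hpW).2 hu)
      obtain ⟨d, hd⟩ := (hg W le_rfl).2 (res L (hWU.trans inf_le_left) l)
      change d • res L le_rfl g = _ at hd
      rw [res_self] at hd
      refine ⟨W, hWU.trans inf_le_left, (d * r) • res ω hWe e, hpW, ?_⟩
      rw [← hc, ← hd, ht, TMul.tm_smul, TMul.tm_smul, TMul.smul_tm, TMul.smul_tm, smul_smul, smul_smul]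
      congr 1
      ring
    · obtain ⟨W, hWU, hyW, hg⟩ := exists_off θ hL hy hyp
      obtain ⟨d, hd⟩ := (hg W le_rfl).2 (res L hWU l)
      change d • res L le_rfl _ = _ at hd
      rw [res_self] at hd
      exact ⟨W, hWU, d • val s W, hyW, by rw [← hd, TMul.tm_smul, TMul.smul_tm]⟩
  refine ⟨Abelian.monoLift m h hπ, (cancel_mono m).1 ?_⟩
  rw [Category.assoc, Abelian.monoLift_comp]
  refine TMul.hom_ext_val ?_
  show h.app ⊤ (val (secOf θ) ⊤) = m.app ⊤ (val s ⊤)
  rw [hh, hm]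

end Factor

end Groth.Agent.DualGeneric
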