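import Groth.Agent.DualGeneric.InjHom
import Groth.Agent.DCohShriek.DualModuleField
import Groth.Agent.DCohShriek.DualizingField
import Mathlib.Algebra.Category.ModuleCat.Injective
import Mathlib.Algebra.Homology.DerivedCategory.Ext.Linear

/-!
Serre duality in all degrees over a field.
-/

set_option autoImplicit false
set_option backward.isDefEq.respectTransparency false
set_option backward.isDefEq.respectTransparency.types false
set_option linter.style.haveILetI false
set_option linter.unusedSectionVars false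
set_option maxHeartbeats 1000000

universe u

open CategoryTheory CategoryTheory.Limits AlgebraicGeometry Opposite

attribute [local instance] HasDerivedCategory.standard

noncomputable section

namespace Groth.Agent.DualGeneric

open Groth.Agent.DCohShriek

variable (k : Type u) [Field k]

instance injective_self : Injective (ModuleCat.of k k) := by
  haveI : Module.Injective k k := Module.Baer.injective fun I g => by
    rcases Ideal.eq_bot_or_top I with rfl | rfl
    · exact ⟨0, fun x hx => by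
        obtain rfl : x = 0 := (Submodule.mem_bot k).1 hx
        exact (map_zero g).symm⟩
    · exact ⟨g.comp (LinearMap.id.codRestrict ⊤ fun x => Submodule.mem_top), fun x hx => rfl⟩
  exact Module.injective_object_of_injective_module k k

/-- endomorphisms of the unit are scalars -/
def endUnit : (unitD k ⟶ unitD k) ≃ₗ[k] k := (evUnit k (unitD k)).trans (unitEquiv k)

/-- maps to the unit give linear forms -/
def evDual (K : Dual.D k) : (K ⟶ unitD k) →ₗ[k] Module.Dual k (unitD k ⟶ K) where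
  toFun g := (endUnit k).toLinearMap.comp (Linear.rightComp k (unitD k) g)
  map_add' g g' := LinearMap.ext fun x => by simp [Preadditive.comp_add]
  map_smul' r g := LinearMap.ext fun x => by simp [Linear.comp_smul]

theorem evDual_bijective (K : Dual.D k) : Function.Bijective (evDual k K) := by
  have hb := homH_injective_bijective (ModuleCat.of k k) K
  refine ⟨(injective_iff_map_eq_zero _).2 fun g hg => hb.1 (ModuleCat.hom_ext (LinearMap.ext fun y => ?_)), fun l => ?_⟩
  · obtain ⟨x, rfl⟩ := (evUnit k K).surjective y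
    have h : endUnit k (x ≫ g) = 0 := LinearMap.congr_fun hg x
    have h' : x ≫ g = 0 := (endUnit k).injective (h.trans (map_zero _).symm)
    show ((DerivedCategory.homologyFunctor (ModuleCat.{u} k) 0).map g).hom (evUnit k K x) =
      ((DerivedCategory.homologyFunctor (ModuleCat.{u} k) 0).map (0 : K ⟶ unitD k)).hom (evUnit k K x)
    rw [← evUnit_comp, ← evUnit_comp, h', comp_zero]
  · obtain ⟨g, hg : (DerivedCategory.homologyFunctor (ModuleCat.{u} k) 0).map g = _⟩ :=
      hb.2 (ModuleCat.ofHom ((unitEquiv k).symm.toLinearMap.comp (l.comp (evUnit k K).symm.toLinearMap)))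
    refine ⟨g, LinearMap.ext fun x => ?_⟩
    show unitEquiv k (evUnit k (unitD k) (x ≫ g)) = l x
    rw [evUnit_comp, hg]
    exact ((unitEquiv k).apply_symm_apply _).trans (congrArg l ((evUnit k K).symm_apply_apply x))

variable {k} {X : Scheme.{u}} [X.Over (Spec (CommRingCat.of k))] [IsProper (X ↘ Spec (CommRingCat.of k))]
  [DCoh.HasRpush (X ↘ Spec (CommRingCat.of k))] {hf : DCoh.RpushPreservesQCoh (X ↘ Spec (CommRingCat.of k))}
  {a : DCoh.DQCoh (Spec (CommRingCat.of k)) ⥤ DCoh.DQCoh X} (adj : DCoh.RpushQ (X ↘ Spec (CommRingCat.of k)) hf ⊣ a)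

/-- morphisms of `D_QCoh` are morphisms of `D` -/
def homEquivQ (G K : DCoh.DQCoh X) : (G ⟶ K) ≃ₗ[k] (G.obj ⟶ K.obj) where
  toFun g := g.hom
  invFun g := ObjectProperty.homMk g
  map_add' _ _ := rfl
  map_smul' _ _ := rfl

include adj in
/-- duality for objects of `D_QCoh` -/
theorem nonempty_duality (O : DCoh.DQCoh (Spec (CommRingCat.of k))) (e : O.obj ≅ DCoh.inD _ (Coh.structureModule _))
    (G : DCoh.DQCoh X) :
    Nonempty ((G.obj ⟶ (a.obj O).obj) ≃ₗ[k]
      Module.Dual k (DCoh.inD X (Coh.structureModule X) ⟶ G.obj)) := by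
  obtain ⟨σ, hσ⟩ := exists_unit_map (A := k) (hf := hf)
  let e' : (tildeQ k).obj (unitD k) ≅ O := ObjectProperty.isoMk _ (tildeUnitIso k ≪≫ e.symm)
  let s : (unitX X ⟶ G) ≃ₗ[k] (unitD k ⟶ (gammaD hf).obj G) := LinearEquiv.ofBijective
    ((Linear.leftComp k _ σ).comp ((gammaD hf).mapLinearMap k)) (hσ G)
  let h : ((gammaD hf).obj G ⟶ unitD k) ≃ₗ[k] (G ⟶ (tildeQ k ⋙ a).obj (unitD k)) :=
    { (gammaAdj adj).homEquiv G (unitD k) with
      map_add' := fun g g' => ((gammaAdj adj).homAddEquiv G (unitD k)).map_add g g'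
      map_smul' := fun r g => by
        show (gammaAdj adj).homEquiv G (unitD k) (r • g) = r • (gammaAdj adj).homEquiv G (unitD k) g
        apply ((gammaAdj adj).homEquiv G (unitD k)).symm.injective
        rw [Equiv.symm_apply_apply, Adjunction.homEquiv_counit, Functor.map_smul, Linear.smul_comp,
          ← Adjunction.homEquiv_counit, Equiv.symm_apply_apply] }
  exact ⟨((homEquivQ (k := k) G (a.obj O)).symm.trans (Linear.homCongr k (Iso.refl G) (a.mapIso e').symm)).trans
    (h.symm.trans ((LinearEquiv.ofBijective (evDual k _) (evDual_bijective k _)).trans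
      ((homEquivQ (k := k) (unitX X) G).symm.trans s).dualMap))⟩

include adj in
/-- Serre duality: the dual of `Hⁱ(X, F)` is `Hom(F[i], a(O))` -/
theorem nonempty_duality_hh (O : DCoh.DQCoh (Spec (CommRingCat.of k)))
    (e : O.obj ≅ DCoh.inD _ (Coh.structureModule _)) (F : X.Modules) (hF : Coh.IsQCoh F) (i : ℕ) :
    Nonempty (((DCoh.inD X F)⟦(i : ℤ)⟧ ⟶ (a.obj O).obj) ≃ₗ[k] Module.Dual k (Coh.HH X F i)) := by
  obtain ⟨d⟩ := nonempty_duality adj O e (shiftQ F hF i)
  exact ⟨d.trans (hhHomLinearEquiv F i).dualMap⟩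

/-- a complex with one cohomology module -/
theorem nonempty_iso_shift {K : DCoh.D X} (c : ℤ) (hz : ∀ j : ℤ, j ≠ c → IsZero (DCoh.HD K j)) :
    Nonempty (K ≅ (DCoh.inD X (DCoh.HD K c))⟦-c⟧) := by
  haveI : K.IsGE c := (DerivedCategory.isGE_iff _ _).2 fun i hi => hz i hi.ne
  haveI : K.IsLE c := (DerivedCategory.isLE_iff _ _).2 fun i hi => hz i hi.ne'
  obtain ⟨M, ⟨eM⟩⟩ := DerivedCategory.exists_iso_singleFunctor_obj_of_isGE_of_isLE K c
  let eH : DCoh.HD K c ≅ M := (DerivedCategory.homologyFunctor X.Modules c).mapIso eM ≪≫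
    (DerivedCategory.singleFunctorCompHomologyFunctorIso X.Modules c).app M
  exact ⟨eM ≪≫ (((DerivedCategory.singleFunctors X.Modules).shiftIso (-c) c 0 (by omega)).app M).symm ≪≫
    (shiftFunctor (DCoh.D X) (-c)).mapIso ((DerivedCategory.singleFunctor X.Modules 0).mapIso eH.symm)⟩

include adj in
/-- Serre duality in all degrees for a concentrated dualizing complex. -/
theorem nonempty_ext_dual [HasExt.{u} X.Modules] (O : DCoh.DQCoh (Spec (CommRingCat.of k)))
    (e : O.obj ≅ DCoh.inD _ (Coh.structureModule _)) (d : ℕ)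
    (hz : ∀ j : ℤ, j ≠ -(d : ℤ) → IsZero (DCoh.HD (a.obj O).obj j))
    (F : X.Modules) (hF : Coh.IsQCoh F) (i j : ℕ) (hij : i + j = d) :
    Nonempty (Abelian.Ext F (DCoh.HD (a.obj O).obj (-(d : ℤ))) j ≃ₗ[k] Module.Dual k (Coh.HH X F i)) := by
  obtain ⟨D⟩ := nonempty_duality_hh adj O e F hF i
  obtain ⟨eK⟩ := nonempty_iso_shift _ hz
  let S := shiftFunctor (DCoh.D X) (i : ℤ)
  let ωX := DCoh.HD (a.obj O).obj (-(d : ℤ))
  let m : (DCoh.inD X F ⟶ (DCoh.inD X ωX)⟦(j : ℤ)⟧) ≃ₗ[k] ((DCoh.inD X F)⟦(i : ℤ)⟧ ⟶ ((DCoh.inD X ωX)⟦(j : ℤ)⟧)⟦(i : ℤ)⟧) :=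
    LinearEquiv.ofBijective (S.mapLinearMap k) ((Functor.FullyFaithful.ofFullyFaithful S).map_bijective _ _)
  exact ⟨(Abelian.Ext.homLinearEquiv (R := k)).trans (m.trans ((Linear.homCongr k (Iso.refl _)
    (((shiftFunctorAdd' (DCoh.D X) (j : ℤ) (i : ℤ) (-(-(d : ℤ))) (by omega)).app _).symm ≪≫ eK.symm)).trans D))⟩

include adj in
/-- `H^j(X, ω)` is dual to `H^i(X, O)`. -/
theorem nonempty_hh_dual (O : DCoh.DQCoh (Spec (CommRingCat.of k))) (e : O.obj ≅ DCoh.inD _ (Coh.structureModule _))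
    (d : ℕ) (hz : ∀ j : ℤ, j ≠ -(d : ℤ) → IsZero (DCoh.HD (a.obj O).obj j)) (i j : ℕ) (hij : i + j = d) :
    Nonempty (Coh.HH X (DCoh.HD (a.obj O).obj (-(d : ℤ))) j ≃ₗ[k]
      Module.Dual k (Coh.HH X (Coh.structureModule X) i)) := by
  haveI : HasExt.{u + 1} X.Modules := HasExt.standard _
  obtain ⟨D⟩ := nonempty_duality_hh adj O e (Coh.structureModule X) (QC.isQCoh_unit X) i
  obtain ⟨eK⟩ := nonempty_iso_shift _ hz
  let S := shiftFunctor (DCoh.D X) (i : ℤ)
  let ωX := DCoh.HD (a.obj O).obj (-(d : ℤ))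
  let m : (DCoh.inD X (Coh.structureModule X) ⟶ (DCoh.inD X ωX)⟦(j : ℤ)⟧) ≃ₗ[k]
      ((DCoh.inD X (Coh.structureModule X))⟦(i : ℤ)⟧ ⟶ ((DCoh.inD X ωX)⟦(j : ℤ)⟧)⟦(i : ℤ)⟧) :=
    LinearEquiv.ofBijective (S.mapLinearMap k) ((Functor.FullyFaithful.ofFullyFaithful S).map_bijective _ _)
  exact ⟨(hhHomLinearEquiv ωX j).trans (m.trans ((Linear.homCongr k (Iso.refl _)
    (((shiftFunctorAdd' (DCoh.D X) (j : ℤ) (i : ℤ) (-(-(d : ℤ))) (by omega)).app _).symm ≪≫ eK.symm)).trans D))⟩

end Groth.Agent.DualGeneric
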