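import Groth.Agent.DualCx.GorCriterion
import Groth.Agent.DualCx.Apps
import Groth.Agent.LocH.DepthMisc

/-!
A dualizing complex with one cohomology module.
-/

set_option autoImplicit false
set_option backward.isDefEq.respectTransparency false
set_option backward.isDefEq.respectTransparency.types false
set_option linter.style.haveILetI false
set_option maxHeartbeats 1000000

universe u

open CategoryTheory CategoryTheory.Limits DerivedCategory IsLocalRing

attribute [local instance] HasDerivedCategory.standard

noncomputable section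

namespace Groth.Agent.DualGeneric

open Groth.Agent.DualCx

/-- If a dualizing complex has a single cohomology module, that module is Cohen–Macaulay. -/
theorem isCohenMacaulayModule_of_concentrated {A : Type u} [CommRing A] [IsNoetherianRing A] [IsLocalRing A]
    {w : Dual.D A} (hw : Dual.IsDualizing A w) (n : ℤ) (hz : ∀ i : ℤ, i ≠ n → Subsingleton (Dual.HD A w i))
    [Nontrivial (Dual.HD A w n)] : LocCoh.IsCohenMacaulayModule A (Dual.HD A w n) := by
  obtain ⟨s, hs⟩ := exists_normalized_shift hw
  let K := w⟦s⟧
  have hK : Dual.IsDualizing A K := isDualizing_shift hw s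
  let c : ℤ := n - s
  have hzK : ∀ i : ℤ, i ≠ c → IsZero ((DerivedCategory.homologyFunctor (ModuleCat.{u} A) i).obj K) := fun i hi => by
    obtain ⟨e⟩ := nonempty_hd_shift w s i
    haveI := hz (s + i) (by omega)
    haveI : Subsingleton (Dual.HD A (w⟦s⟧) i) := e.toEquiv.subsingleton
    exact ModuleCat.isZero_of_subsingleton _
  haveI : K.IsGE c := (DerivedCategory.isGE_iff _ _).2 fun i hi => hzK i (by omega)
  haveI : K.IsLE c := (DerivedCategory.isLE_iff _ _).2 fun i hi => hzK i (by omega)
  obtain ⟨M, ⟨eM⟩⟩ := DerivedCategory.exists_iso_singleFunctor_obj_of_isGE_of_isLE K c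
  let eK : K ≅ (Dual.inD A M)⟦-c⟧ :=
    eM ≪≫ (((DerivedCategory.singleFunctors (ModuleCat.{u} A)).shiftIso (-c) c 0 (by omega)).app M).symm
  let eH : Dual.HD A K c ≃ₗ[A] M := ((DerivedCategory.homologyFunctor (ModuleCat.{u} A) c).mapIso eM ≪≫
    (DerivedCategory.singleFunctorCompHomologyFunctorIso (ModuleCat.{u} A) c).app M).toLinearEquiv
  obtain ⟨e0⟩ := nonempty_hd_shift w s c
  let eW : Dual.HD A w n ≃ₗ[A] M := (LinearEquiv.cast (R := A) (M := fun i => Dual.HD A w i)
    (show n = s + c by omega)).trans (e0.symm.trans eH)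
  haveI : Module.Finite A M := by
    haveI := hw.finite_cohomology n
    exact Module.Finite.equiv eW
  haveI : Nontrivial M := eW.toEquiv.symm.nontrivial
  have hT : ∀ i : ℤ, i ≠ c → Subsingleton (T K M i) := fun i hi => by
    haveI := hK.ext_self_subsingleton (i - c) (by omega)
    refine subsingleton_of_forall_eq 0 fun x => ?_
    have h0 : (shiftFunctor (Dual.D A) (-c)).map x = 0 := by
      let y : K ⟶ K⟦i - c⟧ := eK.hom ≫ (shiftFunctor (Dual.D A) (-c)).map x ≫
        (shiftFunctorAdd' (Dual.D A) i (-c) (i - c) (by omega)).inv.app K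
      have hy : y = 0 := Subsingleton.elim _ _
      rw [← cancel_epi eK.hom, ← cancel_mono ((shiftFunctorAdd' (Dual.D A) i (-c) (i - c) (by omega)).inv.app K)]
      simpa [y] using hy
    exact (shiftFunctor (Dual.D A) (-c)).map_injective (h0.trans (Functor.map_zero _ _ _).symm)
  obtain ⟨δ, hδ, hnt⟩ := exists_top hK hs (M := M)
  have hcδ : c = -(δ : ℤ) := by
    by_contra hne
    exact not_subsingleton_iff_nontrivial.2 hnt (hT _ fun h => hne h.symm)
  have hM : LocCoh.IsCohenMacaulayModule A M :=
    (isCohenMacaulay_iff_local hK hs δ hδ).2 fun i hi => hT _ (by omega)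
  have hd : LocCoh.depth A (Dual.HD A w n) = LocCoh.depth A M := LocH.idealDepth_congr eW _
  rw [LocCoh.IsCohenMacaulayModule, Module.supportDim_eq_of_equiv eW, hd]
  exact hM

end Groth.Agent.DualGeneric
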