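import Groth.Agent.DCohShriek.DualizingField
import Groth.Agent.DualSch.StalkMod
import Groth.Agent.DualFlat.Iso
import Groth.Agent.DualCx.Canonical

/-!
The dualizing complex seen from a closed point.
-/

set_option autoImplicit false
set_option backward.isDefEq.respectTransparency false
set_option backward.isDefEq.respectTransparency.types false
set_option linter.style.haveILetI false
set_option linter.unusedSectionVars false
set_option maxHeartbeats 2000000

universe u

open CategoryTheory CategoryTheory.Limits AlgebraicGeometry TensorProduct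

attribute [local instance] HasDerivedCategory.standard

noncomputable section

namespace Groth.Agent.DualGeneric

open Groth.Agent.DCohShriek Groth.Agent.DQCoh Groth.Agent.DualCx Groth.Agent.DualFlat

/-- Supports and localizations. -/
lemma mem_support_of_isLocalizedModule {B L : Type u} [CommRing B] [CommRing L] [Algebra B L] (S : Submonoid B)
    [IsLocalization S L] {M N : Type u} [AddCommGroup M] [Module B M] [AddCommGroup N] [Module B N] [Module L N]
    [IsScalarTower B L N] (g : M →ₗ[B] N) [IsLocalizedModule S g] (p : PrimeSpectrum L) :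
    p ∈ Module.support L N ↔ PrimeSpectrum.comap (algebraMap B L) p ∈ Module.support B M := by
  have hdis : ∀ t : S, algebraMap B L t ∉ p.asIdeal := fun t h =>
    p.isPrime.ne_top (Ideal.eq_top_of_isUnit_mem _ h (IsLocalization.map_units L t))
  rw [Module.mem_support_iff', Module.mem_support_iff']
  constructor
  · rintro ⟨n, hn⟩
    obtain ⟨⟨m, s⟩, hms⟩ := IsLocalizedModule.surj S g n
    refine ⟨m, fun r hr h0 => hn (algebraMap B L r * algebraMap B L s) (fun hc => ?_) ?_⟩
    · exact (p.isPrime.mem_or_mem hc).elim hr (hdis s)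
    · rw [mul_smul, algebraMap_smul, algebraMap_smul, show (s : B) • n = g m from hms, ← map_smul, h0, map_zero]
  · rintro ⟨m, hm⟩
    refine ⟨g m, fun c hc h0 => ?_⟩
    obtain ⟨b, s, rfl⟩ := IsLocalization.exists_mk'_eq S c
    have h1 : algebraMap B L b • g m = 0 := by
      rw [← IsLocalization.mk'_spec' L b s, mul_smul, h0, smul_zero]
    rw [algebraMap_smul, ← map_smul, ← map_zero g] at h1
    obtain ⟨t, ht⟩ := IsLocalizedModule.exists_of_eq (S := S) h1
    rw [smul_zero] at ht
    refine hm ((t : B) * b) (fun hmem => ?_) (by rw [mul_smul]; exact ht)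
    have hmem' : algebraMap B L ((t : B) * b) ∈ p.asIdeal := hmem
    rw [map_mul] at hmem'
    refine (p.isPrime.mem_or_mem hmem').elim (hdis t) fun h => hc ?_
    exact (IsLocalization.mk'_mem_iff).2 h

variable {X : Scheme.{u}}
  [∀ (U V : Scheme.{u}) (j : U ⟶ V) [IsOpenImmersion j], PreservesFiniteLimits (Scheme.Modules.restrictFunctor j)]

variable (k : Type u) [Field k]

/-- the model of a dualizing complex over a field at a closed point -/
theorem exists_model [IsNoetherian X] (f : X ⟶ Spec (CommRingCat.of k)) [IsProper f] [DCoh.HasRpush f]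
    {hf : DCoh.RpushPreservesQCoh f} {a : DCoh.DQCoh (Spec (CommRingCat.of k)) ⥤ DCoh.DQCoh X}
    (adj : DCoh.RpushQ f hf ⊣ a) (O : DCoh.DQCoh (Spec (CommRingCat.of k)))
    (e : O.obj ≅ DCoh.inD _ (Coh.structureModule _)) (z : X) (hz : IsClosed ({z} : Set X)) :
    ∃ (L : Type u) (_ : CommRing L) (_ : IsNoetherianRing L) (_ : IsLocalRing L) (w : Dual.D L)
      (π : PrimeSpectrum L → X), Dual.IsDualizing L w ∧ Dual.IsNormalized L w ∧
        π (IsLocalRing.closedPoint L) = z ∧ (∀ p p', π p ⤳ π p' ↔ p ≤ p') ∧ (∀ y, y ⤳ z → ∃ p, π p = y) ∧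
        (∀ p i, Nontrivial ((DCoh.HD (a.obj O).obj i).presheaf.stalk (π p)) ↔
          p ∈ Module.support L (Dual.HD L w i)) ∧
        Nonempty (X.presheaf.stalk z ≃+* L) := by
  obtain ⟨B, _, j, _, ν, m, hm, hnoe, -, hjm, ⟨eν⟩, hdual, hnorm⟩ :=
    exists_chart_closed f adj O (isDualizingSch_point k e) z hz
  haveI := hnoe
  let L := Localization.AtPrime m
  let φ := algebraMap B L
  haveI : IsNoetherianRing L := IsLocalization.isNoetherianRing m.primeCompl L inferInstance
  haveI : Module.Flat B L := IsLocalization.flat L m.primeCompl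
  let w := (locD φ).obj ν
  have hn : Dual.IsNormalized L w := fun i hi =>
    hnorm i fun W hW ω hω M _ _ _ => subsingleton_T_chart k e hi W hW ω hω M
  let π : PrimeSpectrum L → X := fun p => j (PrimeSpectrum.comap φ p)
  refine ⟨L, inferInstance, inferInstance, inferInstance, w, π, hdual, hn, ?_, fun p p' => ?_, fun y hy => ?_,
    fun p i => ?_, ?_⟩
  · refine (congrArg j (PrimeSpectrum.ext ?_)).trans hjm
    exact Localization.AtPrime.under_maximalIdeal (I := m)
  · refine j.isOpenEmbedding.isInducing.specializes_iff.trans ((PrimeSpectrum.le_iff_specializes _ _).symm.trans ?_)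
    refine ⟨fun h x hx => ?_, fun h x hx => h hx⟩
    obtain ⟨b, s, rfl⟩ := IsLocalization.exists_mk'_eq m.primeCompl x
    rw [IsLocalization.mk'_mem_iff] at hx ⊢
    exact h hx
  · obtain ⟨q, rfl⟩ := hy.mem_open j.isOpenEmbedding.isOpen_range ⟨_, hjm⟩
    rw [← hjm] at hy
    obtain ⟨p, hp⟩ := exists_prime_loc m q
      ((PrimeSpectrum.le_iff_specializes q ⟨m, hm.isPrime⟩).2 (j.isOpenEmbedding.isInducing.specializes_iff.1 hy))
    exact ⟨p, congrArg j (PrimeSpectrum.ext hp)⟩
  · rw [DualSch.nontrivial_HD_stalk_iff j eν, ← Module.mem_support_iff,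
      ← mem_support_of_isLocalizedModule m.primeCompl (TensorProduct.mk B L (Dual.HD B ν i) 1) p,
      ← ((locHD φ ν i).toLinearEquiv.trans (tens (A := B) L (Dual.HD B ν i))).support_eq]
  · obtain ⟨ε⟩ := DualSch.nonempty_stalk_ringEquiv j (⟨m, hm.isPrime⟩ : PrimeSpectrum B)
    subst hjm
    exact ⟨ε⟩

/-- points ordered by specialization bound a dimension -/
theorem krullDim_le_of_points {P : Type u} [PartialOrder P] {Y : Type u} [TopologicalSpace Y] (π : P → Y)
    (h : ∀ p p', π p ⤳ π p' ↔ p ≤ p') : Order.krullDim P ≤ topologicalKrullDim Y := by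
  let g : P → (TopologicalSpace.IrreducibleCloseds Y)ᵒᵈ := fun p =>
    OrderDual.toDual ⟨closure {π p}, isIrreducible_singleton.closure, isClosed_closure⟩
  have hg : StrictMono g := fun p p' hlt => by
    show (_ : TopologicalSpace.IrreducibleCloseds Y) < _
    refine lt_of_le_of_ne ?_ fun he => hlt.not_ge ?_
    · exact ((h p p').2 hlt.le).closure_subset
    · refine (h p' p).1 (specializes_iff_mem_closure.2 ?_)
      have := congrArg SetLike.coe he
      exact this.ge (subset_closure rfl)
  exact (Order.krullDim_le_of_strictMono g hg).trans Order.krullDim_orderDual.le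

/-- a maximal chain of points of an irreducible sober space ends at a generic point -/
theorem exists_chain_space {T : Type u} [TopologicalSpace T] [QuasiSober T] [T0Space T] [IrreducibleSpace T] {r : ℕ}
    (hr : topologicalKrullDim T = (r : WithBot ℕ∞)) :
    ∃ y : Fin (r + 1) → T, DimChain.IsChainSpec y ∧ closure {y (Fin.last r)} = Set.univ := by
  obtain ⟨p, hp⟩ := Order.le_krullDim_iff.1 hr.ge
  subst hp
  let y : Fin (p.length + 1) → T := fun i => (p i).isIrreducible.genericPoint
  have hy : ∀ i, closure {y i} = (p i : Set T) := fun i =>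
    (p i).isIrreducible.isGenericPoint_genericPoint (p i).isClosed
  refine ⟨y, fun i => ?_, ?_⟩
  · have hlt : p i.castSucc < p i.succ := p.step i
    refine ⟨specializes_iff_mem_closure.2 ?_, fun he => hlt.ne (TopologicalSpace.IrreducibleCloseds.ext ?_)⟩
    · rw [hy]
      exact SetLike.coe_subset_coe.2 hlt.le ((p i.castSucc).isIrreducible.isGenericPoint_genericPoint
        (p i.castSucc).isClosed).mem
    · rw [← hy, ← hy, he]
  · by_contra hne
    rw [hy] at hne
    let top : TopologicalSpace.IrreducibleCloseds T := ⟨Set.univ, IrreducibleSpace.isIrreducible_univ T, isClosed_univ⟩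
    have hl : p.last < top := lt_of_le_of_ne (fun y hy => Set.mem_univ y) fun he => hne (congrArg SetLike.coe he)
    have h1 := (Order.LTSeries.length_le_krullDim (p.snoc top hl)).trans hr.le
    simp only [RelSeries.snoc_length] at h1
    have : p.length + 1 ≤ p.length := by exact_mod_cast h1
    omega

end Groth.Agent.DualGeneric
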