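import Groth.Agent.DualGeneric.CMOfH0
import Groth.Agent.DualGeneric.SerreDuality
import Groth.Agent.S3637
import Groth.Agent.DCohShriek.DualModuleField
import Groth.Agent.SerrePn.Basic
import Groth.Agent.TopDegRep.Basic
import Groth.Agent.CurveRR.GGVanish

/-!
Endomorphisms of the dualizing module of a one-dimensional proper scheme with `H⁰(O) = k` are scalars.
-/

set_option autoImplicit false
set_option backward.isDefEq.respectTransparency false
set_option backward.isDefEq.respectTransparency.types false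
set_option linter.style.haveILetI false
set_option maxHeartbeats 1000000

universe u

open CategoryTheory CategoryTheory.Limits AlgebraicGeometry
open Groth.Agent.CohFinite

attribute [local instance] HasDerivedCategory.standard

noncomputable section

namespace Groth.Agent.DualGeneric

variable (k : Type u) [Field k] {X : Scheme.{u}} [X.Over (Spec (CommRingCat.of k))]
  [IsProper (X ↘ Spec (CommRingCat.of k))] [DCoh.HasRpush (X ↘ (Spec (CommRingCat.of k)))]
  (h : DCoh.RpushPreservesQCoh (X ↘ (Spec (CommRingCat.of k)))) [DCoh.HasShriek (X ↘ (Spec (CommRingCat.of k))) h]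
  (OY : DCoh.DQCoh (Spec (CommRingCat.of k)))

local notation "ωX" => DCoh.dualizingMod (X ↘ Spec (CommRingCat.of k)) h OY 1

/-- the package: coherent, nonzero stalks, dualizing, scalar endomorphisms -/
theorem omega_facts_of_h0 (hdim : topologicalKrullDim X = 1)
    (h0 : Module.finrank k (Coh.HH X (Coh.structureModule X) 0) = 1)
    (hOY : Nonempty (OY.obj ≅ DCoh.inD (Spec (CommRingCat.of k)) (Coh.structureModule (Spec (CommRingCat.of k))))) :
    Coh.IsCoh ωX ∧ (∀ x : X, Nontrivial ((ωX).presheaf.stalk x)) ∧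
      (∃ tr : Coh.HH X ωX 1 →ₗ[k] k, Canon.IsRDualOver k X 1 ωX tr) ∧
      ∀ ψ : ωX ⟶ ωX, ∃ a : k, ψ = a • 𝟙 ωX := by
  obtain ⟨e⟩ := hOY
  haveI := Sub.connectedSpace_of_h0 k h0
  obtain ⟨hz, hcoh, hst⟩ := Groth.Agent.S3637.result k X (X ↘ Spec (CommRingCat.of k))
    (fun x => Sub.cm_stalk_of_h0 k hdim.le h0 x) 1 (fun Z hZ => dim_component_eq_one k hdim Z hZ) h _
    (DCoh.shriekAdj (X ↘ Spec (CommRingCat.of k)) h) OY ⟨e⟩
  obtain ⟨d⟩ := nonempty_hh_dual (DCoh.shriekAdj (X ↘ Spec (CommRingCat.of k)) h) OY e 1 hz 0 1 rfl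
  obtain ⟨tr, ht⟩ := DCohShriek.exists_isRDual k (DCoh.shriekAdj (X ↘ Spec (CommRingCat.of k)) h) OY e 1 hdim.le
  replace ht : Canon.IsRDualOver k X 1 ωX tr := ht
  have hcoh' : Coh.IsCoh ωX := hcoh
  refine ⟨hcoh', fun x => (hst x).1, ⟨tr, ht⟩, fun ψ => ?_⟩
  have hone : Module.finrank k (Coh.HH X ωX 1) = 1 := (d.finrank_eq.trans Subspace.dual_finrank_eq).trans h0
  have hdual : Module.finrank k (Coh.HH X ωX 1 →ₗ[k] k) = 1 := Subspace.dual_finrank_eq.trans hone
  have htr : tr ≠ 0 := fun h0' => by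
    haveI : Nontrivial (Coh.HH X ωX 1 →ₗ[k] k) := Module.nontrivial_of_finrank_pos (R := k) (by omega)
    obtain ⟨l, hl⟩ := exists_ne (0 : Coh.HH X ωX 1 →ₗ[k] k)
    obtain ⟨φ, hφ⟩ := (ht.2 _ hcoh'.1).2 l
    exact hl (hφ.symm.trans (by rw [Canon.dualityMap, h0', LinearMap.zero_comp]))
  obtain ⟨a, ha⟩ := exists_smul_eq_of_finrank_eq_one hdual htr (Canon.dualityMap k X 1 ωX tr ωX ψ)
  refine ⟨a, (ht.2 _ hcoh'.1).1 (ha.symm.trans (LinearMap.ext fun x => ?_))⟩
  show a • tr x = tr (hhMap k (a • 𝟙 ωX) 1 x)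
  rw [SerrePn.hhMap_smul, LinearMap.smul_apply, map_smul]
  exact congrArg (fun z => a • tr z) (by
    rw [show hhMap k (𝟙 ωX) 1 x = x from by simp [hhMap, Sheaf.H.map]])

end Groth.Agent.DualGeneric
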