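import Groth.Agent.DualGeneric.SubL
import Groth.Agent.AmpleDimOne.Top
import Groth.Agent.CMFlat.Localization
import Groth.Agent.FinFlatExt.Basic

/-!
One-dimensional proper schemes whose only functions are the constants are Cohen-Macaulay.
-/

set_option autoImplicit false
set_option backward.isDefEq.respectTransparency false
set_option backward.isDefEq.respectTransparency.types false
set_option linter.style.haveILetI false
set_option maxHeartbeats 1000000

universe u

open CategoryTheory CategoryTheory.Limits AlgebraicGeometry TopologicalSpace Opposite IsLocalRing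

noncomputable section

namespace Groth.Agent.DualGeneric.Sub

variable {X : Scheme.{u}}

/-- a germ killed by the maximal ideal of a closed point extends by zero to a global section -/
theorem exists_global_of_killed [IsNoetherian X] {z : X} (hz : IsClosed ({z} : Set X))
    (a : X.presheaf.stalk z) (ha : ∀ b ∈ maximalIdeal (X.presheaf.stalk z), b * a = 0) :
    ∃ t : Γ(X, ⊤), X.presheaf.germ ⊤ z trivial t = a := by
  classical
  obtain ⟨U₁, hzU₁, s₁, rfl⟩ := X.presheaf.germ_exist a
  obtain ⟨_, ⟨U, hU, rfl⟩, hzU, hUU⟩ := X.isBasis_affineOpens.exists_subset_of_mem_open hzU₁ U₁.isOpen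
  replace hU : IsAffineOpen U := hU
  let s : Γ(X, U) := (X.presheaf.map (homOfLE hUU).op).hom s₁
  have hs : X.presheaf.germ U z hzU s = X.presheaf.germ U₁ z hzU₁ s₁ :=
    X.presheaf.germ_res_apply _ _ _ _
  -- functions on `U` vanishing at `z` cover the rest of `U`
  let G := {g : Γ(X, U) // z ∉ X.basicOpen g}
  have hcov : ((U : Set X) \ {z}) ⊆ ⋃ g : G, (X.basicOpen g.1 : Set X) := fun y hy => by
    obtain ⟨g, hg, hyg⟩ := hU.exists_basicOpen_le (V := ⟨{z}ᶜ, hz.isOpen_compl⟩) ⟨y, hy.2⟩ hy.1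
    exact Set.mem_iUnion.2 ⟨⟨g, fun h => hg h rfl⟩, hyg⟩
  obtain ⟨F, hF⟩ := (NoetherianSpace.isCompact _).elim_finite_subcover _
    (fun g : G => (X.basicOpen g.1).isOpen) hcov
  have hW : ∀ g : G, ∃ W : X.Opens, z ∈ W ∧ ∃ h : W ≤ U, (X.presheaf.map (homOfLE h).op).hom (g.1 * s) = 0 := by
    intro g
    have hm : X.presheaf.germ U z hzU g.1 ∈ maximalIdeal (X.presheaf.stalk z) := by
      rw [mem_maximalIdeal, mem_nonunits_iff]
      exact fun h => g.2 ((X.mem_basicOpen g.1 z hzU).2 h)
    have h0 : X.presheaf.germ U z hzU (g.1 * s) = X.presheaf.germ U z hzU 0 := by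
      rw [map_mul, map_zero, hs]
      exact ha _ hm
    obtain ⟨W, hzW, i₁, i₂, hi⟩ := X.presheaf.germ_eq z hzU hzU _ _ h0
    exact ⟨W, hzW, i₁.le, hi.trans (map_zero _)⟩
  choose W hzW hWU hW0 using hW
  let V : X.Opens := U ⊓ F.inf W
  have hzV : z ∈ V := ⟨hzU, by
    rw [Opens.coe_finset_inf]
    simpa using fun g _ => hzW g⟩
  -- `s` has vanishing germs on `V` away from `z`
  have hvan : ∀ y, ∀ hy : y ∈ V, y ≠ z → X.presheaf.germ U y hy.1 s = 0 := fun y hy hne => by
    obtain ⟨g, hg⟩ := Set.mem_iUnion.1 (hF (⟨hy.1, hne⟩ : y ∈ (U : Set X) \ {z}))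
    obtain ⟨hgF, hyg⟩ := Set.mem_iUnion.1 hg
    have hyW : y ∈ W g := (Finset.inf_le hgF : F.inf W ≤ W g) hy.2
    have h1 : X.presheaf.germ U y hy.1 (g.1 * s) = 0 :=
      (X.presheaf.germ_res_apply (homOfLE (hWU g)) y hyW _).symm.trans ((congrArg _ (hW0 g)).trans (map_zero _))
    rw [map_mul] at h1
    exact ((X.mem_basicOpen g.1 y hy.1).1 hyg).mul_right_eq_zero.1 h1
  -- glue with zero
  let O : Bool → X.Opens := fun i => if i then V else ⟨{z}ᶜ, hz.isOpen_compl⟩
  let sf : ∀ i : Bool, ToType (X.sheaf.1.obj (op (O i))) := fun i =>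
    match i with
    | true => ((X.presheaf.map (homOfLE (inf_le_left : V ≤ U)).op).hom s : Γ(X, V))
    | false => (0 : Γ(X, O false))
  have h2 : ∀ (y : X) (hyt : y ∈ O true), y ∈ O false → X.presheaf.germ (O true) y hyt (sf true) = 0 :=
    fun y hyt hyf => (X.presheaf.germ_res_apply (homOfLE (inf_le_left : V ≤ U)) y hyt s).trans (hvan y hyt hyf)
  have hcomp : TopCat.Presheaf.IsCompatible X.sheaf.1 O sf := fun i j => by
    refine TopCat.Presheaf.section_ext X.sheaf _ _ _ fun y hy => ?_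
    refine (TopCat.Presheaf.germ_res_apply _ _ _ _ _).trans
      ((?_ : _ = _).trans (TopCat.Presheaf.germ_res_apply _ _ _ _ _).symm)
    cases i <;> cases j
    · rfl
    · exact (map_zero _).trans (h2 y hy.2 hy.1).symm
    · exact (h2 y hy.1 hy.2).trans (map_zero _).symm
    · rfl
  obtain ⟨t, ht, -⟩ := X.sheaf.existsUnique_gluing' O ⊤ (fun _ => homOfLE le_top) (fun x _ => by
    by_cases hx : x = z
    · exact Opens.mem_iSup.2 ⟨true, hx ▸ hzV⟩
    · exact Opens.mem_iSup.2 ⟨false, hx⟩) sf hcomp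
  refine ⟨t, ?_⟩
  rw [← hs, ← X.presheaf.germ_res_apply (homOfLE (inf_le_left : V ≤ U)) z hzV s,
    ← X.presheaf.germ_res_apply (homOfLE (le_top : V ≤ ⊤)) z hzV t]
  exact congrArg _ (ht true)

variable (k : Type u) [Field k] [X.Over (Spec (CommRingCat.of k))] [IsProper (X ↘ Spec (CommRingCat.of k))]

include k in
/-- Cohen-Macaulayness -/
theorem cm_stalk_of_h0 (hdim : topologicalKrullDim X ≤ 1)
    (h0 : Module.finrank k (Coh.HH X (Coh.structureModule X) 0) = 1) (z : X) :
    LocCoh.IsCohenMacaulayLocalRing (X.presheaf.stalk z) := by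
  haveI := CurveRR.isNoetherian_of_proper k X
  have hle := AmpleDimOne.ringKrullDim_stalk_le hdim z
  haveI : Ring.KrullDimLE 1 (X.presheaf.stalk z) := Ring.krullDimLE_iff.2 hle
  by_cases hd : Ring.KrullDimLE 0 (X.presheaf.stalk z)
  · exact CMFlat.isCohenMacaulayLocalRing_of_dim_le_depth (d := 0) (le_antisymm
      (Ring.krullDimLE_iff.1 hd) ringKrullDim_nonneg_of_nontrivial) bot_le
  have h1 : ringKrullDim (X.presheaf.stalk z) = ((1 : ℕ) : WithBot ℕ∞) := by
    refine le_antisymm hle ?_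
    have hpos : ¬ ringKrullDim (X.presheaf.stalk z) ≤ 0 := fun h => hd (Ring.krullDimLE_iff.2 h)
    generalize hD : ringKrullDim (X.presheaf.stalk z) = D at hpos ⊢
    induction D with
    | bot => exact absurd bot_le hpos
    | coe D => exact WithBot.coe_le_coe.2 (ENat.one_le_iff_ne_zero.2 fun h => hpos (h ▸ le_rfl))
  -- `z` is closed
  have hz : IsClosed ({z} : Set X) := by
    obtain ⟨p, hp, hpm⟩ : ∃ p : Ideal (X.presheaf.stalk z), p.IsPrime ∧ p ≠ maximalIdeal _ := by
      by_contra! hc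
      exact hd (Ring.KrullDimLE.mk₀ fun I hI => by
        rw [hc I hI]; exact maximalIdeal.isMaximal _)
    have hη : X.fromSpecStalk z ⟨p, hp⟩ ⤳ z := by
      have := Specializes.map ((PrimeSpectrum.le_iff_specializes ⟨p, hp⟩ (closedPoint _)).1
        (le_maximalIdeal hp.ne_top)) (X.fromSpecStalk z).continuous
      rwa [Scheme.fromSpecStalk_closedPoint] at this
    refine isClosed_of_closure_subset fun w hw => ?_
    rcases AmpleDimOne.eq_or_eq_of_specializes hdim hη (specializes_iff_mem_closure.2 hw) with e | e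
    · exact absurd (congrArg PrimeSpectrum.asIdeal ((X.fromSpecStalk z).isEmbedding.injective
        (e.trans (Scheme.fromSpecStalk_closedPoint (x := z)).symm))) hpm
    · exact e.symm
  refine CMFlat.isCohenMacaulayLocalRing_of_dim_le_depth h1 (FinFlatExt.one_le_depth fun hass => ?_)
  obtain ⟨-, a, ha⟩ := isAssociatedPrime_iff.1 (AssociatedPrimes.mem_iff.1 hass)
  have ha0 : a ≠ 0 := by
    rintro rfl
    exact (maximalIdeal.isMaximal (X.presheaf.stalk z)).ne_top (ha.trans (by simp))
  have hkill : ∀ b ∈ maximalIdeal (X.presheaf.stalk z), b * a = 0 := fun b hb => by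
    rw [ha] at hb
    simpa using hb
  obtain ⟨t, ht⟩ := exists_global_of_killed hz a hkill
  letI := CurveRR.secMod k (Coh.structureModule X) ⊤
  change CurveRR.h k (Coh.structureModule X) 0 = 1 at h0
  rw [← CurveRR.finrank_sec] at h0
  haveI : Nontrivial Γ(X, ⊤) := (X.presheaf.germ ⊤ z trivial).hom.domain_nontrivial
  obtain ⟨c, hc⟩ := exists_smul_eq_of_finrank_eq_one h0 (show (1 : Γ(X, ⊤)) ≠ 0 from one_ne_zero)
    (show Γ(Coh.structureModule X, ⊤) from t)
  have hc' : t = CurveRR.cst k X ⊤ c := hc.symm.trans (mul_one (M := Γ(X, ⊤)) _)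
  have hc0 : c ≠ 0 := by
    rintro rfl
    exact ha0 (ht.symm.trans (by rw [hc', map_zero, map_zero]))
  have hu : IsUnit a := by
    rw [← ht, hc']
    exact ((isUnit_iff_ne_zero.2 hc0).map (CurveRR.cst k X ⊤)).map (X.presheaf.germ ⊤ z trivial).hom
  refine hd (Ring.KrullDimLE.mk₀ fun I hI => ?_)
  have hbot : maximalIdeal (X.presheaf.stalk z) = ⊥ :=
    le_antisymm (fun b hb => hu.mul_left_eq_zero.1 (hkill b hb)) bot_le
  rw [le_antisymm (le_maximalIdeal hI.ne_top) (hbot ▸ bot_le)]
  exact maximalIdeal.isMaximal _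

end Groth.Agent.DualGeneric.Sub
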