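import Groth.Agent.DualGeneric.SubI
import Groth.Agent.DualGeneric.GlobalField
import Groth.Agent.CurveRR.GlobGen
import Groth.Agent.CurveRR.Point
import Groth.Agent.CurveRR.Multi2
import Groth.Agent.TMul.Pullback

/-!
Numerical bookkeeping on connected subcurves of a reduced Gorenstein curve.
-/

set_option autoImplicit false
set_option backward.isDefEq.respectTransparency false
set_option backward.isDefEq.respectTransparency.types false
set_option linter.style.haveILetI false
set_option maxHeartbeats 1000000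

universe u

open CategoryTheory CategoryTheory.Limits AlgebraicGeometry TopologicalSpace Opposite
open Groth.Agent.CohFinite
open TMul (homOf tm)

noncomputable section

namespace Groth.Agent.DualGeneric.Sub

variable (k : Type u) [Field k] {X : Scheme.{u}} [X.Over (Spec (CommRingCat.of k))]

/-- degree on a closed subscheme -/
abbrev degJ (L : X.Modules) (J : X.IdealSheafData) : ℤ :=
  @Curv2.deg k _ J.subscheme ⟨J.subschemeι ≫ (X ↘ (Spec (CommRingCat.of k)))⟩ ((Scheme.Modules.pullback J.subschemeι).obj L) 1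

/-- genus of a closed subscheme -/
abbrev genJ (J : X.IdealSheafData) : ℕ :=
  @Curv2.genus k _ J.subscheme ⟨J.subschemeι ≫ (X ↘ (Spec (CommRingCat.of k)))⟩

/-- length of the intersection with the complementary subcurve -/
abbrev kJ (J : X.IdealSheafData) : ℕ :=
  Module.finrank k (Coh.HH X (ClSub.quotMod (J ⊔ (Scheme.IdealSheafData.vanishingIdeal ⟨closure ((J.support : Set X)ᶜ), isClosed_closure⟩))) 0)

variable [IsProper (X ↘ Spec (CommRingCat.of k))] [IsAlgClosed k]

theorem euler_structure_J (J : X.IdealSheafData) [AlgebraicGeometry.IsReduced J.subscheme] [ConnectedSpace J.subscheme]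
    (hJ : topologicalKrullDim J.subscheme = 1) :
    @Curv2.euler k _ J.subscheme ⟨J.subschemeι ≫ (X ↘ (Spec (CommRingCat.of k)))⟩ (Coh.structureModule J.subscheme) =
      1 - (genJ k J : ℤ) := by
  letI : J.subscheme.Over (Spec (CommRingCat.of k)) := ⟨J.subschemeι ≫ (X ↘ Spec (CommRingCat.of k))⟩
  haveI : IsProper (J.subscheme ↘ Spec (CommRingCat.of k)) :=
    inferInstanceAs (IsProper (J.subschemeι ≫ (X ↘ Spec (CommRingCat.of k))))
  rw [CurveRR.euler_eq hJ.le]
  have := h0_structure_connected (k := k) (X := J.subscheme)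
  simp only [CurveRR.h] at *
  rw [this]
  rfl

omit [IsAlgClosed k] in
theorem deg_ample_ge {Y : Scheme.{u}} [Y.Over (Spec (CommRingCat.of k))] [IsProper (Y ↘ Spec (CommRingCat.of k))]
    [ConnectedSpace Y] (hdim : topologicalKrullDim Y = 1) {L : Y.Modules} (hL : CohB1.IsAmple L) :
    (Nat.card (irreducibleComponents (Y : Type u)) : ℤ) ≤ Curv2.deg k Y L 1 := by
  haveI := CurveRR.isNoetherian_of_proper k Y
  haveI : Fintype (irreducibleComponents (Y : Type u)) :=
    (NoetherianSpace.finite_irreducibleComponents (α := Y)).fintype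
  rw [CurveRR.Multi.deg_eq_finsum k hdim.le 1 L (CurveRR.isFinLocFreeOfRank_one hL.1), finsum_eq_sum_of_fintype,
    Nat.card_eq_fintype_card]
  refine le_of_eq_of_le (b := ∑ _Z : irreducibleComponents (Y : Type u), (1 : ℤ)) (by simp) (Finset.sum_le_sum fun Z _ => ?_)
  have hd := DualGeneric.dim_component_eq_one k hdim Z.1 Z.2
  rw [if_pos hd]
  have h1 := (CurveRR.Multi.isAmple_iff k hdim.le hL.1).1 hL Z.1 Z.2 hd
  haveI := RatFunLib.isArtinianRing_stalk (CurveRR.Multi.eq_of_specializes Z)
  have h2 : Module.length (Y.presheaf.stalk Z.2.1.genericPoint) (Y.presheaf.stalk Z.2.1.genericPoint) ≠ 0 :=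
    fun h => not_nontrivial_iff_subsingleton.2 (Module.length_eq_zero_iff.1 h) inferInstance
  have h3 : Module.length (Y.presheaf.stalk Z.2.1.genericPoint) (Y.presheaf.stalk Z.2.1.genericPoint) ≠ ⊤ :=
    Module.length_ne_top
  have h4 := ENat.toNat_eq_zero.not.2 (fun h => h.elim h2 h3)
  nlinarith [Nat.one_le_iff_ne_zero.2 h4]

omit [IsAlgClosed k] in
theorem degJ_ample_ge {L : X.Modules} (hL' : CohB1.IsAmple L) (J : X.IdealSheafData) [ConnectedSpace J.subscheme]
    (hJ : topologicalKrullDim J.subscheme = 1) :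
    1 ≤ degJ k L J ∧ (degJ k L J ≤ 1 → IrreducibleSpace J.subscheme) := by
  letI : J.subscheme.Over (Spec (CommRingCat.of k)) := ⟨J.subschemeι ≫ (X ↘ Spec (CommRingCat.of k))⟩
  haveI : IsProper (J.subscheme ↘ Spec (CommRingCat.of k)) :=
    inferInstanceAs (IsProper (J.subschemeι ≫ (X ↘ Spec (CommRingCat.of k))))
  haveI := CurveRR.isNoetherian_of_proper k J.subscheme
  have h := deg_ample_ge k (Y := J.subscheme) hJ
    (TMul.isAmple_pullback J.subschemeι J.subschemeι.isClosedEmbedding.isInducing hL')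
  haveI : Finite (irreducibleComponents (J.subscheme : Type u)) :=
    (NoetherianSpace.finite_irreducibleComponents (α := J.subscheme)).to_subtype
  obtain ⟨C, hC, -⟩ := exists_mem_irreducibleComponents_subset_of_isIrreducible _
    (isIrreducible_singleton (x := Classical.arbitrary J.subscheme))
  haveI : Nonempty (irreducibleComponents (J.subscheme : Type u)) := ⟨⟨C, hC⟩⟩
  have hpos := Nat.card_pos (α := irreducibleComponents (J.subscheme : Type u))
  refine ⟨le_trans (by exact_mod_cast hpos) h, fun h1 => ?_⟩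
  change Curv2.deg k J.subscheme _ 1 ≤ 1 at h1
  obtain ⟨hs, -⟩ := Nat.card_eq_one_iff_unique.1 (show Nat.card (irreducibleComponents (J.subscheme : Type u)) = 1 by omega)
  have hu : C = Set.univ := Set.eq_univ_of_forall fun x => by
    obtain ⟨C', hC', hx⟩ := exists_mem_irreducibleComponents_subset_of_isIrreducible _ (isIrreducible_singleton (x := x))
    have h2 : C' = C := congrArg Subtype.val (Subsingleton.elim (⟨C', hC'⟩ : irreducibleComponents (J.subscheme : Type u)) ⟨C, hC⟩)
    exact h2.subset (hx rfl)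
  refine (irreducibleSpace_def _).2 ?_
  rw [Set.top_eq_univ, ← hu]
  exact hC.1

section

variable [AlgebraicGeometry.IsReduced X] [DCoh.HasRpush (X ↘ Spec (CommRingCat.of k))]
  (h : DCoh.RpushPreservesQCoh (X ↘ Spec (CommRingCat.of k)))
  [DCoh.HasShriek (X ↘ Spec (CommRingCat.of k)) h] (OY : DCoh.DQCoh (Spec (CommRingCat.of k)))
  (hOY : Nonempty (OY.obj ≅ DCoh.inD (Spec (CommRingCat.of k)) (Coh.structureModule (Spec (CommRingCat.of k)))))
  (hω : PicF.IsInvertible (DCoh.dualizingMod (X ↘ Spec (CommRingCat.of k)) h OY 1))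

include hOY hω in
/-- `deg_J ω = 2 g_J - 2 + k_J` -/
theorem degJ_omega (hdim : topologicalKrullDim X = 1)
    (J : X.IdealSheafData) [AlgebraicGeometry.IsReduced J.subscheme] [ConnectedSpace J.subscheme]
    (hJ : topologicalKrullDim J.subscheme = 1) :
    degJ k (DCoh.dualizingMod (X ↘ Spec (CommRingCat.of k)) h OY 1) J = 2 * (genJ k J : ℤ) - 2 + (kJ k J : ℤ) := by
  obtain ⟨tr, ht⟩ := exists_trace k h OY hOY hdim.le
  have := deg_omega_J k hω ht hdim.le J hJ
  rw [euler_structure_J k J hJ] at this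
  change degJ k _ J = _ + (kJ k J : ℤ) at this
  omega

include hOY hω in
/-- a subcurve is either met by the rest or is everything -/
theorem kJ_cases [ConnectedSpace X] (hdim : topologicalKrullDim X = 1)
    (J : X.IdealSheafData) [AlgebraicGeometry.IsReduced J.subscheme] [ConnectedSpace J.subscheme]
    (hJ : topologicalKrullDim J.subscheme = 1) :
    1 ≤ kJ k J ∨ (kJ k J = 0 ∧ genJ k J = Curv2.genus k X ∧
      degJ k (DCoh.dualizingMod (X ↘ Spec (CommRingCat.of k)) h OY 1) J = 2 * (Curv2.genus k X : ℤ) - 2 ∧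
      ∀ {L : X.Modules}, PicF.IsInvertible L → degJ k L J = Curv2.deg k X L 1) := by
  rcases Nat.eq_zero_or_pos (kJ k J) with h0 | h0
  swap
  · exact Or.inl h0
  right
  let S : Set X := (J.support : Set X)
  have hdisj : ∀ x ∈ S, x ∉ closure Sᶜ := fun x hx hx' => by
    have := CurveRR.h0_quotMod_pos (k := k) (J ⊔ vI ⟨closure Sᶜ, isClosed_closure⟩) ⟨x, by
      rw [Scheme.IdealSheafData.support_sup]
      refine ⟨hx, ?_⟩
      rw [Scheme.IdealSheafData.coe_support_vanishingIdeal]
      exact hx'⟩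
    exact this.ne' h0
  have hop : IsOpen S := by
    rw [← isClosed_compl_iff]
    refine closure_subset_iff_isClosed.1 fun x hx hxS => hdisj x hxS hx
  have hne : S.Nonempty := by
    obtain ⟨y⟩ : Nonempty J.subscheme := inferInstance
    exact ⟨J.subschemeι y, J.range_subschemeι.le ⟨y, rfl⟩⟩
  have htop : J.support = (⊤ : Closeds X) := Closeds.ext
    ((isClopen_iff.1 ⟨J.support.isClosed, hop⟩).resolve_left hne.ne_empty)
  have hJe : J = vI (⊤ : Closeds X) := by rw [← htop]; exact eq_vI J
  subst hJe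
  haveI := isIso_q_top (X := X) (D := ⊤) rfl
  have hA : ∀ i, CurveRR.h k (A (⊤ : Closeds X)) i = CurveRR.h k (Coh.structureModule X) i := fun i =>
    (CurveRR.h_eq_of_iso (asIso (q (⊤ : Closeds X))) i).symm
  have hg : genJ k (vI (⊤ : Closeds X)) = Curv2.genus k X := (genus_sub k ⊤).trans (hA 1)
  refine ⟨h0, hg, ?_, fun {L} hL => ?_⟩
  · rw [degJ_omega k h OY hOY hω hdim _ hJ, h0, hg]
    simp
  · refine (deg_sub k ⊤ hL).trans ?_
    obtain ⟨e⟩ := nonempty_iso_M (X := X) hL (D := ⊤) rfl
    rw [← CurveRR.euler_eq_of_iso e, ← CurveRR.euler_eq_of_iso (asIso (q (⊤ : Closeds X))), Curv2.deg]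
    simp

include hOY hω in
/-- classes force a subcurve of small degree -/
theorem exists_bad_h1 [ConnectedSpace X] (hdim : topologicalKrullDim X = 1) {L : X.Modules} (hL : PicF.IsInvertible L)
    (h1 : ¬ Subsingleton (Coh.HH X L 1)) :
    ∃ J : X.IdealSheafData, AlgebraicGeometry.IsReduced J.subscheme ∧ ConnectedSpace J.subscheme ∧
      topologicalKrullDim J.subscheme = 1 ∧
      degJ k L J ≤ degJ k (DCoh.dualizingMod (X ↘ Spec (CommRingCat.of k)) h OY 1) J - (kJ k J : ℤ) := by
  classical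
  haveI := CurveRR.isNoetherian_of_proper k X
  obtain ⟨S, hS, hcl, hcomp⟩ := exists_gens k (X := X)
  obtain ⟨e⟩ := nonempty_iso_M (X := X) hL hcl
  haveI := finite_proper k X _ (CurveRR.isCoh_of_inv hL) 1
  haveI : Nontrivial (Coh.HH X L 1) := not_subsingleton_iff_nontrivial.1 h1
  have hpos : 0 < CurveRR.h k L 1 := Module.finrank_pos
  rw [CurveRR.h_eq_of_iso e 1] at hpos
  have hle := h1M_le_h1G_top k hL hdim.le (clo S)
  obtain ⟨T, hTS, hT, hc, hb⟩ := exists_deg_le k ⊤ hL hdim.le h1M_le_h1G_top.topDim_empty S hS (by omega)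
  rw [h0_quot_top] at hb
  haveI := connected_subscheme _ hc
  haveI : AlgebraicGeometry.IsReduced (vI (clo T)).subscheme := DvrDom.isReduced_vanishingIdeal_subscheme _
  have hd := dim_sub k hdim hT (fun ξ hξ => hcomp ξ (hTS hξ))
  refine ⟨vI (clo T), inferInstance, inferInstance, hd, ?_⟩
  rw [degJ_omega k h OY hOY hω hdim _ hd]
  rw [euler_A k, euler_structure_J k _ hd] at hb
  change degJ k L (vI (clo T)) + _ ≤ _ at hb
  omega

include hOY hω in
theorem exists_bad_point [ConnectedSpace X] (hdim : topologicalKrullDim X = 1) {L : X.Modules} (hL : PicF.IsInvertible L)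
    {P : X} (hP : IsClosed ({P} : Set X))
    (h1 : ¬ Subsingleton (Coh.HH X (CohB1.tensorMod (ClSub.idealMod (vI ⟨{P}, hP⟩)) L) 1)) :
    ∃ J : X.IdealSheafData, AlgebraicGeometry.IsReduced J.subscheme ∧ ConnectedSpace J.subscheme ∧
      topologicalKrullDim J.subscheme = 1 ∧
      degJ k L J ≤ degJ k (DCoh.dualizingMod (X ↘ Spec (CommRingCat.of k)) h OY 1) J - (kJ k J : ℤ) + 1 := by
  classical
  haveI := CurveRR.isNoetherian_of_proper k X
  have hZ := CurveRR.point_dim hP
  obtain ⟨S, hS, hcl, hcomp⟩ := exists_gens k (X := X)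
  obtain ⟨e⟩ := nonempty_iso_G (vI ⟨{P}, hP⟩) hL (D := clo S) hcl
  haveI := finite_proper k X _ (CurveRR.isCoh_tensor' (CurveRR.isCoh_idealMod (vI ⟨{P}, hP⟩)).1 (CurveRR.isCoh_of_inv hL)) 1
  haveI : Nontrivial (Coh.HH X (CohB1.tensorMod (ClSub.idealMod (vI ⟨{P}, hP⟩)) L) 1) := not_subsingleton_iff_nontrivial.1 h1
  have hne : CurveRR.h k (G (vI ⟨{P}, hP⟩) L (clo S)) 1 ≠ 0 := by
    rw [← CurveRR.h_eq_of_iso e 1]
    exact (Module.finrank_pos (R := k) (M := Coh.HH X (CohB1.tensorMod (ClSub.idealMod (vI ⟨{P}, hP⟩)) L) 1)).ne'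
  obtain ⟨T, hTS, hT, hc, hb⟩ := exists_deg_le k _ hL hdim.le hZ S hS hne
  haveI := connected_subscheme _ hc
  haveI : AlgebraicGeometry.IsReduced (vI (clo T)).subscheme := DvrDom.isReduced_vanishingIdeal_subscheme _
  have hd := dim_sub k hdim hT (fun ξ hξ => hcomp ξ (hTS hξ))
  refine ⟨vI (clo T), inferInstance, inferInstance, hd, ?_⟩
  have hq : CurveRR.h k (ClSub.quotMod (vI ⟨{P}, hP⟩ ⊔ vI (clo T))) 0 ≤ 1 := by
    by_cases hPT : P ∈ (clo T : Set X)
    · rw [sup_eq_left.2 (Scheme.IdealSheafData.vanishingIdeal_antimono fun x hx => by rw [Set.mem_singleton_iff.1 hx]; exact hPT)]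
      exact (CurveRR.h0_quotMod_point hP).le
    · haveI : Subsingleton Γ(ClSub.quotMod (vI ⟨{P}, hP⟩ ⊔ vI (clo T)), ⊤) := by
        refine subsingleton_of_forall_eq 0 fun s => CurveRR.suppIn_of_subset (CurveRR.support_quotMod _) ⊤ s fun x _ hx => hPT ?_
        rw [Scheme.IdealSheafData.support_sup] at hx
        obtain ⟨h2, h3⟩ := hx
        rw [Scheme.IdealSheafData.coe_support_vanishingIdeal] at h2 h3
        rw [← Set.mem_singleton_iff.1 h2]
        exact h3
      rw [CurveRR.h_eq_zero (CurveRR.secH0 (k := k) (ClSub.quotMod (vI ⟨{P}, hP⟩ ⊔ vI (clo T)))).symm.toEquiv.subsingleton]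
      exact Nat.zero_le _
  rw [degJ_omega k h OY hOY hω hdim _ hd]
  rw [euler_A k, euler_structure_J k _ hd] at hb
  change degJ k L (vI (clo T)) + _ ≤ _ at hb
  simp only [vI] at hb hq ⊢
  omega

end

omit [IsAlgClosed k] in
/-- sections separate from zero at every point when no twist by a point has classes -/
theorem gg_of_subsingleton (hdim : topologicalKrullDim X ≤ 1) {L : X.Modules} (hL : PicF.IsInvertible L) [IsAlgClosed k]
    (hv : ∀ (P : X) (hP : IsClosed ({P} : Set X)),
      Subsingleton (Coh.HH X (CohB1.tensorMod (ClSub.idealMod (vI ⟨{P}, hP⟩)) L) 1)) :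
    Curv2.IsGloballyGenerated L := by
  haveI := CurveRR.isNoetherian_of_proper k X
  refine CurveRR.isGloballyGenerated_of_closed hL fun x hx => ?_
  by_contra! hno
  let I := vI (⟨{x}, hx⟩ : Closeds X)
  have hM := CurveRR.isCoh_tensor' (CurveRR.isCoh_idealMod I).1 (CurveRR.isCoh_of_inv hL)
  haveI := finite_proper k X _ hM 0
  have hle : CurveRR.h k L 0 ≤ CurveRR.h k (CohB1.tensorMod (ClSub.idealMod I) L) 0 := by
    letI := CurveRR.secMod k L ⊤
    letI := CurveRR.secMod k (CohB1.tensorMod (ClSub.idealMod I) L) ⊤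
    haveI : Module.Finite k Γ(CohB1.tensorMod (ClSub.idealMod I) L, ⊤) :=
      Module.Finite.equiv (CurveRR.secH0 (k := k) (CohB1.tensorMod (ClSub.idealMod I) L)).symm
    let φ : Γ(CohB1.tensorMod (ClSub.idealMod I) L, ⊤) →ₗ[k] Γ(L, ⊤) :=
      { toFun := (CurveRR.idealIncl I L).app ⊤
        map_add' := map_add _
        map_smul' := fun a s => TMul.app_smul _ _ _ }
    have := φ.finrank_range_le
    rw [LinearMap.range_eq_top.mpr fun t => CurveRR.mem_range_idealIncl hL ⟨{x}, hx⟩ t fun z hz => by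
      rw [Set.mem_singleton_iff.mp hz]; exact hno t, finrank_top, CurveRR.finrank_sec, CurveRR.finrank_sec] at this
    exact this
  have he := CurveRR.euler_ideal_tensor (k := k) hL I (CurveRR.point_dim hx)
  rw [CurveRR.h0_quotMod_point hx, CurveRR.euler_eq hdim, CurveRR.euler_eq hdim,
    show CurveRR.h k (CohB1.tensorMod (ClSub.idealMod I) L) 1 = 0 from CurveRR.h_eq_zero (hv x hx)] at he
  omega

omit [IsAlgClosed k] in
theorem degJ_pow {L : X.Modules} (hL : PicF.IsInvertible L) (i : ℕ) (J : X.IdealSheafData)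
    (hJ : topologicalKrullDim J.subscheme = 1) :
    degJ k (CohB1.tensorPow L i) J = i * degJ k L J := by
  letI : J.subscheme.Over (Spec (CommRingCat.of k)) := ⟨J.subschemeι ≫ (X ↘ Spec (CommRingCat.of k))⟩
  haveI : IsProper (J.subscheme ↘ Spec (CommRingCat.of k)) :=
    inferInstanceAs (IsProper (J.subschemeι ≫ (X ↘ Spec (CommRingCat.of k))))
  obtain ⟨e⟩ := TMul.nonempty_pullPowIso J.subschemeι L i
  have hL' := PicLoc.isInvertible_pullback J.subschemeι hL
  have key : ∀ m : ℕ, Curv2.deg k J.subscheme (CohB1.tensorPow ((Scheme.Modules.pullback J.subschemeι).obj L) m) 1 =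
      m * degJ k L J := fun m => by
    induction m with
    | zero =>
      show Curv2.deg k J.subscheme (Coh.structureModule J.subscheme) 1 = _
      simp [Curv2.deg]
    | succ m ih =>
      show Curv2.deg k J.subscheme (CohB1.tensorMod (CohB1.tensorPow _ m) _) 1 = _
      have := CurveRR.Multi.deg_tensor k hJ.le 1 1 _ _ (CurveRR.isFinLocFreeOfRank_one (TMul.isInvertible_tensorPow hL' m))
        (CurveRR.isFinLocFreeOfRank_one hL')
      rw [Nat.mul_one] at this
      rw [this, ih]
      push_cast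
      ring
  rw [← key i]
  show Curv2.deg k J.subscheme _ 1 = _
  rw [Curv2.deg, Curv2.deg, CurveRR.euler_eq_of_iso e]

end Groth.Agent.DualGeneric.Sub
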