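import Groth.Agent.DualGeneric.SubM
import Groth.Agent.CurveRR.Multi2
import Groth.Agent.DualGeneric.SubJ
import Groth.Agent.RegTilde.Koszul

/-!
Degrees on subcurves as sums over components; twists killing sections.
-/

set_option autoImplicit false
set_option backward.isDefEq.respectTransparency false
set_option backward.isDefEq.respectTransparency.types false
set_option linter.style.haveILetI false
set_option maxHeartbeats 1000000

universe u

open CategoryTheory CategoryTheory.Limits AlgebraicGeometry TopologicalSpace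
open Groth.Agent.CohFinite
open Groth.Agent.QC (res res_res res_self section_eq_of_locally app_res)

noncomputable section

namespace Groth.Agent.DualGeneric.Sub

variable (k : Type u) [Field k] {X : Scheme.{u}} [X.Over (Spec (CommRingCat.of k))]
  [IsProper (X ↘ Spec (CommRingCat.of k))]

/-- a lower bound for degrees on subcurves: one component may be negative -/
theorem degJ_ge [AlgebraicGeometry.IsReduced X] (hdim : topologicalKrullDim X = 1) {L : X.Modules}
    (hL : PicF.IsInvertible L) {c : ℤ} (hc : c ≤ 0) (E₀ : Set X)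
    (h₀ : ∀ (hE : E₀ ∈ irreducibleComponents (X : Type u)), c ≤ degJ k L (cI E₀ hE))
    (hE : ∀ (E : Set X) (hE : E ∈ irreducibleComponents (X : Type u)), E ≠ E₀ → 0 ≤ degJ k L (cI E hE))
    (J : X.IdealSheafData) [AlgebraicGeometry.IsReduced J.subscheme] : c ≤ degJ k L J := by
  classical
  have hJe := eq_vI J
  generalize J.support = D at hJe
  subst hJe
  haveI := CurveRR.isNoetherian_of_proper k X
  haveI : Fintype (irreducibleComponents (X : Type u)) :=
    (NoetherianSpace.finite_irreducibleComponents (α := X)).fintype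
  have hE1 := CurveRR.isFinLocFreeOfRank_one hL
  have hcomp := CurveRR.Multi.D_eq_compSum k 1 L hdim.le hE1 (A D) (CurveRR.isCoh_idealMod (vI D)).2
  have hd : degJ k L (vI D) = CurveRR.Multi.compSum k 1 L (A D) := by
    rw [← hcomp, CurveRR.Multi.D]
    refine (deg_sub k D hL).trans ?_
    push_cast
    first | ring | simp | rfl
  rw [hd, CurveRR.Multi.compSum]
  have hlen : ∀ Z : irreducibleComponents (X : Type u),
      0 ≤ CurveRR.Multi.lenAt (A D) Z.2.1.genericPoint ∧ CurveRR.Multi.lenAt (A D) Z.2.1.genericPoint ≤ 1 := fun Z => by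
    refine ⟨Int.natCast_nonneg _, ?_⟩
    have hmax := CurveRR.Multi.eq_of_specializes Z
    have h := CurveRR.Multi.lenAt_add (CurveRR.ideal_shortExact (vI D)) RefStalk.isCoh_structureModule hmax
    change CurveRR.Multi.lenAt (Coh.structureModule X) _ = CurveRR.Multi.lenAt _ _ + CurveRR.Multi.lenAt (A D) _ at h
    haveI := RatFunLib.isArtinianRing_stalk hmax
    have h1 : CurveRR.Multi.lenAt (Coh.structureModule X) Z.2.1.genericPoint = 1 := by
      rw [CurveRR.Multi.lenAt, CurveRR.Multi.length_stalkUnit]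
      have hf : IsField (X.presheaf.stalk Z.2.1.genericPoint) := IsArtinianRing.isField_of_isReduced_of_isLocalRing _
      haveI : IsSimpleModule (X.presheaf.stalk Z.2.1.genericPoint) (X.presheaf.stalk Z.2.1.genericPoint) := by
        letI := hf.toField
        exact inferInstance
      rw [Module.length_eq_one]
      simp
    have h2 : (0 : ℤ) ≤ CurveRR.Multi.lenAt (ClSub.idealMod (vI D)) Z.2.1.genericPoint := Int.natCast_nonneg _
    linarith
  have key : ∀ Z : irreducibleComponents (X : Type u),
      CurveRR.Multi.degOn k (vI (Devissage.Zc Z.2.1.genericPoint)) 1 L = degJ k L (cI Z.1 Z.2) := fun Z => by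
    have he : Devissage.Zc Z.2.1.genericPoint = ⟨Z.1, isClosed_of_mem_irreducibleComponents Z.1 Z.2⟩ :=
      Closeds.ext (Z.2.1.isGenericPoint_genericPoint (isClosed_of_mem_irreducibleComponents _ Z.2)).def
    rw [he]
    rfl
  refine le_trans ?_ (Finset.sum_le_sum (f := fun Z : irreducibleComponents (X : Type u) => if Z.1 = E₀ then c else 0)
    fun Z _ => ?_)
  · by_cases hmem : E₀ ∈ irreducibleComponents (X : Type u)
    · rw [Finset.sum_eq_single (⟨E₀, hmem⟩ : irreducibleComponents (X : Type u))]
      · simp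
      · intro Z _ hne; rw [if_neg fun h => hne (Subtype.ext h)]
      · exact fun h => absurd (Finset.mem_univ _) h
    · refine hc.trans (le_of_eq (Finset.sum_eq_zero fun Z _ => ?_).symm)
      rw [if_neg fun (h : Z.1 = E₀) => hmem (h ▸ Z.2)]
  · obtain ⟨h0, h1⟩ := hlen Z
    split_ifs with hZ hd1 hd1
    · rw [key]
      obtain ⟨Z, hZ'⟩ := Z
      obtain rfl : Z = E₀ := hZ
      have := h₀ hZ'
      nlinarith [mul_nonneg (sub_nonneg.2 h1) (neg_nonneg.2 hc),
        mul_le_mul_of_nonneg_left this h0]
    · exact hc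
    · rw [key]
      exact mul_nonneg h0 (hE Z.1 Z.2 hZ)
    · exact le_rfl

omit [Field k] [X.Over (Spec (CommRingCat.of k))] [IsProper (X ↘ Spec (CommRingCat.of k))] in
omit k in
/-- a nonzero section gives a nonzero map on dual twists -/
theorem exists_hom_ne_zero {L K ω : X.Modules} (hK : PicF.IsInvertible K) (hω : PicF.IsInvertible ω)
    (e : CohB1.tensorMod K L ≅ Coh.structureModule X) {s : Γ(L, ⊤)} (hs : s ≠ 0) :
    ∃ φ : CohB1.tensorMod K ω ⟶ ω, φ ≠ 0 := by
  let ψ : K ⟶ Coh.structureModule X := RegKos.mulR s K ≫ e.hom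
  refine ⟨tmap ψ ω ≫ (TMul.leftUnitIso ω).hom, fun h0 => hs ?_⟩
  have ht : tmap ψ ω = 0 := (cancel_mono (TMul.leftUnitIso ω).hom).1 (by rw [h0, zero_comp])
  have hψ : ∀ (W : X.Opens) (n : Γ(K, W)), ψ.app W n = 0 := fun W n => by
    refine section_eq_of_locally fun x hx => ?_
    obtain ⟨U, g, hxU, hg⟩ := TMul.exists_isGen hω x
    have hg' := hg.res (inf_le_left : U ⊓ W ≤ U)
    refine ⟨U ⊓ W, inf_le_right, ⟨hxU, hx⟩, (TMul.tm_bijective hg' _ le_rfl).1 ?_⟩
    show TMul.tm _ _ = TMul.tm _ _
    rw [app_res, map_zero, TMul.zero_tm, ← tmap_tm, ht]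
    rfl
  refine section_eq_of_locally fun x hx => ?_
  obtain ⟨U, g, hxU, hg⟩ := TMul.exists_isGen hK x
  refine ⟨U, le_top, hxU, ?_⟩
  have h1 := hψ U g
  rw [app_comp, RegKos.mulR_app] at h1
  have h2 : TMul.tm g (res L le_top s) = 0 := by
    have := congrArg (e.inv.app U) h1
    rwa [← app_comp, Iso.hom_inv_id, map_zero] at this
  have h3 : TMul.tm (res L le_top s) g = 0 := by
    have := congrArg ((TMul.commHom K L).app U) h2
    rwa [TMul.commHom_tm, map_zero] at this
  refine ((TMul.tm_bijective hg U le_rfl).1 ?_).trans (map_zero _).symm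
  show TMul.tm _ _ = TMul.tm _ _
  rw [res_self, TMul.zero_tm, h3]

end Groth.Agent.DualGeneric.Sub

namespace Groth.Agent.DualGeneric.Sub

variable (k : Type u) [Field k] {X : Scheme.{u}} [X.Over (Spec (CommRingCat.of k))]
  [IsProper (X ↘ Spec (CommRingCat.of k))]

/-- degrees add on closed subschemes -/
theorem degJ_tensor {L M : X.Modules} (hL : PicF.IsInvertible L) (hM : PicF.IsInvertible M) (J : X.IdealSheafData)
    (hJ : topologicalKrullDim J.subscheme = 1) :
    degJ k (CohB1.tensorMod L M) J = degJ k L J + degJ k M J := by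
  letI : J.subscheme.Over (Spec (CommRingCat.of k)) := ⟨J.subschemeι ≫ (X ↘ Spec (CommRingCat.of k))⟩
  haveI : IsProper (J.subscheme ↘ Spec (CommRingCat.of k)) :=
    inferInstanceAs (IsProper (J.subschemeι ≫ (X ↘ Spec (CommRingCat.of k))))
  obtain ⟨t⟩ := TMul.nonempty_pullTensorIso J.subschemeι L M
  have hadd := CurveRR.Multi.deg_tensor k hJ.le 1 1 _ _
    (CurveRR.isFinLocFreeOfRank_one (PicLoc.isInvertible_pullback J.subschemeι hL))
    (CurveRR.isFinLocFreeOfRank_one (PicLoc.isInvertible_pullback J.subschemeι hM))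
  rw [Nat.mul_one, Nat.cast_one, one_mul, one_mul] at hadd
  show Curv2.deg k J.subscheme _ 1 = Curv2.deg k J.subscheme _ 1 + Curv2.deg k J.subscheme _ 1
  refine Eq.trans ?_ (hadd.trans (add_comm _ _))
  first
    | (rw [Curv2.deg, Curv2.deg, CurveRR.euler_eq_of_iso t]; done)
    | rw [Curv2.deg, Curv2.deg, CurveRR.euler_eq_of_iso t.symm]

/-- modules isomorphic to the unit have degree zero -/
theorem degJ_unit {L : X.Modules} (e : L ≅ Coh.structureModule X) (J : X.IdealSheafData) : degJ k L J = 0 := by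
  letI : J.subscheme.Over (Spec (CommRingCat.of k)) := ⟨J.subschemeι ≫ (X ↘ Spec (CommRingCat.of k))⟩
  haveI : IsProper (J.subscheme ↘ Spec (CommRingCat.of k)) :=
    inferInstanceAs (IsProper (J.subschemeι ≫ (X ↘ Spec (CommRingCat.of k))))
  show Curv2.deg k J.subscheme _ 1 = 0
  rw [Curv2.deg, CurveRR.euler_eq_of_iso ((Scheme.Modules.pullback J.subschemeι).mapIso e ≪≫ PicLoc.pullbackStructureIso J.subschemeι)]
  simp

end Groth.Agent.DualGeneric.Sub
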