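import Groth.Agent.DualGeneric.NegDeg
import Groth.Agent.DCohShriek.DualModuleField
import Groth.Agent.SerrePn.Basic
import Groth.Agent.SymAlg.InvDual
import Groth.Agent.CurveRR.Tensor
import Groth.Agent.CurveRR.Zero

/-!
`H^1(L) = 0` when `deg ω < deg L` on every component of a reduced proper curve.
-/

set_option autoImplicit false
set_option backward.isDefEq.respectTransparency false
set_option backward.isDefEq.respectTransparency.types false
set_option linter.style.haveILetI false
set_option maxHeartbeats 1000000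

universe u

open CategoryTheory CategoryTheory.Limits AlgebraicGeometry TopologicalSpace Opposite

attribute [local instance] HasDerivedCategory.standard

noncomputable section

namespace Groth.Agent.DualGeneric

variable (k : Type u) [Field k] {X : Scheme.{u}} [X.Over (Spec (CommRingCat.of k))] [IsProper (X ↘ Spec (CommRingCat.of k))]

theorem degOn_congr (J : X.IdealSheafData) {A B : X.Modules} (e : A ≅ B) :
    CurveRR.Multi.degOn k J 1 A = CurveRR.Multi.degOn k J 1 B := by
  letI : J.subscheme.Over (Spec (CommRingCat.of k)) := ⟨J.subschemeι ≫ (X ↘ Spec (CommRingCat.of k))⟩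
  haveI : IsProper (J.subscheme ↘ Spec (CommRingCat.of k)) :=
    inferInstanceAs (IsProper (J.subschemeι ≫ (X ↘ Spec (CommRingCat.of k))))
  show Curv2.deg k J.subscheme _ 1 = Curv2.deg k J.subscheme _ 1
  rw [Curv2.deg, Curv2.deg, CurveRR.euler_eq_of_iso ((Scheme.Modules.pullback J.subschemeι).mapIso e)]

theorem degOn_structure (J : X.IdealSheafData) [IsIntegral J.subscheme] :
    CurveRR.Multi.degOn k J 1 (Coh.structureModule X) = 0 := by
  letI : J.subscheme.Over (Spec (CommRingCat.of k)) := ⟨J.subschemeι ≫ (X ↘ Spec (CommRingCat.of k))⟩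
  haveI : IsProper (J.subscheme ↘ Spec (CommRingCat.of k)) :=
    inferInstanceAs (IsProper (J.subschemeι ≫ (X ↘ Spec (CommRingCat.of k))))
  show Curv2.deg k J.subscheme _ 1 = 0
  rw [Curv2.deg, CurveRR.euler_eq_of_iso (PicLoc.pullbackStructureIso J.subschemeι), ← Curv2.deg, CurveRR.deg_structure]

theorem degOn_tensor (hdim : topologicalKrullDim X ≤ 1) (J : X.IdealSheafData) [IsIntegral J.subscheme]
    {A B : X.Modules} (hA : PicF.IsInvertible A) (hB : PicF.IsInvertible B) :
    CurveRR.Multi.degOn k J 1 (CohB1.tensorMod A B) =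
      CurveRR.Multi.degOn k J 1 A + CurveRR.Multi.degOn k J 1 B := by
  letI : J.subscheme.Over (Spec (CommRingCat.of k)) := ⟨J.subschemeι ≫ (X ↘ Spec (CommRingCat.of k))⟩
  haveI : IsProper (J.subscheme ↘ Spec (CommRingCat.of k)) :=
    inferInstanceAs (IsProper (J.subschemeι ≫ (X ↘ Spec (CommRingCat.of k))))
  have hdimJ : topologicalKrullDim J.subscheme ≤ 1 :=
    (J.subschemeι.isClosedEmbedding.isInducing.topologicalKrullDim_le).trans hdim
  obtain ⟨t⟩ := TMul.nonempty_pullTensorIso J.subschemeι A B
  show Curv2.deg k J.subscheme _ 1 = Curv2.deg k J.subscheme _ 1 + Curv2.deg k J.subscheme _ 1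
  rw [← CurveRR.deg_tensor_inv (k := k) hdimJ (PicLoc.isInvertible_pullback _ hA) (PicLoc.isInvertible_pullback _ hB)]
  rw [Curv2.deg, Curv2.deg, CurveRR.euler_eq_of_iso t]

theorem degOn_tensorPow (hdim : topologicalKrullDim X ≤ 1) (J : X.IdealSheafData) [IsIntegral J.subscheme]
    {A : X.Modules} (hA : PicF.IsInvertible A) : ∀ m : ℕ,
    CurveRR.Multi.degOn k J 1 (CohB1.tensorPow A m) = (m : ℤ) * CurveRR.Multi.degOn k J 1 A
  | 0 => by
    rw [Nat.cast_zero, zero_mul]
    exact degOn_structure k J
  | m + 1 => by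
    show CurveRR.Multi.degOn k J 1 (CohB1.tensorMod (CohB1.tensorPow A m) A) = _
    rw [degOn_tensor k hdim J (TMul.isInvertible_tensorPow hA m) hA, degOn_tensorPow hdim J hA m]
    push_cast
    ring

theorem isIntegral_component [IsNoetherian X] (C : Set X) (hC : C ∈ irreducibleComponents (X : Type u)) :
    IsIntegral (X.irreducibleComponentIdeal C hC).radical.subscheme := by
  rw [CurveRR.Multi.radical_component ⟨C, hC⟩]
  exact Devissage.Zi_isIntegral _

variable [DCoh.HasRpush (X ↘ Spec (CommRingCat.of k))] {hf : DCoh.RpushPreservesQCoh (X ↘ Spec (CommRingCat.of k))}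
  {a : DCoh.DQCoh (Spec (CommRingCat.of k)) ⥤ DCoh.DQCoh X} (adj : DCoh.RpushQ (X ↘ Spec (CommRingCat.of k)) hf ⊣ a)
  (O : DCoh.DQCoh (Spec (CommRingCat.of k)))

omit [DCoh.HasRpush (X ↘ Spec (CommRingCat.of k))] in
/-- vanishing of `H^1` from a dualizing pair -/
theorem subsingleton_hh1_of_isRDual [IsNoetherian X] [IsReduced X] (hdim : topologicalKrullDim X ≤ 1) {ω : X.Modules}
    (hω : PicF.IsInvertible ω) {t : Coh.HH X ω 1 →ₗ[k] k} (ht : Canon.IsRDualOver k X 1 ω t)
    {L : X.Modules} (hL : PicF.IsInvertible L)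
    (hlt : ∀ (C : Set X) (hC : C ∈ irreducibleComponents (X : Type u)),
      CurveRR.Multi.degOn k (X.irreducibleComponentIdeal C hC).radical 1 ω <
        CurveRR.Multi.degOn k (X.irreducibleComponentIdeal C hC).radical 1 L) :
    Subsingleton (Coh.HH X L 1) := by
  obtain ⟨L', hL', ⟨θ⟩⟩ := SymAlg.exists_inverse hL
  have hsec : ∀ s : Coh.structureModule X ⟶ CohB1.tensorMod ω L', s = 0 := by
    refine eq_zero_of_deg_neg k hdim (TMul.isInvertible_tensorMod hω hL') fun C hC => ?_
    haveI := isIntegral_component C hC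
    have h1 := degOn_tensor k hdim (X.irreducibleComponentIdeal C hC).radical hω hL'
    have h2 := degOn_tensor k hdim (X.irreducibleComponentIdeal C hC).radical hL hL'
    rw [degOn_congr k _ θ, degOn_structure] at h2
    have h3 := hlt C hC
    omega
  have h0 : Subsingleton (Coh.HH X (CohB1.tensorMod ω L') 0) := by
    haveI : Subsingleton Γ(CohB1.tensorMod ω L', ⊤) :=
      subsingleton_of_forall_eq 0 fun c => by
        have hc := TMul.val_homOf c ⊤
        rw [Groth.Agent.QC.res_self, hsec (TMul.homOf c)] at hc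
        exact hc.symm
    exact (CurveRR.secH0 (k := k) _).symm.toEquiv.subsingleton
  obtain ⟨E⟩ := SerrePn.nonempty_homEquiv k hL' (TMul.commIso L' L ≪≫ θ) ω
  haveI : Subsingleton (L ⟶ ω) := E.toEquiv.subsingleton
  haveI : Subsingleton (Module.Dual k (Coh.HH X L 1)) :=
    (Equiv.ofBijective _ (ht.2 L (TMul.isQCoh_of_isInvertible hL))).symm.subsingleton
  haveI : Module.Free k (Coh.HH X L 1) := Module.Free.of_divisionRing k _
  haveI : Module.Projective k (Coh.HH X L 1) := Module.Projective.of_free
  refine subsingleton_of_forall_eq 0 fun x => (Module.forall_dual_apply_eq_zero_iff k x).1 fun φ => ?_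
  rw [Subsingleton.elim φ 0, LinearMap.zero_apply]

include adj in
/-- vanishing of `H^1` of line bundles of large degree on a reduced curve -/
theorem subsingleton_hh1 [IsNoetherian X] [IsReduced X] (e : O.obj ≅ DCoh.inD _ (Coh.structureModule _))
    (hdim : topologicalKrullDim X ≤ 1) (hω : PicF.IsInvertible (DCoh.HD (a.obj O).obj (-(1 : ℤ))))
    {L : X.Modules} (hL : PicF.IsInvertible L)
    (hlt : ∀ (C : Set X) (hC : C ∈ irreducibleComponents (X : Type u)),
      CurveRR.Multi.degOn k (X.irreducibleComponentIdeal C hC).radical 1 (DCoh.HD (a.obj O).obj (-(1 : ℤ))) <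
        CurveRR.Multi.degOn k (X.irreducibleComponentIdeal C hC).radical 1 L) :
    Subsingleton (Coh.HH X L 1) := by
  obtain ⟨t, ht⟩ := DCohShriek.exists_isRDual k adj O e 1 hdim
  exact subsingleton_hh1_of_isRDual k hdim hω ht hL hlt

end Groth.Agent.DualGeneric
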