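import Groth.Agent.CurveRR.Multi2

/-!
Nefness passes to closed subschemes.
-/

set_option autoImplicit false
set_option backward.isDefEq.respectTransparency false
set_option backward.isDefEq.respectTransparency.types false
set_option linter.style.haveILetI false
set_option maxHeartbeats 1000000

universe u

open CategoryTheory CategoryTheory.Limits AlgebraicGeometry TopologicalSpace

noncomputable section

namespace Groth.Agent.DualGeneric.Sub

variable (k : Type u) [Field k] {X : Scheme.{u}} [X.Over (Spec (CommRingCat.of k))]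
  [IsProper (X ↘ Spec (CommRingCat.of k))]

/-- the degree of a restriction, computed upstairs -/
theorem deg_push {Y : Scheme.{u}} (i : Y ⟶ X) [IsClosedImmersion i] {L : X.Modules} (hL : PicF.IsInvertible L) :
    letI : Y.Over (Spec (CommRingCat.of k)) := ⟨i ≫ (X ↘ Spec (CommRingCat.of k))⟩
    Curv2.deg k Y ((Scheme.Modules.pullback i).obj L) 1 =
      Curv2.euler k X (CohB1.tensorMod ((Scheme.Modules.pushforward i).obj (Coh.structureModule Y)) L) -
        Curv2.euler k X ((Scheme.Modules.pushforward i).obj (Coh.structureModule Y)) := by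
  letI : Y.Over (Spec (CommRingCat.of k)) := ⟨i ≫ (X ↘ Spec (CommRingCat.of k))⟩
  haveI := CurveRR.isNoetherian_of_proper k X
  haveI := LocallyOfFiniteType.isLocallyNoetherian i
  have e : CohB1.tensorMod ((Scheme.Modules.pushforward i).obj (Coh.structureModule Y)) L ≅
      (Scheme.Modules.pushforward i).obj
      (CohB1.tensorMod (Coh.structureModule _) ((Scheme.Modules.pullback i).obj L)) :=
    KFlat.projFormulaIso i _ L
  rw [Curv2.deg, CurveRR.euler_eq_of_iso (e ≪≫ (Scheme.Modules.pushforward i).mapIso (TMul.leftUnitIso _)),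
    CurveRR.Multi.euler_push k i _ (TMul.isQCoh_of_isInvertible (PicLoc.isInvertible_pullback _ hL)),
    CurveRR.Multi.euler_push k i _ (Groth.Agent.QC.isQCoh_unit Y)]
  push_cast
  ring

/-- a nef module has nonnegative degree on one-dimensional closed subschemes -/
theorem deg_nonneg_of_nef {L : X.Modules} (hL : PicF.IsInvertible L)
    (hnef : ∀ C : X.IdealSheafData, IsIntegral C.subscheme → topologicalKrullDim (C.support : Set X) = 1 →
      0 ≤ @Curv2.deg k _ C.subscheme ⟨C.subschemeι ≫ (X ↘ Spec (CommRingCat.of k))⟩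
        ((Scheme.Modules.pullback C.subschemeι).obj L) 1)
    (J : X.IdealSheafData) (hJ : topologicalKrullDim J.subscheme = 1) :
    0 ≤ @Curv2.deg k _ J.subscheme ⟨J.subschemeι ≫ (X ↘ Spec (CommRingCat.of k))⟩
        ((Scheme.Modules.pullback J.subschemeι).obj L) 1 := by
  letI : J.subscheme.Over (Spec (CommRingCat.of k)) := ⟨J.subschemeι ≫ (X ↘ Spec (CommRingCat.of k))⟩
  haveI : IsProper (J.subscheme ↘ Spec (CommRingCat.of k)) :=
    inferInstanceAs (IsProper (J.subschemeι ≫ (X ↘ Spec (CommRingCat.of k))))
  refine CurveRR.Multi.deg_nonneg_of_nef k hJ (PicLoc.isInvertible_pullback _ hL) fun C hC hCd => ?_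
  let i := C.subschemeι ≫ J.subschemeι
  haveI := hC
  haveI : IsIso i.toImage := inferInstance
  haveI : Nonempty i.image := ⟨i.toImage (Classical.arbitrary C.subscheme)⟩
  haveI : IsIntegral i.image := isIntegral_of_isOpenImmersion (inv i.toImage)
  have hd : topologicalKrullDim (i.ker.support : Set X) = 1 := by
    rw [← hCd, ← i.ker.range_subschemeι, ← C.range_subschemeι]
    rw [← i.ker.subschemeι.isClosedEmbedding.isEmbedding.toHomeomorph.isHomeomorph.topologicalKrullDim_eq,
      ← C.subschemeι.isClosedEmbedding.isEmbedding.toHomeomorph.isHomeomorph.topologicalKrullDim_eq]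
    exact ((Scheme.homeoOfIso (asIso i.toImage)).isHomeomorph.topologicalKrullDim_eq).symm
  have h := hnef i.ker (inferInstanceAs (IsIntegral i.image)) hd
  rw [deg_push k i.ker.subschemeι hL] at h
  haveI := CurveRR.unitToPush_isIso i.toImage
  let e : (Scheme.Modules.pushforward i.ker.subschemeι).obj (Coh.structureModule i.ker.subscheme) ≅
      (Scheme.Modules.pushforward i).obj (Coh.structureModule C.subscheme) :=
    (Scheme.Modules.pushforward i.imageι).mapIso (asIso (ClSub.unitToPush i.toImage)) ≪≫
      (Scheme.Modules.pushforwardComp i.toImage i.imageι).app _ ≪≫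
      (Scheme.Modules.pushforwardCongr i.toImage_imageι).app _
  rw [CurveRR.euler_eq_of_iso (PicGrp.tensorModIso e (Iso.refl L)), CurveRR.euler_eq_of_iso e,
    ← deg_push k i hL] at h
  have h2 := deg_push k C.subschemeι (L := (Scheme.Modules.pullback J.subschemeι).obj L)
    (PicLoc.isInvertible_pullback _ hL)
  change 0 ≤ Curv2.euler k J.subscheme _ - Curv2.euler k J.subscheme _
  rw [← h2]
  convert h using 1
  letI : C.subscheme.Over (Spec (CommRingCat.of k)) := ⟨i ≫ (X ↘ Spec (CommRingCat.of k))⟩
  have hov : C.subschemeι ≫ (J.subscheme ↘ Spec (CommRingCat.of k)) = i ≫ (X ↘ Spec (CommRingCat.of k)) :=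
    (Category.assoc _ _ _).symm
  rw [show (⟨C.subschemeι ≫ (J.subscheme ↘ Spec (CommRingCat.of k))⟩ : C.subscheme.Over (Spec (CommRingCat.of k))) =
    ⟨i ≫ (X ↘ Spec (CommRingCat.of k))⟩ by rw [hov]]
  rw [Curv2.deg, Curv2.deg]
  congr 1
  exact CurveRR.euler_eq_of_iso ((Scheme.Modules.pullbackComp C.subschemeι J.subschemeι).app L)

end Groth.Agent.DualGeneric.Sub
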