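import Groth.Agent.DualGeneric.SubL
import Groth.Agent.DualGeneric.SubNef

/-!
Degrees of the dualizing module on subcurves without rational tails.
-/

set_option autoImplicit false
set_option backward.isDefEq.respectTransparency false
set_option backward.isDefEq.respectTransparency.types false
set_option linter.style.haveILetI false
set_option maxHeartbeats 1000000

universe u

open CategoryTheory CategoryTheory.Limits AlgebraicGeometry TopologicalSpace

attribute [local instance] HasDerivedCategory.standard

noncomputable section

namespace Groth.Agent.DualGeneric.Sub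

variable (k : Type u) [Field k] {X : Scheme.{u}} [X.Over (Spec (CommRingCat.of k))]
  [IsProper (X ↘ Spec (CommRingCat.of k))] [AlgebraicGeometry.IsReduced X] [ConnectedSpace X]
  [DCoh.HasRpush (X ↘ Spec (CommRingCat.of k))]
  (h : DCoh.RpushPreservesQCoh (X ↘ Spec (CommRingCat.of k))) [DCoh.HasShriek (X ↘ Spec (CommRingCat.of k)) h]
  (OY : DCoh.DQCoh (Spec (CommRingCat.of k)))
  (hOY : Nonempty (OY.obj ≅ DCoh.inD (Spec (CommRingCat.of k)) (Coh.structureModule (Spec (CommRingCat.of k)))))
  (hω : PicF.IsInvertible (DCoh.dualizingMod (X ↘ Spec (CommRingCat.of k)) h OY 1))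

local notation "ω" => DCoh.dualizingMod (X ↘ Spec (CommRingCat.of k)) h OY 1

include hOY hω in
/-- away from irreducible curves, components other than rational tails have nonnegative degree -/
theorem deg_cI_nonneg (hdim : topologicalKrullDim X = 1)
    (hnt : ∀ (C : Set X) (hC : C ∈ irreducibleComponents (X : Type u)), ¬ Curv2.IsRationalTail X C hC)
    (C : Set X) (hC : C ∈ irreducibleComponents (X : Type u)) (hne : cI C hC ≠ ⊥) :
    0 ≤ @Curv2.deg k _ (cI C hC).subscheme ⟨(cI C hC).subschemeι ≫ (X ↘ (Spec (CommRingCat.of k)))⟩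
        ((Scheme.Modules.pullback (cI C hC).subschemeι).obj ω) 1 := by
  obtain ⟨he, ⟨c, hc⟩, hpos, hdich, hW, hbot⟩ := facts k h OY hOY hω hdim (cI C hC) (dim_cI k C hC hdim)
  rw [← cI'_eq k C hC] at he hc hW hbot
  rw [he]
  have hk : CurveRR.h k (ClSub.quotMod (cI C hC ⊔ cI' C hC)) 0 ≠ 0 := fun h0 => hne (hbot h0)
  rcases hdich with h1 | h1
  · have : CurveRR.h k (ClSub.quotMod (cI C hC ⊔ cI' C hC)) 0 ≠ CurveRR.h k (ClSub.quotMod (cI C hC)) 0 :=
      fun e => hnt C hC (isRationalTail_of k C hC hW h1 e)
    have hc2 : 2 ≤ c := by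
      match c, hc with
      | 0, hc => simp at hc; exact absurd hc hk
      | 1, hc => simp at hc; exact absurd hc this
      | n + 2, _ => omega
    have := Nat.mul_le_mul_left (CurveRR.h k (ClSub.quotMod (cI C hC)) 0) hc2
    omega
  · omega

/-- an integral one-dimensional closed subscheme is a component -/
theorem exists_eq_cI (hdim : topologicalKrullDim X = 1) (I : X.IdealSheafData) (hI : IsIntegral I.subscheme)
    (hId : topologicalKrullDim (I.support : Set X) = 1) :
    ∃ (C : Set X) (hC : C ∈ irreducibleComponents (X : Type u)), I = cI C hC := by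
  haveI := hI
  have hirr : IsIrreducible (I.support : Set X) := by
    rw [← I.range_subschemeι, ← Set.image_univ]
    exact (IrreducibleSpace.isIrreducible_univ _).image _ I.subschemeι.continuous.continuousOn
  obtain ⟨C, hC, hsub⟩ := exists_mem_irreducibleComponents_subset_of_isIrreducible _ hirr
  refine ⟨C, hC, (eq_vI I).trans (congrArg vI (Closeds.ext (Set.Subset.antisymm hsub ?_)))⟩
  by_contra hn
  have hη := hC.1.isGenericPoint_genericPoint (isClosed_of_mem_irreducibleComponents C hC)
  have hsub' : (I.support : Set X) ⊆ closure {hC.1.genericPoint} := by rw [hη.def]; exact hsub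
  have h0 := dim_le_zero_of_notMem (ξ := hC.1.genericPoint) hdim.le I.support.isClosed hsub' fun hm => hn (by
    show C ⊆ _
    rw [← hη.def]
    exact closure_minimal (Set.singleton_subset_iff.2 hm) I.support.isClosed)
  rw [hId] at h0
  exact absurd h0 (by norm_num)

include hOY hω in
/-- without rational tails the dualizing module dominates the genus on proper subcurves -/
theorem h1_le_deg (hdim : topologicalKrullDim X = 1)
    (hnt : ∀ (C : Set X) (hC : C ∈ irreducibleComponents (X : Type u)), ¬ Curv2.IsRationalTail X C hC)
    (J : X.IdealSheafData) [AlgebraicGeometry.IsReduced J.subscheme] [ConnectedSpace J.subscheme]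
    (hJ : topologicalKrullDim J.subscheme = 1) (hne : J ≠ ⊥) :
    (CurveRR.h k (ClSub.quotMod J) 1 : ℤ) ≤
      @Curv2.deg k _ J.subscheme ⟨J.subschemeι ≫ (X ↘ (Spec (CommRingCat.of k)))⟩
        ((Scheme.Modules.pullback J.subschemeι).obj ω) 1 := by
  have hnn := deg_nonneg_of_nef k hω (fun I hI hId => by
    obtain ⟨C, hC, rfl⟩ := exists_eq_cI hdim I hI hId
    refine deg_cI_nonneg k h OY hOY hω hdim hnt C hC fun hbot => hne ?_
    refine Scheme.IdealSheafData.support_eq_top_iff.1 ?_
    haveI : IrreducibleSpace X := by
      refine (irreducibleSpace_def _).2 ?_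
      have : C = Set.univ := by
        have h := congrArg (fun I : X.IdealSheafData => (I.support : Set X)) hbot
        simp only [Scheme.IdealSheafData.coe_support_vanishingIdeal, Scheme.IdealSheafData.support_bot] at h
        simpa using h
      rw [Set.top_eq_univ, ← this]; exact hC.1
    refine Closeds.ext ?_
    by_contra hJu
    have hs : (J.support : Set X) ⊆ closure {genericPoint X} := by rw [(genericPoint_spec X).def]; exact Set.subset_univ _
    have h0 := dim_le_zero_of_notMem (ξ := genericPoint X) hdim.le J.support.isClosed hs fun hm => hJu (by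
      refine Set.eq_univ_of_univ_subset ?_
      rw [← (genericPoint_spec X).def]
      exact closure_minimal (Set.singleton_subset_iff.2 hm) J.support.isClosed)
    rw [← J.range_subschemeι, ← J.subschemeι.isClosedEmbedding.isEmbedding.toHomeomorph.isHomeomorph.topologicalKrullDim_eq, hJ] at h0
    exact absurd h0 (by norm_num)) J hJ
  obtain ⟨he, ⟨c, hc⟩, hpos, hdich, -, hbot⟩ := facts k h OY hOY hω hdim J hJ
  rw [he] at hnn ⊢
  have hk := fun h0 => hne (hbot h0)
  rcases hdich with h1 | h1
  · omega
  · match c, hc with
    | 0, hc => exact absurd (hc.trans (Nat.mul_zero _)) hk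
    | n + 1, hc =>
      rw [Nat.mul_succ] at hc
      omega

end Groth.Agent.DualGeneric.Sub
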