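import Groth.Agent.DualGeneric.SubN
import Groth.Agent.DualGeneric.SubM
import Groth.Agent.NodeBr.Count
import Groth.Agent.DualGeneric.GorInv
import Groth.Agent.NodalRed.Gor
import Groth.Agent.S2122

/-!
The dualizing module twisted by marked points on a nodal curve.
-/

set_option autoImplicit false
set_option backward.isDefEq.respectTransparency false
set_option backward.isDefEq.respectTransparency.types false
set_option linter.style.haveILetI false
set_option maxHeartbeats 1000000

universe u

open CategoryTheory CategoryTheory.Limits AlgebraicGeometry TopologicalSpace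

attribute [local instance] HasDerivedCategory.standard

noncomputable section

namespace Groth.Agent.DualGeneric.Marked

open Groth.Agent.DualGeneric.Sub

variable (k : Type u) [Field k] [IsAlgClosed k] {X : Scheme.{u}} [X.Over (Spec (CommRingCat.of k))]
  [IsProper (X ↘ Spec (CommRingCat.of k))] [AlgebraicGeometry.IsReduced X] [ConnectedSpace X]
  [DCoh.HasRpush (X ↘ Spec (CommRingCat.of k))]
  (h : DCoh.RpushPreservesQCoh (X ↘ Spec (CommRingCat.of k))) [DCoh.HasShriek (X ↘ Spec (CommRingCat.of k)) h]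
  (OY : DCoh.DQCoh (Spec (CommRingCat.of k)))
  (hOY : Nonempty (OY.obj ≅ DCoh.inD (Spec (CommRingCat.of k)) (Coh.structureModule (Spec (CommRingCat.of k)))))
  (hdim : topologicalKrullDim X = 1) (hX : Curv2.AtWorstNodal k X)
  {D : Closeds X} (hD : (D : Set X).Finite) {LD : X.Modules}
  (hinv : ClSub.IsInverseOf LD (ClSub.idealMod (Scheme.IdealSheafData.vanishingIdeal D)))

local notation "ωX" => DCoh.dualizingMod (X ↘ Spec (CommRingCat.of k)) h OY 1

include hOY hdim hX in
theorem invertible_omega : PicF.IsInvertible ωX :=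
  isInvertible_dualizingMod k (X ↘ (Spec (CommRingCat.of k))) hdim (NodalRed.isGorenstein_stalk k X hX) h OY hOY

omit [IsAlgClosed k] [AlgebraicGeometry.IsReduced X] [ConnectedSpace X] [IsProper (X ↘ Spec (CommRingCat.of k))]
  [DCoh.HasRpush (X ↘ Spec (CommRingCat.of k))] [X.Over (Spec (CommRingCat.of k))] in
omit k [Field k] in
include hinv in
theorem invertible_LD : PicF.IsInvertible LD := Groth.Agent.S2122.result _ _ hinv.some

include hOY hdim hX hinv in
theorem invertible_twist : PicF.IsInvertible (CohB1.tensorMod ωX LD) :=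
  TMul.isInvertible_tensorMod (invertible_omega k h OY hOY hdim hX) (invertible_LD hinv)

include h hOY hdim hX in
theorem kJ_eq_ncard (J : X.IdealSheafData) [AlgebraicGeometry.IsReduced J.subscheme] [ConnectedSpace J.subscheme]
    (hJ : topologicalKrullDim J.subscheme = 1) :
    kJ k J = ((J.support : Set X) ∩ closure (J.support : Set X)ᶜ).ncard :=
  NodeBr.h0_meet_eq_ncard k hX J hJ
    (NodeBr.deg_omega_subcurve k h OY hOY hdim hX (invertible_omega k h OY hOY hdim hX) J hJ).2

include hOY hdim hX hD hinv in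
/-- `deg_J (ω ⊗ O(D)) = 2 g_J - 2 + k_J + #(D ∩ J)` -/
theorem degJ_twist (J : X.IdealSheafData) [AlgebraicGeometry.IsReduced J.subscheme] [ConnectedSpace J.subscheme]
    (hJ : topologicalKrullDim J.subscheme = 1) :
    degJ k (CohB1.tensorMod ωX LD) J = 2 * (genJ k J : ℤ) - 2 + (kJ k J : ℤ) + (((D : Set X) ∩ J.support).ncard : ℤ) := by
  have hω := invertible_omega k h OY hOY hdim hX
  rw [← degJ_omega k h OY hOY hω hdim J hJ]
  have hJe := Groth.Agent.NodeBr.eq_vanishingIdeal_support J
  have hd := Groth.Agent.NodeBr.subset_closure_diff k J hJ D.isClosed (hD.subset Set.inter_subset_right)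
  generalize J.support = S at hJe hd ⊢
  subst hJe
  letI : (vI S).subscheme.Over (Spec (CommRingCat.of k)) := ⟨(vI S).subschemeι ≫ (X ↘ Spec (CommRingCat.of k))⟩
  haveI : IsProper ((vI S).subscheme ↘ Spec (CommRingCat.of k)) :=
    inferInstanceAs (IsProper ((vI S).subschemeι ≫ (X ↘ Spec (CommRingCat.of k))))
  have hn := deg_inverse_sub k hD (invertible_LD hinv) (TMul.commIso _ _ ≪≫ hinv.some) S hd
  obtain ⟨t⟩ := TMul.nonempty_pullTensorIso (vI S).subschemeι ωX LD
  have hadd := CurveRR.Multi.deg_tensor k hJ.le 1 1 _ _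
    (CurveRR.isFinLocFreeOfRank_one (PicLoc.isInvertible_pullback (vI S).subschemeι hω))
    (CurveRR.isFinLocFreeOfRank_one (PicLoc.isInvertible_pullback (vI S).subschemeι (invertible_LD hinv)))
  rw [Nat.mul_one, Nat.cast_one, one_mul, one_mul] at hadd
  show Curv2.deg k (vI S).subscheme _ 1 = Curv2.deg k (vI S).subscheme _ 1 + _
  rw [← hn]
  refine Eq.trans ?_ (hadd.trans (add_comm _ _))
  first
    | (rw [Curv2.deg, Curv2.deg, CurveRR.euler_eq_of_iso t]; done)
    | rw [Curv2.deg, Curv2.deg, CurveRR.euler_eq_of_iso t.symm]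

include hOY hdim hX hD hinv in
/-- the component form -/
theorem degJ_twist_component (C : Set X) (hC : C ∈ irreducibleComponents (X : Type u)) :
    degJ k (CohB1.tensorMod ωX LD) (cI C hC) =
      2 * (genJ k (cI C hC) : ℤ) - 2 + ((C ∩ closure Cᶜ).ncard : ℤ) + (((D : Set X) ∩ C).ncard : ℤ) := by
  have hd := dim_cI k C hC hdim
  rw [degJ_twist k h OY hOY hdim hX hD hinv (cI C hC) hd, kJ_eq_ncard k h OY hOY hdim hX (cI C hC) hd,
    Scheme.IdealSheafData.coe_support_vanishingIdeal]
  rfl

include hOY hdim hX hinv in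
/-- nonnegative on components means nef on subcurves -/
theorem degJ_twist_nonneg (hC : ∀ (C : Set X) (hC : C ∈ irreducibleComponents (X : Type u)),
      0 ≤ degJ k (CohB1.tensorMod ωX LD) (cI C hC))
    (J : X.IdealSheafData) (hJ : topologicalKrullDim J.subscheme = 1) :
    0 ≤ degJ k (CohB1.tensorMod ωX LD) J := by
  refine deg_nonneg_of_nef k (invertible_twist k h OY hOY hdim hX hinv) (fun I hI hId => ?_) J hJ
  obtain ⟨C, hC', rfl⟩ := exists_eq_cI hdim I hI hId
  exact hC C hC'

include hOY hdim hX hD hinv in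
/-- powers of a semistable twist are non-special and generated -/
theorem pow_vanishing (hC : ∀ (C : Set X) (hC : C ∈ irreducibleComponents (X : Type u)),
      0 ≤ degJ k (CohB1.tensorMod ωX LD) (cI C hC))
    (hpos : 0 < 2 * (Curv2.genus k X : ℤ) - 2 + ((D : Set X).ncard : ℤ))
    {M : X.Modules} (e : M ≅ CohB1.tensorMod ωX LD) {m : ℕ} (hm : 2 ≤ m) :
    Subsingleton (Coh.HH X (CohB1.tensorPow M m) 1) ∧ Curv2.IsGloballyGenerated (CohB1.tensorPow M m) := by
  have hω := invertible_omega k h OY hOY hdim hX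
  have hM := invertible_twist k h OY hOY hdim hX hinv
  obtain ⟨e'⟩ := TMul.nonempty_powCongr e m
  have key : ∀ J : X.IdealSheafData, AlgebraicGeometry.IsReduced J.subscheme → ConnectedSpace J.subscheme →
      topologicalKrullDim J.subscheme = 1 →
      ¬ degJ k (CohB1.tensorPow (CohB1.tensorMod ωX LD) m) J ≤ degJ k ωX J - (kJ k J : ℤ) + 1 := by
    intro J hr hc hJ hle
    haveI := hr
    haveI := hc
    rw [degJ_pow k hM m J hJ, degJ_omega k h OY hOY hω hdim J hJ] at hle
    have hb := degJ_twist k h OY hOY hdim hX hD hinv J hJ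
    have h0 := degJ_twist_nonneg k h OY hOY hdim hX hinv hC J hJ
    have hge : 2 * (genJ k J : ℤ) - 1 ≤ degJ k (CohB1.tensorMod ωX LD) J ∨
        (genJ k J = Curv2.genus k X ∧ 0 < degJ k (CohB1.tensorMod ωX LD) J) := by
      rcases kJ_cases k h OY hOY hω hdim J hJ with hk | ⟨hk, hg, -, -⟩
      · exact Or.inl (by omega)
      · refine Or.inr ⟨hg, ?_⟩
        have hS : (J.support : Set X) = Set.univ := by
          have hfin := (NodeBr.deg_omega_subcurve k h OY hOY hdim hX hω J hJ).2
          have he : (J.support : Set X) ∩ closure (J.support : Set X)ᶜ = ∅ :=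
            (Set.ncard_eq_zero hfin).1 ((kJ_eq_ncard k h OY hOY hdim hX J hJ).symm.trans hk)
          have hcl : closure (J.support : Set X)ᶜ ⊆ (J.support : Set X)ᶜ := fun x hx hxS =>
            (Set.eq_empty_iff_forall_notMem.1 he) x ⟨hxS, hx⟩
          have hne : (J.support : Set X).Nonempty := by
            obtain ⟨y⟩ : Nonempty J.subscheme := inferInstance
            exact ⟨J.subschemeι y, J.range_subschemeι.le ⟨y, rfl⟩⟩
          exact (isClopen_iff.1 ⟨J.support.isClosed,
            isClosed_compl_iff.1 (closure_subset_iff_isClosed.1 hcl)⟩).resolve_left hne.ne_empty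
        rw [hS, Set.inter_univ] at hb
        rw [hb, hg, hk]
        omega
    have hm' : (2 : ℤ) ≤ m := by exact_mod_cast hm
    have hmul := mul_le_mul_of_nonneg_right hm' h0
    rcases hge with hge | ⟨hg, hge⟩ <;> omega
  constructor
  · by_contra hn
    have hn' : ¬ Subsingleton (Coh.HH X (CohB1.tensorPow (CohB1.tensorMod ωX LD) m) 1) := fun hs =>
      hn ((CohFinite.hhEquiv k e' 1).toEquiv.subsingleton)
    obtain ⟨J, hr, hc, hJ, hle⟩ := exists_bad_h1 k h OY hOY hω hdim (TMul.isInvertible_tensorPow hM m) hn'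
    exact key J hr hc hJ (by omega)
  · refine (fun hg => let ⟨ι, p, hp⟩ := hg; ⟨ι, p ≫ e'.inv, @epi_comp _ _ _ _ _ p hp e'.inv inferInstance⟩ : Curv2.IsGloballyGenerated (CohB1.tensorPow (CohB1.tensorMod ωX LD) m) → _) (gg_of_subsingleton k hdim.le (TMul.isInvertible_tensorPow hM m) fun P hP => ?_)
    by_contra hn
    obtain ⟨J, hr, hc, hJ, hle⟩ := exists_bad_point k h OY hOY hω hdim (TMul.isInvertible_tensorPow hM m) hP hn
    exact key J hr hc hJ hle

end Groth.Agent.DualGeneric.Marked
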