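import Groth.Agent.DualGeneric.EndOmega
import Groth.Agent.DualGeneric.DegOmega
import Groth.Agent.DualGeneric.GorInv
import Groth.Agent.RefDiv.Lat
import Groth.Agent.RefStalk.Extend
import Groth.Agent.RefStalk.Span
import Groth.Agent.RefStalk.Codim
import Groth.Agent.Goren.Basic
import Groth.Agent.DualCx.Regular
import Groth.Agent.DualCx.GorCriterion
import Groth.Agent.DualCx.Apps
import Groth.Agent.NodeBr.Tree

/-!
A dualizing module of a reduced connected curve near a regular closed point.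
-/

set_option autoImplicit false
set_option backward.isDefEq.respectTransparency false
set_option backward.isDefEq.respectTransparency.types false
set_option linter.style.haveILetI false
set_option maxHeartbeats 1000000

universe u

open CategoryTheory CategoryTheory.Limits AlgebraicGeometry TopologicalSpace Opposite
attribute [local instance] HasDerivedCategory.standard
open Groth.Agent.QC (res resO res_res res_smul)
open Groth.Agent.WeakAssLib (mgerm mgerm_smul mgerm_res)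
open TMul (IsGen)

noncomputable section

namespace Groth.Agent.DualGeneric

section Gen

variable {X : Scheme.{u}}

/-- a generator of a free stalk spreads out, when no stalk vanishes -/
theorem exists_isGen_of_free [IsLocallyNoetherian X] {M : X.Modules} (hM : Coh.IsCoh M)
    (hne : ∀ y : X, Nontrivial (M.presheaf.stalk y)) {x : X}
    (hfree : Module.Free (X.presheaf.stalk x) (M.presheaf.stalk x)) {m : M.presheaf.stalk x}
    (hm : ∀ v : M.presheaf.stalk x, ∃ a : X.presheaf.stalk x, a • m = v) :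
    ∃ (W : X.Opens) (hx : x ∈ W) (e : Γ(M, W)), mgerm M hx e = m ∧ IsGen e := by
  classical
  obtain ⟨U, hU⟩ := RefStalk.exists_free_locus hM
  obtain ⟨W₁, hx₁, e, he⟩ := TopCat.Presheaf.exists_germ_eq M.presheaf m
  obtain ⟨W₀, ι, hι, s, hx₀, hs⟩ := RefStalk.exists_spanning_nhd hM.2 x
  have hnear : ∀ i, ∃ P : X.Opens, x ∈ P ∧ ∀ (y : X) (_ : y ∈ P) (h₀ : y ∈ W₀) (h₁ : y ∈ W₁),
      ∃ a : X.presheaf.stalk y, mgerm M h₀ (s i) = a • mgerm M h₁ e := fun i => by
    obtain ⟨a, ha⟩ := hm (mgerm M hx₀ (s i))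
    obtain ⟨Q, hQ, r, rfl⟩ := TopCat.Presheaf.exists_germ_eq X.presheaf a
    have hx' : x ∈ W₀ ⊓ W₁ ⊓ Q := ⟨⟨hx₀, hx₁⟩, hQ⟩
    have h1 : mgerm M hx' (res M (inf_le_left.trans inf_le_left) (s i)) =
        mgerm M hx' (resO X (inf_le_right : W₀ ⊓ W₁ ⊓ Q ≤ Q) r •
          res M (inf_le_left.trans inf_le_right : W₀ ⊓ W₁ ⊓ Q ≤ W₁) e) := by
      rw [mgerm_smul, mgerm_res, mgerm_res, ← ha, show mgerm M hx₁ e = m from he]
      exact congrArg (· • m) (X.presheaf.germ_res_apply _ _ _ _).symm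
    obtain ⟨P, hP, i₁, i₂, hres⟩ := TopCat.Presheaf.germ_eq M.presheaf x hx' hx' _ _ h1
    refine ⟨P, hP, fun y hy h₀ h₁ => ⟨X.presheaf.germ Q y (i₁.le hy).2 r, ?_⟩⟩
    have e2 := congrArg (mgerm M hy) (show res M i₁.le (res M (inf_le_left.trans inf_le_left) (s i)) =
      res M i₂.le (resO X (inf_le_right : W₀ ⊓ W₁ ⊓ Q ≤ Q) r •
        res M (inf_le_left.trans inf_le_right : W₀ ⊓ W₁ ⊓ Q ≤ W₁) e) from hres)
    rw [mgerm_res, mgerm_res, mgerm_res, mgerm_smul, mgerm_res] at e2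
    exact e2.trans (congrArg (· • mgerm M h₁ e) (X.presheaf.germ_res_apply _ _ _ _))
  choose P hxP hP using hnear
  let W : X.Opens := W₀ ⊓ W₁ ⊓ ⟨⋂ i, (P i : Set X), isOpen_iInter_of_finite fun i => (P i).2⟩ ⊓ U
  have hW₁ : W ≤ W₁ := inf_le_left.trans (inf_le_left.trans inf_le_right)
  have hxW : x ∈ W := ⟨⟨⟨hx₀, hx₁⟩, Set.mem_iInter.2 hxP⟩, (hU x).2 hfree⟩
  refine ⟨W, hxW, res M hW₁ e, (mgerm_res M hW₁ hxW e).trans he, RefStalk.isGen_of_stalk fun y hy => ?_⟩
  rw [mgerm_res]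
  set ey := mgerm M (hW₁ hy) e with hey
  have hsurj : ∀ v : M.presheaf.stalk y, ∃ a : X.presheaf.stalk y, a • ey = v := by
    have h1 : Submodule.span (X.presheaf.stalk y) {ey} = ⊤ := by
      rw [eq_top_iff, ← hs y hy.1.1.1, Submodule.span_le]
      rintro _ ⟨i, rfl⟩
      obtain ⟨a, ha⟩ := hP i y (Set.mem_iInter.1 hy.1.2 i) hy.1.1.1 (hW₁ hy)
      exact Submodule.mem_span_singleton.2 ⟨a, ha.symm⟩
    exact fun v => Submodule.mem_span_singleton.1 (h1 ▸ Submodule.mem_top)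
  haveI := (hU y).1 hy.2
  haveI := hne y
  let b := Module.Free.chooseBasis (X.presheaf.stalk y) (M.presheaf.stalk y)
  obtain ⟨j⟩ := b.index_nonempty
  obtain ⟨a₀, ha₀⟩ := hsurj (b j)
  have hu : a₀ * b.coord j ey = 1 := by
    have := congrArg (b.coord j) ha₀
    rwa [map_smul, b.coord_apply j (b j), b.repr_self, Finsupp.single_eq_same,
      smul_eq_mul] at this
  refine ⟨fun a a' haa => ?_, hsurj⟩
  have := congrArg (b.coord j) haa
  simp only [map_smul, smul_eq_mul] at this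
  calc a = a * (a₀ * b.coord j ey) := by rw [hu, mul_one]
    _ = a₀ * (a * b.coord j ey) := by ring
    _ = a₀ * (a' * b.coord j ey) := by rw [this]
    _ = a' * (a₀ * b.coord j ey) := by ring
    _ = a' := by rw [hu, mul_one]

end Gen

variable (k : Type u) [Field k] [IsAlgClosed k] {X : Scheme.{u}} [X.Over (Spec (CommRingCat.of k))]
  [IsProper (X ↘ Spec (CommRingCat.of k))] [AlgebraicGeometry.IsReduced X] [ConnectedSpace X]

/-- any dualizing module has a free generator near a regular closed point -/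
theorem exists_isGen_omega (hdim : topologicalKrullDim X = 1) {ω : X.Modules} {tr : Coh.HH X ω 1 →ₗ[k] k}
    (hω : Canon.IsRDualOver k X 1 ω tr) {p : X} (hp : IsClosed ({p} : Set X))
    (hreg : IsRegularLocalRing (X.presheaf.stalk p)) :
    ∃ (W : X.Opens) (_ : p ∈ W) (e : Γ(ω, W)), IsGen e := by
  haveI := DCohShriek.isNoetherian_of_proper (X ↘ Spec (CommRingCat.of k))
  haveI : DCoh.HasRpush (X ↘ Spec (CommRingCat.of k)) := DerPush.hasRpush_sch _
  have hf : DCoh.RpushPreservesQCoh (X ↘ Spec (CommRingCat.of k)) := fun E hE =>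
    DQPush.isQCohD_rpush (X ↘ Spec (CommRingCat.of k)) hE
  haveI : (DCoh.RpushQ (X ↘ Spec (CommRingCat.of k)) hf).IsLeftAdjoint :=
    DCohShriek.isLeftAdjoint_rpushQ (X ↘ Spec (CommRingCat.of k)) hf
  let adj : DCoh.RpushQ (X ↘ Spec (CommRingCat.of k)) hf ⊣ _ := Adjunction.ofIsLeftAdjoint _
  let O := (DCohShriek.tildeQ k).obj (DCohShriek.unitD k)
  obtain ⟨t', ht'⟩ := DCohShriek.exists_isRDual k adj O (DCohShriek.tildeUnitIso k) 1 hdim.le
  let a := (DCoh.RpushQ (X ↘ Spec (CommRingCat.of k)) hf).rightAdjoint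
  let ω' := DCoh.HD (a.obj O).obj (-((1 : ℕ) : ℤ))
  have h0 : Module.finrank k (Coh.HH X (Coh.structureModule X) 0) = 1 := h0_structure_connected (k := k)
  obtain ⟨hz, hcoh, hst⟩ := Groth.Agent.S3637.result k X (X ↘ Spec (CommRingCat.of k))
    (fun x => Sub.cm_stalk_of_h0 k hdim.le h0 x) 1 (fun Z hZ => dim_component_eq_one k hdim Z hZ) hf _ adj O
    ⟨DCohShriek.tildeUnitIso k⟩
  -- the given module is the standard one
  have hcomp : ∀ (F G H : X.Modules) (α : F ⟶ G) (β : G ⟶ H) (x : Coh.HH X F 1),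
      Canon.HHlin k (α ≫ β) 1 x = Canon.HHlin k β 1 (Canon.HHlin k α 1 x) := fun F G H α β x => by
    exact Groth.Agent.CohQC.hmap_comp 1 α β x
  have hid : ∀ (F : X.Modules) (x : Coh.HH X F 1), Canon.HHlin k (𝟙 F) 1 x = x := fun F x => by
    exact Groth.Agent.CohQC.hmap_id 1 F x
  obtain ⟨ρ, hρ⟩ := (hω.2 ω' hcoh.1).2 t'
  obtain ⟨σ, hσ⟩ := (ht'.2 ω hω.1).2 tr
  have h₁ : ρ ≫ σ = 𝟙 ω' := (ht'.2 ω' hcoh.1).1 (LinearMap.ext fun x => by
    change t' (Canon.HHlin k (ρ ≫ σ) 1 x) = t' (Canon.HHlin k (𝟙 ω') 1 x)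
    rw [hcomp, hid]
    exact (LinearMap.congr_fun hσ _).trans (LinearMap.congr_fun hρ x))
  have h₂ : σ ≫ ρ = 𝟙 ω := (hω.2 ω hω.1).1 (LinearMap.ext fun x => by
    change tr (Canon.HHlin k (σ ≫ ρ) 1 x) = tr (Canon.HHlin k (𝟙 ω) 1 x)
    rw [hcomp, hid]
    exact (LinearMap.congr_fun hρ _).trans (LinearMap.congr_fun hσ x))
  let eω : ω' ≅ ω := ⟨ρ, σ, h₁, h₂⟩
  have hcohω : Coh.IsCoh ω := CohFinite.isCoh_of_iso eω hcoh
  have hne : ∀ y, Nontrivial (ω.presheaf.stalk y) := fun y =>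
    (DualSch.nontrivial_stalk_congr eω y).1 (hst y).1
  -- the local computation
  haveI : ∀ (U : Scheme.{u}) (j : U ⟶ X) [IsOpenImmersion j],
      PreservesFiniteLimits (Scheme.Modules.restrictFunctor j) := fun U j _ => inferInstance
  haveI : ∀ (R : CommRingCat.{u}), PreservesFiniteLimits (tilde.functor R) := fun R => inferInstance
  have hD : Dual2.IsDualizingSch X (a.obj O).obj := DCohShriek.isDualizingSch_adjoint _ adj O
    (DCohShriek.isDualizingSch_point k (DCohShriek.tildeUnitIso k))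
  obtain ⟨w, hw, hstk⟩ := exists_local_all hD p
  haveI := hreg
  haveI : LocCoh.IsGorensteinLocalRing (X.presheaf.stalk p) := Goren.isGorenstein_of_regular _
  obtain ⟨r, hr⟩ := SerreReg.exists_dim_nat (X.presheaf.stalk p)
  obtain ⟨m, ⟨em⟩⟩ := DualCx.exists_shift_iso (DualCx.gorenstein_normalized hr).1 hw
  obtain ⟨e₀⟩ := hstk (-((1 : ℕ) : ℤ))
  let e₁ := em ≪≫ ((CategoryTheory.shiftFunctorAdd' (Dual.D (X.presheaf.stalk p)) (r : ℤ) m ((r : ℤ) + m) rfl).app _).symm
  obtain ⟨e₂⟩ := DualCx.nonempty_hd_shift (Dual.inD (X.presheaf.stalk p) (X.presheaf.stalk p)) ((r : ℤ) + m)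
    (-((1 : ℕ) : ℤ))
  let e₃ := e₀.trans (((DerivedCategory.homologyFunctor (ModuleCat.{u} (X.presheaf.stalk p)) (-((1 : ℕ) : ℤ))).mapIso e₁).toLinearEquiv.trans e₂)
  have hj : (r : ℤ) + m + -((1 : ℕ) : ℤ) = 0 := by
    by_contra hj
    haveI := DualCx.subsingleton_hd_inD (A := X.presheaf.stalk p) (X.presheaf.stalk p) hj
    haveI := (hst p).1
    exact not_subsingleton (ω'.presheaf.stalk p) e₃.toEquiv.subsingleton
  rw [hj] at e₂
  let e₄ : ω'.presheaf.stalk p ≃ₗ[X.presheaf.stalk p] X.presheaf.stalk p :=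
    e₀.trans (((DerivedCategory.homologyFunctor (ModuleCat.{u} (X.presheaf.stalk p)) (-((1 : ℕ) : ℤ))).mapIso e₁).toLinearEquiv.trans
      (e₂.trans ((DerivedCategory.singleFunctorCompHomologyFunctorIso (ModuleCat.{u} (X.presheaf.stalk p)) 0).app
        (ModuleCat.of (X.presheaf.stalk p) (X.presheaf.stalk p))).toLinearEquiv))
  let e₅ : ω.presheaf.stalk p ≃ₗ[X.presheaf.stalk p] X.presheaf.stalk p :=
    ((DerSch.stalkFunctor X p).mapIso eω).symm.toLinearEquiv.trans e₄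
  haveI : Module.Free (X.presheaf.stalk p) (ω.presheaf.stalk p) := Module.Free.of_equiv e₅.symm
  obtain ⟨W, hW, e, -, he⟩ := exists_isGen_of_free hcohω hne ‹_› (m := e₅.symm 1) fun v =>
    ⟨e₅ v, by rw [← map_smul, smul_eq_mul, mul_one, e₅.symm_apply_apply]⟩
  exact ⟨W, hW, e, he⟩

end Groth.Agent.DualGeneric
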