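import Groth.Agent.DualGeneric.SubA

/-!
Cohomology classes supported on one component of a reduced closed subset.
-/

set_option autoImplicit false
set_option backward.isDefEq.respectTransparency false
set_option backward.isDefEq.respectTransparency.types false
set_option linter.style.haveILetI false
set_option maxHeartbeats 1000000

universe u

open CategoryTheory CategoryTheory.Limits AlgebraicGeometry TopologicalSpace Opposite
open Groth.Agent.CohFinite
open Groth.Agent.QC (res resO res_res res_self res_smul resO_resO resO_self section_eq_of_locally app_res)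
open Groth.Agent.WeakAssLib (mgerm mgerm_res stalkHom stalkHom_germ)
open TMul (IsGen homOf val_homOf tm)

noncomputable section

namespace Groth.Agent.DualGeneric.Sub

variable {X : Scheme.{u}} {L : X.Modules}

theorem app_comp {P Q R : X.Modules} (f : P ⟶ Q) (g : Q ⟶ R) {W : X.Opens} (s : Γ(P, W)) :
    (f ≫ g).app W s = g.app W (f.app W s) := rfl

theorem exists_app_kernel {P Q : X.Modules} (f : P ⟶ Q) {W : X.Opens} (s : Γ(P, W)) (h : f.app W s = 0) :
    ∃ z, (kernel.ι f).app W z = s :=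
  (Groth.Agent.QC.mem_range_kernel_app f W s).2 h

theorem kernel_app {P Q : X.Modules} (f : P ⟶ Q) {W : X.Opens} (s : Γ(kernel f, W)) :
    f.app W ((kernel.ι f).app W s) = 0 :=
  ConcreteCategory.congr_hom (congrArg (fun ψ => Scheme.Modules.Hom.app ψ W) (kernel.condition f)) s

variable (hL : PicF.IsInvertible L) (D : Closeds X) {G : X.Modules} (j : G ⟶ M D L) [Mono j]
  (t : Coh.structureModule X ⟶ G)

include hL j in
theorem idealι_t : ClSub.idealModι (vI D) ≫ t = 0 := by
  rw [← cancel_mono j, Category.assoc, zero_comp]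
  exact idealι_comp hL D (t ≫ j)

/-- the factorization through `O_D` -/
def tb : A D ⟶ G :=
  (CokernelCofork.IsColimit.desc' (CurveRR.ideal_shortExact (vI D)).gIsCokernel t (idealι_t hL D j t)).1

theorem q_tb : q D ≫ tb hL D j t = t :=
  (CokernelCofork.IsColimit.desc' (CurveRR.ideal_shortExact (vI D)).gIsCokernel t (idealι_t hL D j t)).2

theorem tb_app {V : X.Opens} (b : Γ(X, V)) :
    (tb hL D j t).app V ((q D).app V b) = b • TMul.val t V := by
  rw [← app_comp, q_tb, TMul.app_eq_smul]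

variable {D} (D' : Closeds X) (h : D' ≤ D)

theorem kerι_tb : (kernel.ι (r D D' h) ≫ tb hL D j t) ≫ j ≫ rL D D' h L = 0 := by
  obtain ⟨u, hu⟩ := CokernelCofork.IsColimit.desc' (CurveRR.ideal_shortExact (vI D')).gIsCokernel
    (t ≫ j ≫ rL D D' h L) (idealι_comp hL D' _)
  change q D' ≫ u = _ at hu
  have h1 : tb hL D j t ≫ j ≫ rL D D' h L = r D D' h ≫ u := by
    rw [← cancel_epi (q D), ← Category.assoc (q D), q_tb, ← Category.assoc (q D) (r D D' h), q_r, hu]
  rw [Category.assoc, h1, ← Category.assoc, kernel.condition, zero_comp]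

/-- the sections of `G` vanishing on `D'` -/
abbrev K : X.Modules := kernel (j ≫ rL D D' h L)

/-- multiplication by `t` from the functions vanishing on `D'` -/
def κ : kernel (r D D' h) ⟶ K j D' h := kernel.lift _ (kernel.ι (r D D' h) ≫ tb hL D j t) (kerι_tb hL j t D' h)

theorem κ_ι : κ hL j t D' h ≫ kernel.ι (j ≫ rL D D' h L) = kernel.ι (r D D' h) ≫ tb hL D j t :=
  kernel.lift_ι _ _ _

/-- `t` is a generator near `ξ` -/
def UnitAt (ξ : X) : Prop :=
  ∃ (V : X.Opens) (g : Γ(L, V)) (a : Γ(X, V)), IsGen g ∧ ξ ∈ X.basicOpen a ∧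
    j.app V (TMul.val t V) = tm ((q D).app V a) g

include hL in
/-- sections of `K` off the last component vanish -/
theorem K_eq_zero {Z : Closeds X} (hZ : Z ≤ D) (hc : (D : Set X) ⊆ (D' : Set X) ∪ Z) {W : X.Opens}
    (s : Γ(K j D' h, W)) (hW : ∀ x ∈ (Z : Set X), x ∉ W) : s = 0 := by
  refine Groth.Agent.QC.app_injective_of_mono (kernel.ι (j ≫ rL D D' h L)) W ?_
  rw [map_zero]
  refine Groth.Agent.QC.app_injective_of_mono j W ?_
  rw [map_zero]
  exact eq_zero_of_cover hL h hZ hc _ ((app_comp j _ _).symm.trans (kernel_app _ s)) (eq_zero_of_disjoint hL Z _ hW)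

variable {ξ : X}

theorem surjective_stalk_κ_unit (hξ : ξ ∉ (D' : Set X)) (hu : UnitAt j t ξ) :
    Function.Surjective (stalkHom (κ hL j t D' h) ξ) := by
  obtain ⟨V, g, a, hg, hξa, ht⟩ := hu
  intro m
  obtain ⟨W, hξW, s, rfl⟩ := (K j D' h).presheaf.exists_germ_eq (x := ξ) m
  let U₀ : X.Opens := W ⊓ X.basicOpen a ⊓ ⟨(D' : Set X)ᶜ, D'.isClosed.isOpen_compl⟩
  have hξU : ξ ∈ U₀ := ⟨⟨hξW, hξa⟩, hξ⟩
  obtain ⟨V', hV', g', b, hξV', hg', hb⟩ := exists_pres hL D (res (M D L) (inf_le_left.trans inf_le_left : U₀ ≤ W)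
    (j.app W ((kernel.ι (j ≫ rL D D' h L)).app W s))) hξU
  have hV'W : V' ≤ W := hV'.trans (inf_le_left.trans inf_le_left)
  have hV'a : V' ≤ X.basicOpen a := hV'.trans (inf_le_left.trans inf_le_right)
  have hV'V : V' ≤ V := hV'a.trans (X.basicOpen_le a)
  obtain ⟨v, hv⟩ := (hg.res hV'V V' le_rfl).2 g'
  change v • res L le_rfl (res L hV'V g) = g' at hv
  rw [res_self] at hv
  have hua : IsUnit (resO X hV'V a) := by
    have h1 : IsUnit (resO X (X.basicOpen_le a) a) := X.toLocallyRingedSpace.toRingedSpace.isUnit_res_basicOpen a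
    rw [← resO_resO hV'a (X.basicOpen_le a) a]
    exact h1.map _
  obtain ⟨w, hw⟩ := hua
  let c : Γ(X, V') := b * v * ↑w⁻¹
  have hc : (r D D' h).app V' ((q D).app V' c) = 0 := by
    rw [r_q]
    exact (q_eq_zero_iff D' c).2 fun x hx hxc => (hV' (X.basicOpen_le c hxc)).2 hx
  obtain ⟨z, hz⟩ := exists_app_kernel (r D D' h) _ hc
  refine ⟨mgerm _ hξV' z, ?_⟩
  rw [stalkHom_germ]
  have key : (κ hL j t D' h).app V' z = res (K j D' h) hV'W s := by
    refine Groth.Agent.QC.app_injective_of_mono (kernel.ι (j ≫ rL D D' h L)) V' ?_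
    refine Groth.Agent.QC.app_injective_of_mono j V' ?_
    rw [← app_comp (κ hL j t D' h), κ_ι, app_comp, hz, tb_app, ← app_res, ← app_res]
    rw [res_res] at hb
    rw [hb, Scheme.Modules.Hom.app_smul, show TMul.val t V' = res G hV'V (TMul.val t V) from (TMul.res_val t hV'V).symm,
      ← app_res, ht, TMul.res_tm, app_res, show res (Coh.structureModule X) hV'V a = resO X hV'V a from rfl,
      smul_tm_q, ← hv, TMul.tm_smul, smul_tm_q]
    congr 2
    show c * resO X hV'V a = v * b
    rw [← hw, mul_comm v b]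
    exact Units.inv_mul_cancel_right _ _
  rw [key]
  exact mgerm_res (K j D' h) hV'W hξV' s

variable (hξ' : ξ ∈ (D : Set X))

include hξ' in
theorem closure_le : (⟨closure {ξ}, isClosed_closure⟩ : Closeds X) ≤ D :=
  closure_minimal (Set.singleton_subset_iff.2 hξ') D.isClosed

include hξ' in
/-- without a generator at `ξ` the functions vanishing off it kill `t` -/
theorem kerι_tb_eq_zero (hc : (D : Set X) ⊆ (D' : Set X) ∪ closure {ξ}) (hu : ¬ UnitAt j t ξ) :
    kernel.ι (r D D' h) ≫ tb hL D j t = 0 := by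
  refine Scheme.Modules.hom_ext _ _ fun W => ?_
  ext s
  show (tb hL D j t).app W ((kernel.ι (r D D' h)).app W s) = 0
  refine section_eq_of_locally fun x hx => ?_
  obtain ⟨V₀, hV₀, b, hxV₀, hb⟩ := exists_lift D ((kernel.ι (r D D' h)).app W s) hx
  obtain ⟨V, hV, g, a, hxV, hg, ha⟩ := exists_pres hL D (j.app V₀ (TMul.val t V₀)) hxV₀
  refine ⟨V, hV.trans hV₀, hxV, ?_⟩
  have hb' : res (A D) (hV.trans hV₀) ((kernel.ι (r D D' h)).app W s) = (q D).app V (resO X hV b) := by
    rw [← res_res (A D) hV hV₀, ← hb, app_res]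
    rfl
  rw [map_zero, app_res, hb', tb_app]
  refine Groth.Agent.QC.app_injective_of_mono j V ?_
  have ha' : j.app V (TMul.val t V) = tm ((q D).app V a) g := by
    rw [← ha, app_res, TMul.res_val]
  rw [map_zero, Scheme.Modules.Hom.app_smul, ha', smul_tm_q]
  refine (tm_q_eq_zero_iff D _ hg).2 fun y hy hya => ?_
  rw [X.basicOpen_mul] at hya
  rcases hc hy with hy' | hy'
  · have h0 : (q D').app V (resO X hV b) = 0 := by
      rw [← r_q D D' h, ← hb', ← app_res, kernel_app, map_zero]
    exact (q_eq_zero_iff D' _).1 h0 y hy' hya.1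
  · exact hu ⟨V, g, a, hg, (specializes_iff_mem_closure.2 hy').mem_open (X.basicOpen a).2 hya.2, ha'⟩

omit [Mono j] in
theorem dim_le_zero_of_notMem (hdim : topologicalKrullDim X ≤ 1) {S : Set X} (hS : IsClosed S)
    (hsub : S ⊆ closure {ξ}) (hne : ξ ∉ S) : topologicalKrullDim S ≤ 0 := by
  haveI : QuasiSober S := hS.isClosedEmbedding_subtypeVal.quasiSober
  refine le_of_le_of_eq ?_ (Nat.cast_zero (R := WithBot ℕ∞))
  refine Groth.Agent.Unibranch.topologicalKrullDim_le_natCast fun l c hc => ?_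
  have h1 := Groth.Agent.Unibranch.natCast_le_topologicalKrullDim
    (Fin.cons ξ fun i => (c i).1) fun i => by
      refine Fin.cases ?_ (fun j => ?_) i
      · refine ⟨specializes_iff_mem_closure.2 (hsub (c 0).2), fun h => hne ?_⟩
        simp only [Fin.castSucc_zero, Fin.cons_zero, Fin.cons_succ] at h
        exact h ▸ (c 0).2
      · simp only [← Fin.succ_castSucc, Fin.cons_succ]
        exact ⟨(subtype_specializes_iff _ _).mp (hc j).1, fun h => (hc j).2 (Subtype.ext h)⟩
  have h2 := h1.trans hdim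
  exact Nat.succ_le_succ_iff.mp (CartierDim.natCast_le_withBot.mp (h2.trans_eq Nat.cast_one.symm))

variable (k : Type u) [Field k] [X.Over (Spec (CommRingCat.of k))] [IsProper (X ↘ Spec (CommRingCat.of k))]

include hξ' in
/-- with a generator at `ξ`, `t` carries `H¹` onto the classes supported near `ξ` -/
theorem surjective_h1_κ (hdim : topologicalKrullDim X ≤ 1) (hG : Coh.IsCoh G)
    (hc : (D : Set X) ⊆ (D' : Set X) ∪ closure {ξ}) (hξ : ξ ∉ (D' : Set X)) (hu : UnitAt j t ξ) :
    Function.Surjective (hhMap k (κ hL j t D' h) 1) := by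
  haveI := CurveRR.isNoetherian_of_proper k X
  have hM : ∀ E : Closeds X, Coh.IsCoh (M E L) := fun E => CurveRR.isCoh_tensor' (CurveRR.isCoh_idealMod (vI E)).2 (CurveRR.isCoh_of_inv hL)
  have hK : Coh.IsCoh (K j D' h) := Groth.Agent.QC.isCoh_kernel hG (hM D').1 _
  have hP : Coh.IsCoh (kernel (r D D' h)) :=
    Groth.Agent.QC.isCoh_kernel (CurveRR.isCoh_idealMod (vI D)).2 (CurveRR.isCoh_idealMod (vI D')).2.1 _
  have hC : Coh.IsCoh (cokernel (κ hL j t D' h)) := Groth.Agent.QC.isCoh_cokernel hP.1 hK _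
  have hcl := Groth.Agent.QC.isClosed_support hC.2
  have hsurj : ∀ x, (x = ξ ∨ x ∉ closure ({ξ} : Set X)) → Function.Surjective (stalkHom (κ hL j t D' h) x) := by
    rintro x (rfl | hx)
    · exact surjective_stalk_κ_unit hL j t D' h hξ hu
    · intro m
      obtain ⟨W, hxW, s, rfl⟩ := (K j D' h).presheaf.exists_germ_eq (x := x) m
      refine ⟨0, ?_⟩
      let W' : X.Opens := W ⊓ ⟨(closure {ξ})ᶜ, isClosed_closure.isOpen_compl⟩
      have h0 : res (K j D' h) (inf_le_left : W' ≤ W) s = 0 :=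
        K_eq_zero hL j D' h (closure_le hξ') hc _ fun y hy hyW => hyW.2 hy
      rw [map_zero]
      refine Eq.trans ?_ (mgerm_res (K j D' h) (inf_le_left : W' ≤ W) (show x ∈ W' from ⟨hxW, hx⟩) s)
      rw [h0, map_zero]
  refine CurveRR.h1_surjective hdim _ hcl (dim_le_zero_of_notMem (ξ := ξ) hdim hcl (fun x hx => ?_) ?_) le_rfl
  · by_contra hx'
    exact CurveRR.notMem_support_coker _ x (hsurj x (Or.inr hx')) hx
  · exact CurveRR.notMem_support_coker _ ξ (hsurj ξ (Or.inl rfl))

end Groth.Agent.DualGeneric.Sub
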