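import Groth.Agent.DualGeneric.SubB
import Groth.Agent.NegTwist.H1

/-!
`h⁰ ≤ h¹(O_D)` for subsheaves of a line bundle on a reduced curve with classes on every component.
-/

set_option autoImplicit false
set_option backward.isDefEq.respectTransparency false
set_option backward.isDefEq.respectTransparency.types false
set_option linter.style.haveILetI false
set_option maxHeartbeats 1000000

universe u

open CategoryTheory CategoryTheory.Limits AlgebraicGeometry TopologicalSpace Opposite
open Groth.Agent.CohFinite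
open Groth.Agent.QC (res resO res_res res_self res_smul resO_resO resO_self section_eq_of_locally app_res)
open TMul (IsGen homOf val_homOf tm)

noncomputable section

namespace Groth.Agent.DualGeneric.Sub

variable {X : Scheme.{u}}

theorem hhMap_zero {M N : X.Modules} (k : Type u) [Field k] [X.Over (Spec (CommRingCat.of k))] (q : ℕ)
    (x : Coh.HH X M q) : hhMap k (0 : M ⟶ N) q x = 0 := by
  have h := NegTwist.hhMap_add k (0 : M ⟶ N) 0 q x
  rw [add_zero] at h
  exact left_eq_add.mp h

/-- union of the closures of finitely many points -/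
def clo (S : Finset X) : Closeds X :=
  ⟨⋃ ξ ∈ S, closure {ξ}, isClosed_biUnion_finset fun _ _ => isClosed_closure⟩

theorem mem_clo {S : Finset X} {x : X} : x ∈ (clo S : Set X) ↔ ∃ ξ ∈ S, x ∈ closure ({ξ} : Set X) := by
  simp [clo]

theorem clo_mono {S T : Finset X} (h : S ⊆ T) : clo S ≤ clo T := fun x hx => by
  obtain ⟨ξ, hξ, hx⟩ := mem_clo.1 hx
  exact mem_clo.2 ⟨ξ, h hξ, hx⟩

theorem self_mem_clo {S : Finset X} {ξ : X} (h : ξ ∈ S) : ξ ∈ (clo S : Set X) :=
  mem_clo.2 ⟨ξ, h, subset_closure rfl⟩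

/-- no point specializes to another -/
def Indep (S : Finset X) : Prop := ∀ ξ ∈ S, ∀ η ∈ S, ξ ∈ closure ({η} : Set X) → ξ = η

variable [DecidableEq X]

theorem clo_subset_erase {S : Finset X} (ξ : X) :
    (clo S : Set X) ⊆ (clo (S.erase ξ) : Set X) ∪ closure {ξ} := fun x hx => by
  obtain ⟨η, hη, hx⟩ := mem_clo.1 hx
  by_cases h : η = ξ
  · exact Or.inr (h ▸ hx)
  · exact Or.inl (mem_clo.2 ⟨η, Finset.mem_erase.2 ⟨h, hη⟩, hx⟩)

theorem notMem_clo_erase {S : Finset X} (hS : Indep S) {ξ : X} (hξ : ξ ∈ S) :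
    ξ ∉ (clo (S.erase ξ) : Set X) := fun h => by
  obtain ⟨η, hη, hx⟩ := mem_clo.1 h
  exact (Finset.mem_erase.1 hη).1 (hS ξ hξ η (Finset.mem_erase.1 hη).2 hx).symm

variable {L : X.Modules} (hL : PicF.IsInvertible L) {S : Finset X} {G : X.Modules} (j : G ⟶ M (clo S) L) [Mono j]

include hL in
omit [DecidableEq X] in
/-- a section with no generator at the points of `S` vanishes -/
theorem exists_unitAt {s : Γ(G, ⊤)} (hs : s ≠ 0) : ∃ ξ ∈ S, UnitAt j (homOf s) ξ := by
  by_contra! hno
  refine hs (Groth.Agent.QC.app_injective_of_mono j ⊤ ?_)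
  rw [map_zero]
  refine section_eq_of_locally fun x hx => ?_
  obtain ⟨V, hV, g, a, hxV, hg, ha⟩ := exists_pres hL (clo S) (j.app ⊤ s) hx
  refine ⟨V, hV, hxV, ?_⟩
  rw [ha, map_zero]
  refine (tm_q_eq_zero_iff _ a hg).2 fun y hy hya => ?_
  obtain ⟨ξ, hξ, hyξ⟩ := mem_clo.1 hy
  exact hno ξ hξ ⟨V, g, a, hg, (specializes_iff_mem_closure.2 hyξ).mem_open (X.basicOpen a).2 hya,
    by rw [val_homOf, ← app_res]; exact ha⟩

variable (k : Type u) [Field k] [X.Over (Spec (CommRingCat.of k))] [IsProper (X ↘ Spec (CommRingCat.of k))]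

omit [DecidableEq X] in
theorem surjective_h1_q (hdim : topologicalKrullDim X ≤ 1) (D : Closeds X) : Function.Surjective (hhMap k (q D) 1) :=
  @CurveRR.surjective_h1 k _ X _ _ hdim
    (ShortComplex.mk (ClSub.idealModι (vI D)) (q D) (kernel.condition _)) (CurveRR.ideal_shortExact (vI D))

omit [DecidableEq X] in
theorem hhMap_tb (s : Γ(G, ⊤)) (x : Coh.HH X (Coh.structureModule X) 1) :
    hhMap k (tb hL (clo S) j (homOf s)) 1 (hhMap k (q (clo S)) 1 x) = hhMap k (homOf s) 1 x := by
  rw [← hhMap_comp, q_tb]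

/-- the pairing of sections with classes -/
def pair (hdim : topologicalKrullDim X ≤ 1) (lam : Module.Dual k (Coh.HH X G 1)) :
    letI := CurveRR.secMod k G ⊤
    Γ(G, ⊤) →ₗ[k] Module.Dual k (Coh.HH X (A (clo S)) 1) :=
  letI := CurveRR.secMod k G ⊤
  { toFun := fun s => lam.comp (hhMap k (tb hL (clo S) j (homOf s)) 1)
    map_add' := fun s t => LinearMap.ext fun y => by
      obtain ⟨x, rfl⟩ := surjective_h1_q k hdim (clo S) y
      simp only [LinearMap.add_apply, LinearMap.comp_apply, hhMap_tb]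
      rw [← map_add lam]
      refine congrArg lam ?_
      show Sheaf.H.map (toAbMap (homOf (s + t))) 1 x =
        Sheaf.H.map (toAbMap (homOf s)) 1 x + Sheaf.H.map (toAbMap (homOf t)) 1 x
      rw [← Sheaf.H.map_add_apply]
      refine congrArg (fun f => Sheaf.H.map f 1 x) ?_
      rw [← Functor.map_add]
      refine congrArg toAbMap (TMul.hom_ext_val ?_)
      show TMul.val (homOf (s + t)) ⊤ = TMul.val (homOf s) ⊤ + TMul.val (homOf t) ⊤
      rw [val_homOf, val_homOf, val_homOf, map_add]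
    map_smul' := fun a t => LinearMap.ext fun y => by
      obtain ⟨x, rfl⟩ := surjective_h1_q k hdim (clo S) y
      simp only [RingHom.id_apply, LinearMap.smul_apply, LinearMap.comp_apply, hhMap_tb]
      rw [← map_smul lam]
      refine congrArg lam ?_
      show Sheaf.H.map (toAbMap (homOf (CurveRR.cst k X ⊤ a • t))) 1 x = a • Sheaf.H.map (toAbMap (homOf t)) 1 x
      rw [CurveRR.toAbMap_homOf_smul, Sheaf.H.map_comp_apply]
      rfl }

theorem pair_apply (hdim : topologicalKrullDim X ≤ 1) (lam : Module.Dual k (Coh.HH X G 1)) (s : Γ(G, ⊤))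
    (D' : Closeds X) (h : D' ≤ clo S) (v : Coh.HH X (kernel (r (clo S) D' h)) 1) :
    pair hL j k hdim lam s (hhMap k (kernel.ι (r (clo S) D' h)) 1 v) =
      lam (hhMap k (kernel.ι (j ≫ rL (clo S) D' h L)) 1 (hhMap k (κ hL j (homOf s) D' h) 1 v)) := by
  show lam (hhMap k (tb hL (clo S) j (homOf s)) 1 (hhMap k (kernel.ι (r (clo S) D' h)) 1 v)) = _
  rw [← hhMap_comp, ← hhMap_comp, κ_ι]

include hL in
/-- the bound -/
theorem h0_le_h1 (hdim : topologicalKrullDim X ≤ 1) (hG : Coh.IsCoh G) (hS : Indep S)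
    (hne : ∀ ξ ∈ S, hhMap k (kernel.ι (j ≫ rL (clo S) (clo (S.erase ξ)) (clo_mono (S.erase_subset ξ)) L)) 1 ≠ 0) :
    CurveRR.h k G 0 ≤ CurveRR.h k (A (clo S)) 1 := by
  classical
  haveI := CurveRR.isNoetherian_of_proper k X
  haveI := finite_proper k X _ hG 1
  haveI := finite_proper k X _ hG 0
  haveI := finite_proper k X _ (CurveRR.isCoh_idealMod (vI (clo S))).2 1
  letI := CurveRR.secMod k G ⊤
  haveI : Module.Finite k Γ(G, ⊤) := Module.Finite.equiv (CurveRR.secH0 (k := k) G).symm
  let m := Module.finrank k (Coh.HH X G 1)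
  let bas : Module.Basis (Fin m) k (Coh.HH X G 1) := Module.finBasis k _
  let lam : Fin m → Module.Dual k (Coh.HH X G 1) := fun i => bas.coord i
  let g := CurveRR.h k (A (clo S)) 1
  let N := g * m + 1
  let Φ : (Fin N → Γ(G, ⊤)) →ₗ[k] (Fin (N + m) → Module.Dual k (Coh.HH X (A (clo S)) 1)) :=
    ∑ i : Fin N, ∑ l : Fin m,
      (LinearMap.single k (fun _ : Fin (N + m) => Module.Dual k (Coh.HH X (A (clo S)) 1))
        (⟨i.1 + l.1, by omega⟩ : Fin (N + m))).comp ((pair hL j k hdim (lam l)).comp (LinearMap.proj i))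
  have hΦ : Function.Injective Φ := (injective_iff_map_eq_zero Φ).2 fun f hf => by
    by_contra hf0
    obtain ⟨i, hi⟩ := Function.ne_iff.1 hf0
    obtain ⟨ξ, hξ, hu⟩ := exists_unitAt hL j (s := f i) hi
    let D' := clo (S.erase ξ)
    have hD' : D' ≤ clo S := clo_mono (S.erase_subset ξ)
    let ιK := kernel.ι (j ≫ rL (clo S) D' hD' L)
    let I := Finset.univ.filter fun i : Fin N => UnitAt j (homOf (f i)) ξ
    have hI : I.Nonempty := ⟨i, Finset.mem_filter.2 ⟨Finset.mem_univ _, hu⟩⟩
    let J := Finset.univ.filter fun l : Fin m => ∃ w, lam l (hhMap k ιK 1 w) ≠ 0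
    have hJ : J.Nonempty := by
      obtain ⟨w, hw⟩ : ∃ w, hhMap k ιK 1 w ≠ 0 := by
        by_contra! h
        exact hne ξ hξ (LinearMap.ext h)
      obtain ⟨l, hl⟩ : ∃ l, bas.coord l (hhMap k ιK 1 w) ≠ 0 := by
        by_contra! h
        exact hw (bas.forall_coord_eq_zero_iff.1 h)
      exact ⟨l, Finset.mem_filter.2 ⟨Finset.mem_univ _, w, hl⟩⟩
    let i₀ := I.max' hI
    let l₀ := J.max' hJ
    obtain ⟨w, hw⟩ := (Finset.mem_filter.1 (J.max'_mem hJ)).2
    obtain ⟨v, hv⟩ := surjective_h1_κ hL j (homOf (f i₀)) D' hD' (self_mem_clo hξ) k hdim hG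
      (clo_subset_erase ξ) (notMem_clo_erase hS hξ) (Finset.mem_filter.1 (I.max'_mem hI)).2 w
    have h1 := LinearMap.congr_fun (congrFun hf (⟨i₀.1 + l₀.1, by omega⟩ : Fin (N + m)))
      (hhMap k (kernel.ι (r (clo S) D' hD')) 1 v)
    simp only [Φ, LinearMap.coe_sum, Finset.sum_apply, LinearMap.comp_apply, LinearMap.proj_apply,
      Pi.zero_apply, LinearMap.zero_apply, LinearMap.coe_single] at h1
    rw [Finset.sum_eq_single i₀, Finset.sum_eq_single l₀, Pi.single_eq_same, pair_apply, hv] at h1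
    · exact hw h1
    · intro l _ hl
      rw [Pi.single_eq_of_ne (fun e => hl (Fin.ext (by have := congrArg Fin.val e; simp at this; omega)))]
      rfl
    · exact fun h => absurd (Finset.mem_univ _) h
    · intro i' _ hi'
      refine Finset.sum_eq_zero fun l _ => ?_
      by_cases he : i'.1 + l.1 = i₀.1 + l₀.1
      · rw [show (⟨i'.1 + l.1, by omega⟩ : Fin (N + m)) = ⟨i₀.1 + l₀.1, by omega⟩ from Fin.ext he, Pi.single_eq_same]
        rcases lt_or_gt_of_ne (fun e => hi' (Fin.ext e) : i'.1 ≠ i₀.1) with hlt | hgt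
        · rw [pair_apply]
          by_contra hne'
          have := Finset.le_max' J l (Finset.mem_filter.2 ⟨Finset.mem_univ _, _, hne'⟩)
          have : l.1 ≤ l₀.1 := this
          omega
        · have hnu : ¬ UnitAt j (homOf (f i')) ξ := fun h => by
            have := Finset.le_max' I i' (Finset.mem_filter.2 ⟨Finset.mem_univ _, h⟩)
            have : i'.1 ≤ i₀.1 := this
            omega
          show lam l (hhMap k (tb hL (clo S) j (homOf (f i'))) 1 (hhMap k (kernel.ι (r (clo S) D' hD')) 1 v)) = 0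
          rw [← hhMap_comp, kerι_tb_eq_zero hL j _ D' hD' (self_mem_clo hξ) (clo_subset_erase ξ) hnu]
          rw [hhMap_zero, map_zero]
      · rw [Pi.single_eq_of_ne (fun e => he (congrArg Fin.val e).symm)]
        rfl
    · exact fun h => absurd (Finset.mem_univ _) h
  have hle := LinearMap.finrank_le_finrank_of_injective hΦ
  rw [Module.finrank_pi_fintype, Module.finrank_pi_fintype, Finset.sum_const, Finset.sum_const,
    Finset.card_univ, Finset.card_univ, Fintype.card_fin, Fintype.card_fin, smul_eq_mul, smul_eq_mul,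
    CurveRR.finrank_sec, Subspace.dual_finrank_eq] at hle
  change N * CurveRR.h k G 0 ≤ (N + m) * g at hle
  show CurveRR.h k G 0 ≤ g
  by_contra hlt
  have h2 : N * (g + 1) ≤ N * CurveRR.h k G 0 := Nat.mul_le_mul_left N (by omega)
  have h3 := h2.trans hle
  simp only [N] at h3
  nlinarith

end Groth.Agent.DualGeneric.Sub
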