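import Groth.Agent.DualGeneric.SubC

/-!
The subsheaves `I_Z L` on reduced subcurves: exact sequences, Euler characteristics, splitting.
-/

set_option autoImplicit false
set_option backward.isDefEq.respectTransparency false
set_option backward.isDefEq.respectTransparency.types false
set_option linter.style.haveILetI false
set_option maxHeartbeats 1000000

universe u

open CategoryTheory CategoryTheory.Limits AlgebraicGeometry TopologicalSpace Opposite
open Groth.Agent.CohFinite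
open Groth.Agent.QC (res resO res_res res_self res_smul resO_resO resO_self section_eq_of_locally app_res)
open Groth.Agent.WeakAssLib (mgerm mgerm_res stalkHom stalkHom_germ)
open TMul (IsGen homOf val_homOf tm)

noncomputable section

namespace Groth.Agent.DualGeneric.Sub

variable {X : Scheme.{u}}

/-- epimorphisms lift locally -/
theorem exists_lift_epi {P Q : X.Modules} (f : P ⟶ Q) [Epi f] {W : X.Opens} (t : Γ(Q, W)) {x : X} (hx : x ∈ W) :
    ∃ (V : X.Opens) (h : V ≤ W) (s : Γ(P, V)), x ∈ V ∧ f.app V s = res Q h t := by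
  obtain ⟨w, hw⟩ := (ModuleCat.epi_iff_surjective _).1
    (inferInstance : Epi ((DerSch.stalkFunctor X x).map f)) (mgerm _ hx t)
  change stalkHom f x w = _ at hw
  obtain ⟨U, hxU, s, rfl⟩ := P.presheaf.exists_germ_eq (x := x) w
  obtain ⟨V, hxV, i, i', hV⟩ := TopCat.Presheaf.germ_eq Q.presheaf x hxU hx (f.app U s) t
    ((stalkHom_germ f hxU s).symm.trans hw)
  exact ⟨V, leOfHom i', res P (leOfHom i) s, hxV, (app_res f (leOfHom i) s).symm.trans hV⟩

/-- two quotients with disjoint supports -/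
theorem isIso_kerι_comp {P P₁ P₂ : X.Modules} (a : P ⟶ P₁) (b : P ⟶ P₂) [Epi b] (D₁ D₂ : Closeds X)
    (hd : ∀ x, x ∈ (D₁ : Set X) → x ∉ (D₂ : Set X)) (h₁ : CurveRR.SuppIn P₁ D₁) (h₂ : CurveRR.SuppIn P₂ D₂)
    (hinj : ∀ (W : X.Opens) (s : Γ(P, W)), a.app W s = 0 → b.app W s = 0 → s = 0) :
    IsIso (kernel.ι a ≫ b) := by
  haveI : Mono (kernel.ι a ≫ b) := (Groth.Agent.QC.mono_iff_app_injective _).2 fun W =>
    (injective_iff_map_eq_zero _).2 fun s hs =>
      Groth.Agent.QC.app_injective_of_mono (kernel.ι a) W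
        ((hinj W _ (kernel_app a s) hs).trans (map_zero _).symm)
  haveI : Epi (kernel.ι a ≫ b) := InvGen.epi_of_locally _ fun U t x hx => by
    by_cases hx2 : x ∈ (D₂ : Set X)
    · obtain ⟨V, hV, s, hxV, hs⟩ := exists_lift_epi b t hx
      let V' : X.Opens := V ⊓ ⟨(D₁ : Set X)ᶜ, D₁.isClosed.isOpen_compl⟩
      obtain ⟨z, hz⟩ := exists_app_kernel a (W := V') (res P inf_le_left s) (h₁ V' _ fun y hy => hy.2)
      refine ⟨V', inf_le_left.trans hV, ⟨hxV, fun h => hd x h hx2⟩, z, ?_⟩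
      show b.app V' ((kernel.ι a).app V' z) = res P₂ (inf_le_left.trans hV) t
      rw [hz, ← app_res, hs, res_res]
    · let V' : X.Opens := U ⊓ ⟨(D₂ : Set X)ᶜ, D₂.isClosed.isOpen_compl⟩
      refine ⟨V', inf_le_left, ⟨hx, hx2⟩, 0, ?_⟩
      rw [map_zero]
      exact (h₂ V' _ fun y hy => hy.2).symm
  exact isIso_of_mono_of_epi _

theorem suppIn_A (D : Closeds X) : CurveRR.SuppIn (A D) D := CurveRR.suppIn_of_subset (by
  refine (CurveRR.support_quotMod _).trans ?_
  rw [Scheme.IdealSheafData.coe_support_vanishingIdeal])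

theorem suppIn_M (D : Closeds X) (L : X.Modules) : CurveRR.SuppIn (M D L) D := CurveRR.suppIn_tensor (suppIn_A D) L

instance epi_r (D D' : Closeds X) (h : D' ≤ D) : Epi (r D D' h) := epi_of_epi_fac (q_r D D' h)

/-- inclusion of ideals -/
theorem idealι_toSubscheme {I W : X.IdealSheafData} (h : I ≤ W) : ClSub.idealModι I ≫ ClSub.toSubscheme W = 0 := by
  refine Scheme.Modules.hom_ext _ _ fun U => ?_
  ext s
  show (ClSub.toSubscheme W).app U ((ClSub.idealModι I).app U s) = 0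
  refine section_eq_of_locally fun x hx => ?_
  obtain ⟨V, hV, hxV, hVU⟩ := exists_isAffineOpen_mem_and_subset hx
  refine ⟨V, hVU, hxV, ?_⟩
  rw [map_zero, app_res, app_res]
  obtain ⟨m, hm⟩ := (Groth.Agent.QC.mem_range_idealModι_affine W ⟨V, hV⟩ _).2
    (h ⟨V, hV⟩ ((Groth.Agent.QC.mem_range_idealModι_affine I ⟨V, hV⟩ _).1 ⟨res (ClSub.idealMod I) hVU s, rfl⟩))
  exact (congrArg ((ClSub.toSubscheme W).app V) hm.symm).trans (kernel_app (ClSub.toSubscheme W) m)

variable (Z : X.IdealSheafData) (L : X.Modules)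

/-- `I_Z → O_D` -/
abbrev f (D : Closeds X) : ClSub.idealMod Z ⟶ A D := ClSub.idealModι Z ≫ q D

/-- the ideal of `Z ∩ D` in `O_D` -/
abbrev N (D : Closeds X) : X.Modules := Abelian.image (f Z D)

theorem image_condition (D D' : Closeds X) (h : D' ≤ D) :
    (Abelian.image.ι (f Z D) ≫ r D D' h) ≫ cokernel.π (f Z D') = 0 := by
  rw [← cancel_epi (Abelian.factorThruImage (f Z D)), comp_zero]
  simp only [← Category.assoc]
  rw [Abelian.image.fac, Category.assoc (ClSub.idealModι Z) (q D), q_r]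
  exact cokernel.condition _

/-- restriction of the ideal -/
def qN (D D' : Closeds X) (h : D' ≤ D) : N Z D ⟶ N Z D' := kernel.lift _ _ (image_condition Z D D' h)

theorem qN_ι (D D' : Closeds X) (h : D' ≤ D) :
    qN Z D D' h ≫ Abelian.image.ι (f Z D') = Abelian.image.ι (f Z D) ≫ r D D' h :=
  kernel.lift_ι _ _ _

theorem fac_qN (D D' : Closeds X) (h : D' ≤ D) :
    Abelian.factorThruImage (f Z D) ≫ qN Z D D' h = Abelian.factorThruImage (f Z D') := by
  rw [← cancel_mono (Abelian.image.ι (f Z D')), Category.assoc, qN_ι, ← Category.assoc, Abelian.image.fac,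
    Abelian.image.fac, Category.assoc, q_r]

/-- `I_{Z∩D} L` -/
abbrev G (D : Closeds X) : X.Modules := CohB1.tensorMod (N Z D) L

/-- the inclusion in `O_D ⊗ L` -/
abbrev jG (D : Closeds X) : G Z L D ⟶ M D L := tmap (Abelian.image.ι (f Z D)) L

/-- restriction -/
abbrev qG (D D' : Closeds X) (h : D' ≤ D) : G Z L D ⟶ G Z L D' := tmap (qN Z D D' h) L

theorem qG_jG (D D' : Closeds X) (h : D' ≤ D) : qG Z L D D' h ≫ jG Z L D' = jG Z L D ≫ rL D D' h L := by
  rw [← tmap_comp, qN_ι, tmap_comp]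

variable {L} (hL : PicF.IsInvertible L)

include hL in
theorem mono_jG (D : Closeds X) : Mono (jG Z L D) :=
  (shortExact_tmap hL (CurveRR.shortExact_ker (cokernel.π (f Z D)))).mono_f

include hL in
theorem epi_qG (D D' : Closeds X) (h : D' ≤ D) : Epi (qG Z L D D' h) := by
  haveI : Epi (qN Z D D' h) := epi_of_epi_fac (fac_qN Z D D' h)
  exact (shortExact_tmap hL (CurveRR.shortExact_ker (qN Z D D' h))).epi_g

include hL in
theorem suppIn_G (D : Closeds X) : CurveRR.SuppIn (G Z L D) D := fun W s hW => by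
  haveI := mono_jG Z hL D
  exact Groth.Agent.QC.app_injective_of_mono (jG Z L D) W ((suppIn_M D L W _ hW).trans (map_zero _).symm)

include hL in
theorem shortExact_K (D D' : Closeds X) (h : D' ≤ D) :
    ∃ w, (ShortComplex.mk (kernel.ι (jG Z L D ≫ rL D D' h L)) (qG Z L D D' h) w).ShortExact := by
  haveI := mono_jG Z hL D'
  haveI := epi_qG Z hL D D' h
  have w : kernel.ι (jG Z L D ≫ rL D D' h L) ≫ qG Z L D D' h = 0 := by
    rw [← cancel_mono (jG Z L D'), Category.assoc, qG_jG, kernel.condition, zero_comp]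
  let S₁ := ShortComplex.mk _ _ w
  let S₂ := ShortComplex.mk (kernel.ι (jG Z L D ≫ rL D D' h L)) (jG Z L D ≫ rL D D' h L) (kernel.condition _)
  let φ : S₁ ⟶ S₂ := { τ₁ := 𝟙 _, τ₂ := 𝟙 _, τ₃ := jG Z L D', comm₁₂ := by simp [S₁, S₂], comm₂₃ := by simp [S₁, S₂, qG_jG] }
  haveI : Epi φ.τ₁ := inferInstanceAs (Epi (𝟙 _))
  haveI : IsIso φ.τ₂ := inferInstanceAs (IsIso (𝟙 _))
  haveI : Mono φ.τ₃ := ‹Mono (jG Z L D')›
  exact ⟨w, { exact := (ShortComplex.exact_iff_of_epi_of_isIso_of_mono φ).2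
                (ShortComplex.exact_of_f_is_kernel _ (kernelIsKernel _))
              mono_f := inferInstanceAs (Mono (kernel.ι _))
              epi_g := ‹Epi (qG Z L D D' h)› }⟩

/-- `O_D → O_W` -/
def p (D : Closeds X) (W : X.IdealSheafData) (h : vI D ≤ W) : A D ⟶ ClSub.quotMod W :=
  (CokernelCofork.IsColimit.desc' (CurveRR.ideal_shortExact (vI D)).gIsCokernel (ClSub.toSubscheme W)
    (idealι_toSubscheme h)).1

theorem q_p (D : Closeds X) (W : X.IdealSheafData) (h : vI D ≤ W) : q D ≫ p D W h = ClSub.toSubscheme W :=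
  (CokernelCofork.IsColimit.desc' (CurveRR.ideal_shortExact (vI D)).gIsCokernel (ClSub.toSubscheme W)
    (idealι_toSubscheme h)).2

theorem shortExact_N (D : Closeds X) (W : X.IdealSheafData) (hW : W = Z ⊔ vI D) :
    ∃ w, (ShortComplex.mk (Abelian.image.ι (f Z D)) (p D W (hW ▸ le_sup_right)) w).ShortExact := by
  have hle : vI D ≤ W := hW ▸ le_sup_right
  have w₀ : f Z D ≫ p D W hle = 0 := by
    rw [Category.assoc, q_p]
    exact idealι_toSubscheme (hW ▸ le_sup_left)
  haveI hp : Epi (p D W hle) := epi_of_epi_fac (q_p D W hle)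
  have w : Abelian.image.ι (f Z D) ≫ p D W hle = 0 := by
    rw [← cancel_epi (Abelian.factorThruImage (f Z D)), comp_zero, ← Category.assoc, Abelian.image.fac, w₀]
  let S₁ := ShortComplex.mk _ _ w₀
  let S₂ := ShortComplex.mk _ _ w
  haveI : Epi (kernel.lift (p D W hle) (f Z D) w₀) := InvGen.epi_of_locally _ fun U z x hx => by
    obtain ⟨V₀, hV₀, a₀, hxV₀, ha₀⟩ := exists_lift D ((kernel.ι (p D W hle)).app U z) hx
    obtain ⟨V, hV, hxV, hVV⟩ := exists_isAffineOpen_mem_and_subset hxV₀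
    have hVU : V ≤ U := le_trans hVV hV₀
    refine ⟨V, hVU, hxV, ?_⟩
    let a : Γ(X, V) := resO X hVV a₀
    have ha : (q D).app V a = res (A D) hVU ((kernel.ι (p D W hle)).app U z) := by
      rw [← res_res (A D) hVV hV₀, ← ha₀, app_res]
      rfl
    have h0 : (ClSub.toSubscheme W).app V a = 0 := by
      rw [← q_p D W hle, app_comp, ha, ← app_res, kernel_app, map_zero]
    obtain ⟨m, hm⟩ := exists_app_kernel (ClSub.toSubscheme W) a h0
    have hmem := (Groth.Agent.QC.mem_range_idealModι_affine W ⟨V, hV⟩ a).1 ⟨m, hm⟩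
    rw [hW, Scheme.IdealSheafData.ideal_sup] at hmem
    obtain ⟨z₀, hz₀, b, hb, hab⟩ := Submodule.mem_sup.1 hmem
    obtain ⟨mz, hmz⟩ := (Groth.Agent.QC.mem_range_idealModι_affine Z ⟨V, hV⟩ z₀).2 hz₀
    obtain ⟨mb, hmb⟩ := (Groth.Agent.QC.mem_range_idealModι_affine (vI D) ⟨V, hV⟩ b).2 hb
    refine ⟨mz, Groth.Agent.QC.app_injective_of_mono (kernel.ι (p D W hle)) V ?_⟩
    rw [← app_comp (kernel.lift _ _ w₀), kernel.lift_ι, ← app_res, ← ha, ← hab, app_comp, hmz]
    show (q D).app V z₀ = (q D).app V (z₀ + b)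
    rw [map_add, ← hmb]
    exact (add_eq_left.2 (kernel_app (ClSub.toSubscheme (vI D)) mb)).symm
  have h1 : S₁.Exact := (ShortComplex.exact_iff_epi_kernel_lift S₁).2 (by assumption)
  let φ : S₁ ⟶ S₂ := { τ₁ := Abelian.factorThruImage (f Z D), τ₂ := 𝟙 _, τ₃ := 𝟙 _, comm₁₂ := by simp [S₁, S₂], comm₂₃ := by simp [S₁, S₂] }
  haveI : Epi φ.τ₁ := inferInstanceAs (Epi (Abelian.factorThruImage (f Z D)))
  haveI : IsIso φ.τ₂ := inferInstanceAs (IsIso (𝟙 _))
  haveI : Mono φ.τ₃ := inferInstanceAs (Mono (𝟙 _))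
  exact ⟨w, { exact := (ShortComplex.exact_iff_of_epi_of_isIso_of_mono φ).1 h1
              mono_f := inferInstanceAs (Mono (Abelian.image.ι (f Z D)))
              epi_g := hp }⟩

include hL in
/-- the sequence `0 → I_{Z∩D} L → L_D → L_{Z∩D} → 0` -/
theorem shortExact_G (D : Closeds X) :
    ∃ w, (ShortComplex.mk (jG Z L D) (tmap (p D (Z ⊔ vI D) le_sup_right) L) w).ShortExact := by
  obtain ⟨w, hS⟩ := shortExact_N Z D (Z ⊔ vI D) rfl
  exact ⟨(by rw [← tmap_comp, w, tmap_zero]),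
    @shortExact_tmap X L hL (ShortComplex.mk (Abelian.image.ι (f Z D)) (p D (Z ⊔ vI D) le_sup_right) w) hS⟩

variable (k : Type u) [Field k] [X.Over (Spec (CommRingCat.of k))] [IsProper (X ↘ Spec (CommRingCat.of k))]

include k hL in
theorem isCoh_M (D : Closeds X) : Coh.IsCoh (M D L) := by
  haveI := CurveRR.isNoetherian_of_proper k X
  exact CurveRR.isCoh_tensor' (CurveRR.isCoh_idealMod (vI D)).2 (CurveRR.isCoh_of_inv hL)

include k hL in
theorem isCoh_G (D : Closeds X) : Coh.IsCoh (G Z L D) := by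
  haveI := CurveRR.isNoetherian_of_proper k X
  have hA := (CurveRR.isCoh_idealMod (vI D)).2
  exact CurveRR.isCoh_tensor' (Groth.Agent.QC.isCoh_kernel hA
    (Groth.Agent.QC.isCoh_cokernel (CurveRR.isCoh_idealMod Z).1.1 hA _).1 _) (CurveRR.isCoh_of_inv hL)

include hL in
/-- the skyscraper `L_{Z∩D}` -/
theorem quot_facts' (D : Closeds X) (hd : topologicalKrullDim ((Z ⊔ vI D).support : Set X) ≤ 0) :
    CurveRR.h k (CohB1.tensorMod (ClSub.quotMod (Z ⊔ vI D)) L) 0 = CurveRR.h k (ClSub.quotMod (Z ⊔ vI D)) 0 ∧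
      ∀ i, 1 ≤ i → Subsingleton (Coh.HH X (CohB1.tensorMod (ClSub.quotMod (Z ⊔ vI D)) L) i) := by
  haveI := CurveRR.isNoetherian_of_proper k X
  obtain ⟨h0, hv⟩ := CurveRR.h0_tensor (k := k) (CurveRR.isCoh_idealMod (Z ⊔ vI D)).2 (Z ⊔ vI D).support.isClosed hd
    (CurveRR.support_quotMod _) (CurveRR.isFinLocFreeOfRank_one hL)
  refine ⟨?_, fun i hi => ?_⟩
  · rw [CurveRR.h_eq_of_iso (TMul.commIso _ _) 0, h0, Nat.one_mul]
  · haveI := hv i hi
    exact (hhEquiv k (TMul.commIso (ClSub.quotMod (Z ⊔ vI D)) L) i).toEquiv.subsingleton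

omit [X.Over (Spec (CommRingCat.of k))] [IsProper (X ↘ Spec (CommRingCat.of k))] in
omit k [Field k] in
theorem dim_sup_le (hZ : topologicalKrullDim (Z.support : Set X) ≤ 0) (D : Closeds X) :
    topologicalKrullDim ((Z ⊔ vI D).support : Set X) ≤ 0 := by
  have hsub : ((Z ⊔ vI D).support : Set X) ⊆ Z.support := by
    rw [Scheme.IdealSheafData.support_sup]
    exact Set.inter_subset_left
  exact ((Topology.IsEmbedding.inclusion hsub).isInducing.topologicalKrullDim_le).trans hZ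

include hL in
theorem quot_facts (hZ : topologicalKrullDim (Z.support : Set X) ≤ 0) (D : Closeds X) :
    CurveRR.h k (CohB1.tensorMod (ClSub.quotMod (Z ⊔ vI D)) L) 0 = CurveRR.h k (ClSub.quotMod (Z ⊔ vI D)) 0 ∧
      ∀ i, 1 ≤ i → Subsingleton (Coh.HH X (CohB1.tensorMod (ClSub.quotMod (Z ⊔ vI D)) L) i) :=
  quot_facts' Z hL k D (dim_sup_le Z hZ D)

include hL in
theorem euler_G' (D : Closeds X) (hd : topologicalKrullDim ((Z ⊔ vI D).support : Set X) ≤ 0) :
    Curv2.euler k X (G Z L D) = Curv2.euler k X (M D L) - CurveRR.h k (ClSub.quotMod (Z ⊔ vI D)) 0 := by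
  haveI := CurveRR.isNoetherian_of_proper k X
  obtain ⟨w, hS⟩ := shortExact_G Z hL D
  obtain ⟨h0, hv⟩ := quot_facts' Z hL k D hd
  have h := CurveRR.euler_add (k := k) hS (isCoh_G Z hL k D) (isCoh_M hL k D)
    (CurveRR.isCoh_tensor' (CurveRR.isCoh_idealMod _).2 (CurveRR.isCoh_of_inv hL))
  dsimp only at h
  rw [CurveRR.euler_eq_h0 hv, h0] at h
  omega

include hL in
theorem euler_G (hZ : topologicalKrullDim (Z.support : Set X) ≤ 0) (D : Closeds X) :
    Curv2.euler k X (G Z L D) = Curv2.euler k X (M D L) - CurveRR.h k (ClSub.quotMod (Z ⊔ vI D)) 0 :=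
  euler_G' Z hL k D (dim_sup_le Z hZ D)

include hL in
/-- `h¹` when the ambient bundle has none -/
theorem h1_G_add_rank (hZ : topologicalKrullDim (Z.support : Set X) ≤ 0) (D : Closeds X)
    (hv1 : Subsingleton (Coh.HH X (M D L) 1)) :
    CurveRR.h k (G Z L D) 1 + Module.finrank k (LinearMap.range (hhMap k (tmap (p D (Z ⊔ vI D) le_sup_right) L) 0)) =
      CurveRR.h k (ClSub.quotMod (Z ⊔ vI D)) 0 := by
  haveI := CurveRR.isNoetherian_of_proper k X
  obtain ⟨w, hS⟩ := shortExact_G Z hL D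
  obtain ⟨h0, -⟩ := quot_facts Z hL k hZ D
  haveI := finite_proper k X _
    (CurveRR.isCoh_tensor' (CurveRR.isCoh_idealMod (Z ⊔ vI D)).2 (CurveRR.isCoh_of_inv hL)) 0
  have e := (hhδ k hS 0).finrank_range_add_finrank_ker
  rw [← CurveRR.range_g_eq_ker_δ hS 0] at e
  have htop : LinearMap.range (hhδ k hS 0) = ⊤ := by
    rw [CurveRR.range_δ_eq_ker_f hS 0]
    exact LinearMap.ker_eq_top.2 (LinearMap.ext fun y => hv1.elim _ _)
  rw [htop, finrank_top] at e
  exact e.trans h0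

end Groth.Agent.DualGeneric.Sub
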