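import Groth.Agent.DualGeneric.SubE
import Groth.Agent.DualGeneric.DivDeg
import Groth.Agent.CurveRR.Point

/-!
Minimal subcurves carrying classes: degree bound, nonspeciality, base point freeness.
-/

set_option autoImplicit false
set_option backward.isDefEq.respectTransparency false
set_option backward.isDefEq.respectTransparency.types false
set_option linter.style.haveILetI false
set_option maxHeartbeats 1000000

universe u

open CategoryTheory CategoryTheory.Limits AlgebraicGeometry TopologicalSpace Opposite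
open Groth.Agent.CohFinite
open Groth.Agent.QC (res resO res_res res_self res_smul resO_resO resO_self section_eq_of_locally app_res)
open TMul (IsGen homOf val_homOf tm)

noncomputable section

namespace Groth.Agent.DualGeneric.Sub

variable (k : Type u) [Field k] {X : Scheme.{u}} [X.Over (Spec (CommRingCat.of k))]
  [IsProper (X ↘ Spec (CommRingCat.of k))] [DecidableEq X]

/-- the degree of `L` on the subcurve -/
abbrev degC (L : X.Modules) (T : Finset X) : ℤ :=
  @Curv2.deg k _ (vI (clo T)).subscheme ⟨(vI (clo T)).subschemeι ≫ (X ↘ Spec (CommRingCat.of k))⟩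
    ((Scheme.Modules.pullback (vI (clo T)).subschemeι).obj L) 1

variable (Z : X.IdealSheafData) {L : X.Modules} (hL : PicF.IsInvertible L)

omit [DecidableEq X] in
include hL in
theorem h1G_empty : CurveRR.h k (G Z L (clo ∅)) 1 = 0 := by
  haveI : Subsingleton (Coh.HH X (G Z L (clo ∅)) 1) := by
    refine subsingleton_of_forall_eq 0 fun x => ?_
    have h0 : 𝟙 (G Z L (clo ∅)) = 0 := by
      refine Scheme.Modules.hom_ext _ _ fun W => ?_
      ext s
      exact suppIn_G Z hL (clo ∅) W s fun y _ hy => by simp [clo] at hy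
    rw [show x = hhMap k (𝟙 (G Z L (clo ∅))) 1 x from (hhMap_id k _ 1 x).symm, h0, hhMap_zero]
  exact CurveRR.h_eq_zero ‹_›

omit [DecidableEq X] in
include hL in
theorem mono_j (D : Closeds X) : Mono (jG Z L D) := mono_jG Z hL D

include hL in
/-- on a minimal subcurve every component carries classes -/
theorem ι_ne_zero (hdim : topologicalKrullDim X ≤ 1) {T : Finset X} {ξ : X}
    (hlt : CurveRR.h k (G Z L (clo (T.erase ξ))) 1 < CurveRR.h k (G Z L (clo T)) 1) :
    hhMap k (kernel.ι (jG Z L (clo T) ≫ rL (clo T) (clo (T.erase ξ)) (clo_mono (T.erase_subset ξ)) L)) 1 ≠ 0 := by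
  intro h0
  obtain ⟨w, hS⟩ := shortExact_K Z hL (clo T) (clo (T.erase ξ)) (clo_mono (T.erase_subset ξ))
  haveI := finite_proper k X _ (isCoh_G Z hL k (clo T)) 1
  haveI := finite_proper k X _ (isCoh_G Z hL k (clo (T.erase ξ))) 1
  have h1 := CurveRR.range_f_eq_ker_g (k := k) hS 1
  dsimp only at h1
  rw [h0, LinearMap.range_zero] at h1
  exact absurd (LinearMap.finrank_le_finrank_of_injective (LinearMap.ker_eq_bot.1 h1.symm)) (not_le.2 hlt)

omit [IsProper (X ↘ Spec (CommRingCat.of k))] [X.Over (Spec (CommRingCat.of k))] in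
omit k [Field k] in
/-- a disconnected subcurve splits -/
theorem exists_split {T : Finset X} (hT : T.Nonempty) (hc : ¬ _root_.IsConnected (clo T : Set X)) :
    ∃ T₁ T₂ : Finset X, T₁ ⊂ T ∧ T₂ ⊂ T ∧ (clo T : Set X) ⊆ (clo T₁ : Set X) ∪ clo T₂ ∧
      ∀ x, x ∈ (clo T₁ : Set X) → x ∉ (clo T₂ : Set X) := by
  classical
  obtain ⟨η, hη⟩ := hT
  have hpre : ¬ _root_.IsPreconnected (clo T : Set X) := fun h => hc ⟨⟨η, self_mem_clo hη⟩, h⟩
  rw [isPreconnected_closed_iff] at hpre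
  push Not at hpre
  obtain ⟨u, v, hu, hv, hsub, hnu, hnv, hdis⟩ := hpre
  have hcl : ∀ ξ ∈ T, closure ({ξ} : Set X) ⊆ u ∨ closure ({ξ} : Set X) ⊆ v := fun ξ hξ => by
    rcases hsub (self_mem_clo hξ) with h | h
    · exact Or.inl (closure_minimal (Set.singleton_subset_iff.2 h) hu)
    · exact Or.inr (closure_minimal (Set.singleton_subset_iff.2 h) hv)
  let T₁ := T.filter fun ξ => ξ ∈ u
  let T₂ := T.filter fun ξ => ξ ∉ u
  have h1u : (clo T₁ : Set X) ⊆ u := fun x hx => by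
    obtain ⟨ξ, hξ, hx⟩ := mem_clo.1 hx
    exact closure_minimal (Set.singleton_subset_iff.2 (Finset.mem_filter.1 hξ).2) hu hx
  have h2v : (clo T₂ : Set X) ⊆ v := fun x hx => by
    obtain ⟨ξ, hξ, hx⟩ := mem_clo.1 hx
    rcases hcl ξ (Finset.mem_filter.1 hξ).1 with h | h
    · exact absurd (h (subset_closure rfl)) (Finset.mem_filter.1 hξ).2
    · exact h hx
  have hcov : (clo T : Set X) ⊆ (clo T₁ : Set X) ∪ clo T₂ := fun x hx => by
    obtain ⟨ξ, hξ, hx⟩ := mem_clo.1 hx
    by_cases h : ξ ∈ u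
    · exact Or.inl (mem_clo.2 ⟨ξ, Finset.mem_filter.2 ⟨hξ, h⟩, hx⟩)
    · exact Or.inr (mem_clo.2 ⟨ξ, Finset.mem_filter.2 ⟨hξ, h⟩, hx⟩)
  have h1 : (clo T₁ : Set X) ⊆ clo T := clo_mono (Finset.filter_subset _ _)
  have h2 : (clo T₂ : Set X) ⊆ clo T := clo_mono (Finset.filter_subset _ _)
  refine ⟨T₁, T₂, (Finset.filter_subset _ _).ssubset_of_ne fun e => ?_,
    (Finset.filter_subset _ _).ssubset_of_ne fun e => ?_, hcov,
    fun x hx1 hx2 => Set.eq_empty_iff_forall_notMem.1 hdis x ⟨h1 hx1, h1u hx1, h2v hx2⟩⟩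
  · obtain ⟨y, hyT, hyv⟩ := hnv
    exact Set.eq_empty_iff_forall_notMem.1 hdis y ⟨hyT, h1u (by rw [show T₁ = T from e]; exact hyT), hyv⟩
  · obtain ⟨y, hyT, hyu⟩ := hnu
    exact Set.eq_empty_iff_forall_notMem.1 hdis y ⟨hyT, hyu, h2v (by rw [show T₂ = T from e]; exact hyT)⟩

omit [DecidableEq X] in
include hL in
/-- classes on a disjoint union -/
theorem h1G_le_of_split {D D₁ D₂ : Closeds X} (h₁ : D₁ ≤ D) (h₂ : D₂ ≤ D)
    (hc : (D : Set X) ⊆ (D₁ : Set X) ∪ D₂) (hd : ∀ x, x ∈ (D₁ : Set X) → x ∉ (D₂ : Set X)) :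
    CurveRR.h k (G Z L D) 1 ≤ CurveRR.h k (G Z L D₁) 1 + CurveRR.h k (G Z L D₂) 1 := by
  haveI := CurveRR.isNoetherian_of_proper k X
  haveI := mono_jG Z hL D
  haveI := epi_qG Z hL D D₂ h₂
  haveI := isIso_kerι_comp (qG Z L D D₁ h₁) (qG Z L D D₂ h₂) D₁ D₂ hd (suppIn_G Z hL D₁) (suppIn_G Z hL D₂)
    fun W s ha hb => by
      refine Groth.Agent.QC.app_injective_of_mono (jG Z L D) W ((eq_zero_of_cover hL h₁ h₂ hc _ ?_ ?_).trans (map_zero _).symm)
      · rw [← app_comp (jG Z L D), ← qG_jG, app_comp, ha, map_zero]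
      · rw [← app_comp (jG Z L D), ← qG_jG, app_comp, hb, map_zero]
  haveI := epi_qG Z hL D D₁ h₁
  have hS := CurveRR.shortExact_ker (qG Z L D D₁ h₁)
  haveI := finite_proper k X _ (isCoh_G Z hL k D) 1
  haveI := finite_proper k X _ (isCoh_G Z hL k D₁) 1
  haveI := finite_proper k X _ (isCoh_G Z hL k D₂) 1
  have e := (hhMap k (qG Z L D D₁ h₁) 1).finrank_range_add_finrank_ker
  have hK : CurveRR.h k (kernel (qG Z L D D₁ h₁)) 1 = CurveRR.h k (G Z L D₂) 1 :=
    CurveRR.h_eq_of_iso (asIso (kernel.ι (qG Z L D D₁ h₁) ≫ qG Z L D D₂ h₂)) 1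
  haveI : Module.Finite k (Coh.HH X (kernel (qG Z L D D₁ h₁)) 1) :=
    Module.Finite.equiv (hhEquiv k (asIso (kernel.ι (qG Z L D D₁ h₁) ≫ qG Z L D D₂ h₂)) 1).symm
  have hr := CurveRR.range_f_eq_ker_g (k := k) hS 1
  dsimp only at hr
  have a1 := (hhMap k (kernel.ι (qG Z L D D₁ h₁)) 1).finrank_range_le
  rw [hr] at a1
  have a2 := Submodule.finrank_le (LinearMap.range (hhMap k (qG Z L D D₁ h₁) 1))
  change _ ≤ CurveRR.h k (kernel (qG Z L D D₁ h₁)) 1 at a1
  rw [hK] at a1
  change _ = CurveRR.h k (G Z L D) 1 at e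
  change _ ≤ CurveRR.h k (G Z L D₁) 1 at a2
  omega

include hL in
/-- a class forces a connected subcurve of small degree -/
theorem exists_deg_le (hdim : topologicalKrullDim X ≤ 1) (hZ : topologicalKrullDim (Z.support : Set X) ≤ 0)
    (S : Finset X) (hS : Indep S) (h1 : CurveRR.h k (G Z L (clo S)) 1 ≠ 0) :
    ∃ T : Finset X, T ⊆ S ∧ T.Nonempty ∧ _root_.IsConnected (clo T : Set X) ∧
      degC k L T + 2 * Curv2.euler k X (A (clo T)) ≤ CurveRR.h k (ClSub.quotMod (Z ⊔ vI (clo T))) 0 := by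
  classical
  induction S using Finset.strongInduction with
  | _ S ih =>
    by_cases hsub : ∃ T, T ⊂ S ∧ CurveRR.h k (G Z L (clo T)) 1 ≠ 0
    · obtain ⟨T, hTS, hT⟩ := hsub
      obtain ⟨U, hU, hrest⟩ := ih T hTS (fun a ha b hb => hS a (hTS.1 ha) b (hTS.1 hb)) hT
      exact ⟨U, hU.trans hTS.1, hrest⟩
    push Not at hsub
    have hne : S.Nonempty := Finset.nonempty_iff_ne_empty.2 fun e => h1 (e ▸ h1G_empty k Z hL)
    have hc : _root_.IsConnected (clo S : Set X) := by
      by_contra hc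
      obtain ⟨T₁, T₂, hT₁, hT₂, hcov, hd⟩ := exists_split hne hc
      have := h1G_le_of_split k Z hL (clo_mono hT₁.1) (clo_mono hT₂.1) hcov hd
      rw [hsub T₁ hT₁, hsub T₂ hT₂] at this
      omega
    refine ⟨S, subset_rfl, hne, hc, ?_⟩
    haveI := mono_jG Z hL (clo S)
    have hG := isCoh_G Z hL k (clo S)
    have hle := h0_le_h1 hL (jG Z L (clo S)) k hdim hG hS fun ξ hξ => ι_ne_zero k Z hL hdim (by
      rw [hsub _ (Finset.erase_ssubset hξ)]
      exact Nat.pos_of_ne_zero h1)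
    haveI := finite_proper k X _ hG 1
    have hA := h0A_le_h1G k (clo S) Z hL hc (Module.finrank_pos_iff.1 (Nat.pos_of_ne_zero h1))
    have he := euler_G Z hL k hZ (clo S)
    rw [CurveRR.euler_eq hdim (G Z L (clo S))] at he
    have hds : degC k L S = _ := deg_sub k (clo S) hL
    rw [hds, CurveRR.euler_eq hdim (A (clo S))]
    omega

omit [DecidableEq X] in
include hL in
theorem h1M_le_h1G_top (hdim : topologicalKrullDim X ≤ 1) (D : Closeds X) :
    CurveRR.h k (M D L) 1 ≤ CurveRR.h k (G ⊤ L D) 1 := by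
  haveI := CurveRR.isNoetherian_of_proper k X
  obtain ⟨w, hS⟩ := shortExact_G ⊤ hL D
  have hd : topologicalKrullDim ((⊤ : X.IdealSheafData).support : Set X) ≤ 0 := topDim_empty
  obtain ⟨-, hv⟩ := quot_facts ⊤ hL k hd D
  haveI := finite_proper k X _ (isCoh_G ⊤ hL k D) 1
  have hsurj : Function.Surjective (hhMap k (jG ⊤ L D) 1) := by
    have hr := CurveRR.range_f_eq_ker_g (k := k) hS 1
    dsimp only at hr
    refine LinearMap.range_eq_top.1 (hr.trans (LinearMap.ker_eq_top.2 (LinearMap.ext fun y => (hv 1 le_rfl).elim _ _)))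
  exact LinearMap.finrank_le_finrank_of_surjective hsurj
where
  topDim_empty : topologicalKrullDim ((⊤ : X.IdealSheafData).support : Set X) ≤ 0 := by
    rw [Scheme.IdealSheafData.support_top]
    simp only [topologicalKrullDim, Order.krullDim, iSup_le_iff]
    exact fun p => by obtain ⟨⟨x, hx⟩, -⟩ := p.head.isIrreducible.nonempty; exact hx.elim

omit [DecidableEq X] in
theorem h0_quot_top (D : Closeds X) : CurveRR.h k (ClSub.quotMod ((⊤ : X.IdealSheafData) ⊔ vI D)) 0 = 0 := by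
  rw [top_sup_eq]
  haveI : Subsingleton Γ(ClSub.quotMod (⊤ : X.IdealSheafData), ⊤) := by
    refine subsingleton_of_forall_eq 0 fun s => CurveRR.suppIn_of_subset (CurveRR.support_quotMod _) ⊤ s fun x _ hx => ?_
    rw [Scheme.IdealSheafData.support_top] at hx
    exact hx
  exact CurveRR.h_eq_zero (CurveRR.secH0 (k := k) (ClSub.quotMod (⊤ : X.IdealSheafData))).symm.toEquiv.subsingleton

variable {S₀ : Finset X} (hdeg : ∀ T : Finset X, T ⊆ S₀ → T.Nonempty → _root_.IsConnected (clo T : Set X) →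
      2 * (CurveRR.h k (A (clo T)) 1 : ℤ) ≤ degC k L T ∧ 0 < CurveRR.h k (A (clo T)) 0)


include hL hdeg in
/-- line bundles of degree `≥ 2g` on every subcurve are nonspecial there -/
theorem h1M_eq_zero (hdim : topologicalKrullDim X ≤ 1) (S : Finset X) (hS : Indep S) (hS₀ : S ⊆ S₀) :
    CurveRR.h k (M (clo S) L) 1 = 0 := by
  by_contra hne
  have hd : topologicalKrullDim ((⊤ : X.IdealSheafData).support : Set X) ≤ 0 := h1M_le_h1G_top.topDim_empty
  have hle := h1M_le_h1G_top k hL hdim (clo S)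
  obtain ⟨T, hTS, hT, hc, hb⟩ := exists_deg_le k ⊤ hL hdim hd S hS (by omega)
  rw [h0_quot_top, CurveRR.euler_eq hdim] at hb
  obtain ⟨h1, h2⟩ := hdeg T (hTS.trans hS₀) hT hc
  push_cast at hb
  omega

include hL hdeg in
/-- no subcurve has all its sections vanishing at `Z` -/
theorem h1G_lt (hdim : topologicalKrullDim X ≤ 1) (hZ : topologicalKrullDim (Z.support : Set X) ≤ 0) {d : ℕ}
    (hd : 0 < d) (hq : ∀ D : Closeds X, CurveRR.h k (ClSub.quotMod (Z ⊔ vI D)) 0 = 0 ∨
      CurveRR.h k (ClSub.quotMod (Z ⊔ vI D)) 0 = d)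
    (hone : ∀ D₁ D₂ : Closeds X, (∀ x, x ∈ (D₁ : Set X) → x ∉ (D₂ : Set X)) →
      CurveRR.h k (ClSub.quotMod (Z ⊔ vI D₁)) 0 = 0 ∨ CurveRR.h k (ClSub.quotMod (Z ⊔ vI D₂)) 0 = 0)
    (S : Finset X) (hS : Indep S) (hS₀ : S ⊆ S₀) : CurveRR.h k (G Z L (clo S)) 1 < d := by
  classical
  induction S using Finset.strongInduction with
  | _ S ih =>
    have hv : ∀ T : Finset X, T ⊆ S → Subsingleton (Coh.HH X (M (clo T) L) 1) := fun T hT => by
      haveI := finite_proper k X _ (isCoh_M hL k (clo T)) 1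
      exact Module.finrank_zero_iff.1 (h1M_eq_zero k hL hdeg hdim T (fun a ha b hb => hS a (hT ha) b (hT hb)) (hT.trans hS₀))
    have hle : ∀ T : Finset X, T ⊆ S → CurveRR.h k (G Z L (clo T)) 1 ≤ CurveRR.h k (ClSub.quotMod (Z ⊔ vI (clo T))) 0 :=
      fun T hT => Nat.le.intro (h1_G_add_rank Z hL k hZ (clo T) (hv T hT))
    by_contra hge
    have heq : CurveRR.h k (G Z L (clo S)) 1 = d ∧ CurveRR.h k (ClSub.quotMod (Z ⊔ vI (clo S))) 0 = d := by
      have := hle S subset_rfl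
      rcases hq (clo S) with h | h <;> omega
    have hlt : ∀ T, T ⊂ S → CurveRR.h k (G Z L (clo T)) 1 < d := fun T hT =>
      ih T hT (fun a ha b hb => hS a (hT.1 ha) b (hT.1 hb)) (hT.1.trans hS₀)
    have hne : S.Nonempty := Finset.nonempty_iff_ne_empty.2 fun e => by
      rw [e, h1G_empty k Z hL] at hge; omega
    have hc : _root_.IsConnected (clo S : Set X) := by
      by_contra hc
      obtain ⟨T₁, T₂, hT₁, hT₂, hcov, hdis⟩ := exists_split hne hc
      have h3 := h1G_le_of_split k Z hL (clo_mono hT₁.1) (clo_mono hT₂.1) hcov hdis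
      have := hle T₁ hT₁.1
      have := hle T₂ hT₂.1
      have := hlt T₁ hT₁
      have := hlt T₂ hT₂
      rcases hone (clo T₁) (clo T₂) hdis with h | h <;> omega
    haveI := mono_jG Z hL (clo S)
    have h0le := h0_le_h1 hL (jG Z L (clo S)) k hdim (isCoh_G Z hL k (clo S)) hS fun ξ hξ =>
      ι_ne_zero k Z hL hdim (by rw [heq.1]; exact hlt _ (Finset.erase_ssubset hξ))
    have he := euler_G Z hL k hZ (clo S)
    rw [CurveRR.euler_eq hdim (G Z L (clo S))] at he
    obtain ⟨h1, h2⟩ := hdeg S hS₀ hne hc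
    have hds : degC k L S = _ := deg_sub k (clo S) hL
    rw [hds, CurveRR.euler_eq hdim (A (clo S))] at h1
    omega

end Groth.Agent.DualGeneric.Sub
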