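import Groth.Agent.DualGeneric.SubF

/-!
The whole of a connected reduced curve as a union of components.
-/

set_option autoImplicit false
set_option backward.isDefEq.respectTransparency false
set_option backward.isDefEq.respectTransparency.types false
set_option linter.style.haveILetI false
set_option maxHeartbeats 1000000

universe u

open CategoryTheory CategoryTheory.Limits AlgebraicGeometry TopologicalSpace Opposite
open Groth.Agent.CohFinite
open Groth.Agent.QC (res resO res_res res_self res_smul resO_resO resO_self section_eq_of_locally app_res)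

noncomputable section

namespace Groth.Agent.DualGeneric.Sub

variable (k : Type u) [Field k] {X : Scheme.{u}} [X.Over (Spec (CommRingCat.of k))]
  [IsProper (X ↘ Spec (CommRingCat.of k))]

include k in
theorem finite_gens : {ξ : X | closure ({ξ} : Set X) ∈ irreducibleComponents (X : Type u)}.Finite := by
  haveI := CurveRR.isNoetherian_of_proper k X
  refine TopologicalSpace.NoetherianSpace.finite_irreducibleComponents.preimage (f := fun ξ : X => closure ({ξ} : Set X)) ?_
  intro a _ b _ h
  exact (inseparable_iff_closure_eq.2 h).eq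

include k in
/-- the generic points of the components -/
theorem exists_gens : ∃ S : Finset X, Indep S ∧ clo S = ⊤ ∧ ∀ ξ ∈ S, closure ({ξ} : Set X) ∈ irreducibleComponents (X : Type u) := by
  classical
  refine ⟨(finite_gens k (X := X)).toFinset, fun ξ hξ η hη h => ?_, ?_, fun ξ hξ => (finite_gens k).mem_toFinset.1 hξ⟩
  · have h1 : closure ({ξ} : Set X) ⊆ closure {η} := closure_minimal (Set.singleton_subset_iff.2 h) isClosed_closure
    have h2 : closure ({η} : Set X) ⊆ closure {ξ} := ((finite_gens k).mem_toFinset.1 hξ).2 isIrreducible_singleton.closure h1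
    exact (inseparable_iff_closure_eq.2 (h1.antisymm h2)).eq
  · refine Closeds.ext (Set.eq_univ_of_forall fun x => mem_clo.2 ?_)
    obtain ⟨C, hC, hxC⟩ := exists_mem_irreducibleComponents_subset_of_isIrreducible _ (isIrreducible_singleton (x := x))
    have hgen := hC.1.isGenericPoint_genericPoint (isClosed_of_mem_irreducibleComponents _ hC)
    refine ⟨hC.1.genericPoint, (finite_gens k).mem_toFinset.2 ?_, ?_⟩
    · rw [Set.mem_setOf_eq, hgen.def]; exact hC
    · rw [hgen.def]; exact hxC rfl

include k in
/-- subcurves are one-dimensional -/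
theorem dim_sub [ConnectedSpace X] (hdim : topologicalKrullDim X = 1) {T : Finset X} (hT : T.Nonempty)
    (hcomp : ∀ ξ ∈ T, closure ({ξ} : Set X) ∈ irreducibleComponents (X : Type u)) :
    topologicalKrullDim (vI (clo T)).subscheme = 1 := by
  refine le_antisymm (((vI (clo T)).subschemeι.isClosedEmbedding.isInducing.topologicalKrullDim_le).trans hdim.le) ?_
  obtain ⟨ξ, hξ⟩ := hT
  have h1 := dim_component_eq_one k hdim _ (hcomp ξ hξ)
  have hsub : closure ({ξ} : Set X) ⊆ Set.range (vI (clo T)).subschemeι := by
    rw [range_ι]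
    exact fun x hx => mem_clo.2 ⟨ξ, hξ, hx⟩
  rw [← h1]
  refine ((Topology.IsEmbedding.inclusion hsub).isInducing.topologicalKrullDim_le).trans ?_
  exact ((vI (clo T)).subschemeι.isClosedEmbedding.isEmbedding.toHomeomorph.symm.isInducing.topologicalKrullDim_le)

theorem h0A_pos {T : Finset X} (hT : T.Nonempty) : 0 < CurveRR.h k (A (clo T)) 0 := by
  obtain ⟨ξ, hξ⟩ := hT
  refine CurveRR.h0_quotMod_pos (vI (clo T)) ⟨ξ, ?_⟩
  rw [Scheme.IdealSheafData.coe_support_vanishingIdeal]
  exact self_mem_clo hξ

theorem isIso_q_top [IsReduced X] {D : Closeds X} (hD : D = ⊤) : IsIso (q D) := by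
  haveI : Mono (q D) := (Groth.Agent.QC.mono_iff_app_injective _).2 fun W => (injective_iff_map_eq_zero _).2 fun a ha =>
    eq_zero_of_basicOpen_eq_bot (U := W) (show Γ(X, W) from a)
      (Opens.ext (Set.eq_empty_of_forall_notMem fun z hz => (q_eq_zero_iff D a).1 ha z (hD ▸ trivial) hz))
  exact isIso_of_mono_of_epi _

variable (Z : X.IdealSheafData) {L : X.Modules} (hL : PicF.IsInvertible L)

include hL in
/-- on the whole curve `G` is `I ⊗ L` -/
theorem nonempty_iso_G [IsReduced X] {D : Closeds X} (hD : D = ⊤) :
    Nonempty (CohB1.tensorMod (ClSub.idealMod Z) L ≅ G Z L D) := by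
  haveI := isIso_q_top hD
  haveI : Mono (ClSub.idealModι Z) := inferInstanceAs (Mono (kernel.ι _))
  haveI : Mono (f Z D) := mono_comp _ _
  haveI : IsIso (Abelian.factorThruImage (f Z D)) := inferInstance
  exact ⟨PicGrp.tensorModIso (asIso (Abelian.factorThruImage (f Z D))) (Iso.refl L)⟩

include hL in
theorem nonempty_iso_M [IsReduced X] {D : Closeds X} (hD : D = ⊤) : Nonempty (L ≅ M D L) := by
  haveI := isIso_q_top hD
  exact ⟨(TMul.leftUnitIso L).symm ≪≫ PicGrp.tensorModIso (asIso (q D)) (Iso.refl L)⟩

end Groth.Agent.DualGeneric.Sub
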