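import Groth.Agent.DualGeneric.SubG
import Groth.Agent.DualGeneric.DegOmega

/-!
The adjunction formula for subcurves of a reduced curve with an invertible dualizing module.
-/

set_option autoImplicit false
set_option backward.isDefEq.respectTransparency false
set_option backward.isDefEq.respectTransparency.types false
set_option linter.style.haveILetI false
set_option maxHeartbeats 1000000

universe u

open CategoryTheory CategoryTheory.Limits AlgebraicGeometry TopologicalSpace Opposite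
open Groth.Agent.CohFinite
open Groth.Agent.QC (res resO res_res res_self res_smul resO_resO resO_self section_eq_of_locally app_res)
open TMul (IsGen homOf val_homOf tm)

noncomputable section

namespace Groth.Agent.DualGeneric.Sub

variable (k : Type u) [Field k] {X : Scheme.{u}} [X.Over (Spec (CommRingCat.of k))]
  [IsProper (X ↘ Spec (CommRingCat.of k))]

section

variable {L : X.Modules} (hL : PicF.IsInvertible L)

include hL in
theorem nonempty_iso_ideal [AlgebraicGeometry.IsReduced X] {D D' : Closeds X} (hc : ∀ x : X, x ∈ (D : Set X) ∨ x ∈ (D' : Set X)) :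
    Nonempty (CohB1.tensorMod (ClSub.idealMod (vI D')) L ≅ G (vI D') L D) := by
  haveI : Mono (f (vI D') D) := (Groth.Agent.QC.mono_iff_app_injective _).2 fun W => (injective_iff_map_eq_zero _).2 fun c hc' => by
    refine Groth.Agent.QC.app_injective_of_mono (kernel.ι (ClSub.toSubscheme (vI D'))) W ?_
    rw [map_zero]
    refine eq_zero_of_basicOpen_eq_bot (U := W) (show Γ(X, W) from (ClSub.idealModι (vI D')).app W c)
      (Opens.ext (Set.eq_empty_of_forall_notMem fun z hz => ?_))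
    rcases hc z with hzD | hzD
    · exact (q_eq_zero_iff D _).1 hc' z hzD hz
    · exact (q_eq_zero_iff D' _).1 (kernel_app (ClSub.toSubscheme (vI D')) c) z hzD hz
  haveI : IsIso (Abelian.factorThruImage (f (vI D') D)) := inferInstance
  exact ⟨PicGrp.tensorModIso (asIso (Abelian.factorThruImage (f (vI D') D))) (Iso.refl L)⟩

include hL in
/-- Euler characteristics of a covering by two subcurves -/
theorem euler_cover [AlgebraicGeometry.IsReduced X] {D D' : Closeds X} (hc : ∀ x : X, x ∈ (D : Set X) ∨ x ∈ (D' : Set X))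
    (hd : topologicalKrullDim ((vI D' ⊔ vI D).support : Set X) ≤ 0) :
    Curv2.euler k X L = Curv2.euler k X (M D L) + Curv2.euler k X (M D' L) -
      CurveRR.h k (ClSub.quotMod (vI D' ⊔ vI D)) 0 := by
  haveI := CurveRR.isNoetherian_of_proper k X
  obtain ⟨e⟩ := nonempty_iso_ideal hL hc
  obtain ⟨hI, hQ⟩ := CurveRR.isCoh_idealMod (vI D')
  have hLc := CurveRR.isCoh_of_inv hL
  have h := CurveRR.euler_add (k := k) (shortExact_tmap hL (CurveRR.ideal_shortExact (vI D')))
    (CurveRR.isCoh_tensor' hI hLc) (CurveRR.isCoh_tensor' RefStalk.isCoh_structureModule hLc) (CurveRR.isCoh_tensor' hQ hLc)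
  change Curv2.euler k X (CohB1.tensorMod (Coh.structureModule X) L) =
    Curv2.euler k X (CohB1.tensorMod (ClSub.idealMod (vI D')) L) + Curv2.euler k X (M D' L) at h
  rw [CurveRR.euler_eq_of_iso (TMul.leftUnitIso L), CurveRR.euler_eq_of_iso e, euler_G' (vI D') hL k D hd] at h
  omega

end

theorem euler_M_unit (D : Closeds X) :
    Curv2.euler k X (M D (Coh.structureModule X)) = Curv2.euler k X (A D) :=
  CurveRR.euler_eq_of_iso (TMul.commIso _ _ ≪≫ TMul.leftUnitIso (A D))

variable [DecidableEq X]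

omit [X.Over (Spec (CommRingCat.of k))] [IsProper (X ↘ Spec (CommRingCat.of k))] [DecidableEq X] in
omit k [Field k] in
theorem exists_compl {S S₀ : Finset X} (hcl : clo S₀ = ⊤) (hS : S ⊆ S₀) [DecidableEq X] (x : X) :
    x ∈ (clo S : Set X) ∨ x ∈ (clo (S₀ \ S) : Set X) := by
  have hx : x ∈ (clo S₀ : Set X) := by rw [hcl]; trivial
  obtain ⟨ξ, hξ, hx⟩ := mem_clo.1 hx
  by_cases h : ξ ∈ S
  · exact Or.inl (mem_clo.2 ⟨ξ, h, hx⟩)
  · exact Or.inr (mem_clo.2 ⟨ξ, Finset.mem_sdiff.2 ⟨hξ, h⟩, hx⟩)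

include k in
/-- two subcurves without common component meet in finitely many points -/
theorem dim_inter_le (hdim : topologicalKrullDim X ≤ 1) {T T' : Finset X}
    (hd : ∀ ξ ∈ T, ξ ∉ (clo T' : Set X)) :
    topologicalKrullDim ((vI (clo T') ⊔ vI (clo T)).support : Set X) ≤ 0 := by
  haveI := CurveRR.isNoetherian_of_proper k X
  have hsupp : ((vI (clo T') ⊔ vI (clo T)).support : Set X) = ⋃ ξ ∈ T, (clo T' : Set X) ∩ closure {ξ} := by
    rw [Scheme.IdealSheafData.support_sup]
    show ((vI (clo T')).support : Set X) ∩ (vI (clo T)).support = _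
    rw [Scheme.IdealSheafData.coe_support_vanishingIdeal, Scheme.IdealSheafData.coe_support_vanishingIdeal]
    ext x
    rw [Set.mem_iUnion₂]
    constructor
    · rintro ⟨h1, h2⟩
      obtain ⟨η, hη, h2⟩ := mem_clo.1 h2
      exact ⟨η, hη, h1, h2⟩
    · rintro ⟨η, hη, h1, h2⟩
      exact ⟨h1, mem_clo.2 ⟨η, hη, h2⟩⟩
  rw [hsupp]
  have hcl : ∀ ξ : X, IsClosed ((clo T' : Set X) ∩ closure {ξ}) := fun ξ => (clo T').isClosed.inter isClosed_closure
  have hfin : (⋃ ξ ∈ T, (clo T' : Set X) ∩ closure {ξ}).Finite :=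
    T.finite_toSet.biUnion fun ξ hξ => CurveRR.finite_of_dim_le_zero (k := k) (hcl ξ)
      (dim_le_zero_of_notMem (ξ := ξ) hdim (hcl ξ) Set.inter_subset_right fun h => hd ξ hξ h.1)
  have hD : IsClosed (⋃ ξ ∈ T, (clo T' : Set X) ∩ closure {ξ}) := isClosed_biUnion_finset fun ξ _ => hcl ξ
  haveI : JacobsonSpace X := LocallyOfFiniteType.jacobsonSpace (X ↘ Spec (CommRingCat.of k))
  haveI : Finite (⋃ ξ ∈ T, (clo T' : Set X) ∩ closure {ξ} : Set X) := hfin.to_subtype
  haveI : T1Space (⋃ ξ ∈ T, (clo T' : Set X) ∩ closure {ξ} : Set X) := t1Space_iff_exists_open.2 fun a b hab =>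
    ⟨Subtype.val ⁻¹' ({b.1}ᶜ : Set X),
      (Intersect.isClosed_singleton_of_finite hD hfin b.2).isOpen_compl.preimage continuous_subtype_val,
      fun h => hab (Subtype.ext h), fun h => h rfl⟩
  exact topologicalKrullDim_zero_of_discreteTopology _

variable {ω : X.Modules} (hω : PicF.IsInvertible ω) {tr : Coh.HH X ω 1 →ₗ[k] k}
  (ht : Canon.IsRDualOver k X 1 ω tr) {S' : Finset X}

omit [DecidableEq X] in
include hω in
/-- a nonempty subcurve off `S'` carries sections -/
theorem G_ne_zero {T : Finset X} (hT : T.Nonempty) (hd : ∀ ξ ∈ T, ξ ∉ (clo S' : Set X)) :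
    𝟙 (G (vI (clo S')) ω (clo T)) ≠ 0 := by
  intro h0
  obtain ⟨ξ, hξ⟩ := hT
  obtain ⟨U, g, hξU, hg⟩ := TMul.exists_isGen hω ξ
  obtain ⟨V, hV, hξV, hVU⟩ := exists_isAffineOpen_mem_and_subset
    (U := U ⊓ ⟨(clo S' : Set X)ᶜ, (clo S').isClosed.isOpen_compl⟩) (x := ξ) ⟨hξU, hd ξ hξ⟩
  have hmem : (1 : Γ(X, V)) ∈ (vI (clo S')).ideal ⟨V, hV⟩ := by
    rw [Scheme.IdealSheafData.vanishingIdeal_ideal, PrimeSpectrum.mem_vanishingIdeal]
    intro p hp
    have h1 : hV.fromSpec p ∈ V := by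
      rw [← SetLike.mem_coe, ← hV.range_fromSpec]
      exact ⟨p, rfl⟩
    exact absurd hp (hVU h1).2
  obtain ⟨m, hm⟩ := (Groth.Agent.QC.mem_range_idealModι_affine (vI (clo S')) ⟨V, hV⟩ _).2 hmem
  have hg' := hg.res (hVU.trans inf_le_left)
  have hne : (jG (vI (clo S')) ω (clo T)).app V
      (tm ((Abelian.factorThruImage (f (vI (clo S')) (clo T))).app V m) (res ω (hVU.trans inf_le_left) g)) ≠ 0 := by
    rw [tmap_tm, ← app_comp, Abelian.image.fac, app_comp, hm]
    intro h
    exact (tm_q_eq_zero_iff (clo T) (1 : Γ(X, V)) hg').1 h ξ (self_mem_clo hξ)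
      (by rw [Scheme.basicOpen_of_isUnit _ isUnit_one]; exact hξV)
  refine hne ?_
  rw [show jG (vI (clo S')) ω (clo T) = 𝟙 _ ≫ jG (vI (clo S')) ω (clo T) from (Category.id_comp _).symm, h0, zero_comp]
  rfl

omit [DecidableEq X] in
include hω ht in
theorem h0A_le_h1G_all (T : Finset X) (hd : ∀ ξ ∈ T, ξ ∉ (clo S' : Set X))
    (ψ : G (vI (clo S')) ω (clo T) ⟶ ω) (hψ : Mono ψ) :
    CurveRR.h k (A (clo T)) 0 ≤ CurveRR.h k (G (vI (clo S')) ω (clo T)) 1 := by
  classical
  haveI := CurveRR.isNoetherian_of_proper k X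
  induction T using Finset.strongInduction with
  | _ T ih =>
    by_cases hT : T = ∅
    · subst hT
      have hs : Subsingleton Γ(A (clo (∅ : Finset X)), ⊤) :=
        subsingleton_of_forall_eq 0 fun s => suppIn_A _ ⊤ s fun y _ hy => by simp [clo] at hy
      rw [CurveRR.h_eq_zero (CurveRR.secH0 (k := k) (A (clo (∅ : Finset X)))).symm.toEquiv.subsingleton]
      exact Nat.zero_le _
    have hne : T.Nonempty := Finset.nonempty_iff_ne_empty.2 hT
    haveI := finite_proper k X _ (isCoh_G (vI (clo S')) hω k (clo T)) 1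
    by_cases hc : _root_.IsConnected (clo T : Set X)
    · refine h0A_le_h1G k (clo T) (vI (clo S')) hω hc ?_
      rw [← not_subsingleton_iff_nontrivial]
      intro hsub
      haveI := hψ
      have h0 : ψ = 0 := (ht.2 (G (vI (clo S')) ω (clo T)) (isCoh_G (vI (clo S')) hω k (clo T)).1).1
        (LinearMap.ext fun x => by rw [Subsingleton.elim x 0, map_zero, map_zero])
      exact G_ne_zero hω hne hd ((cancel_mono ψ).1 (by rw [h0, comp_zero, zero_comp]))
    obtain ⟨T₁, T₂, hT₁, hT₂, hcov, hdis⟩ := exists_split hne hc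
    haveI := mono_jG (vI (clo S')) hω (clo T)
    let qa := qG (vI (clo S')) ω (clo T) (clo T₁) (clo_mono hT₁.1)
    let qb := qG (vI (clo S')) ω (clo T) (clo T₂) (clo_mono hT₂.1)
    have hinj : ∀ (W : X.Opens) (s : Γ(G (vI (clo S')) ω (clo T), W)), qa.app W s = 0 → qb.app W s = 0 → s = 0 := by
      intro W s ha hb
      refine Groth.Agent.QC.app_injective_of_mono (jG (vI (clo S')) ω (clo T)) W
        ((eq_zero_of_cover hω (clo_mono hT₁.1) (clo_mono hT₂.1) hcov _ ?_ ?_).trans (map_zero _).symm)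
      · rw [← app_comp (jG _ _ _), ← qG_jG, app_comp, ha, map_zero]
      · rw [← app_comp (jG _ _ _), ← qG_jG, app_comp, hb, map_zero]
    haveI := epi_qG (vI (clo S')) hω (clo T) (clo T₁) (clo_mono hT₁.1)
    haveI := epi_qG (vI (clo S')) hω (clo T) (clo T₂) (clo_mono hT₂.1)
    haveI h12 : IsIso (kernel.ι qa ≫ qb) := isIso_kerι_comp qa qb _ _ hdis (suppIn_G _ hω _) (suppIn_G _ hω _) hinj
    haveI h21 : IsIso (kernel.ι qb ≫ qa) := isIso_kerι_comp qb qa _ _ (fun x h1 h2 => hdis x h2 h1)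
      (suppIn_G _ hω _) (suppIn_G _ hω _) fun W s a b => hinj W s b a
    haveI := hψ
    have i1 := ih T₁ hT₁ (fun ξ hξ => hd ξ (hT₁.1 hξ)) ((inv (kernel.ι qb ≫ qa) ≫ kernel.ι qb) ≫ ψ) inferInstance
    have i2 := ih T₂ hT₂ (fun ξ hξ => hd ξ (hT₂.1 hξ)) ((inv (kernel.ι qa ≫ qb) ≫ kernel.ι qa) ≫ ψ) inferInstance
    haveI := finite_proper k X _ (isCoh_G (vI (clo S')) hω k (clo T₁)) 1
    haveI := finite_proper k X _ (isCoh_G (vI (clo S')) hω k (clo T₂)) 1
    have s1 := inv (kernel.ι qb ≫ qa) ≫ kernel.ι qb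
    let Φ : Coh.HH X (G (vI (clo S')) ω (clo T)) 1 →ₗ[k]
        Coh.HH X (G (vI (clo S')) ω (clo T₁)) 1 × Coh.HH X (G (vI (clo S')) ω (clo T₂)) 1 :=
      (hhMap k qa 1).prod (hhMap k qb 1)
    have hΦ : Function.Surjective Φ := by
      rintro ⟨u, v⟩
      have e1 : (inv (kernel.ι qb ≫ qa) ≫ kernel.ι qb) ≫ qa = 𝟙 _ := by rw [Category.assoc, IsIso.inv_hom_id]
      have e2 : (inv (kernel.ι qb ≫ qa) ≫ kernel.ι qb) ≫ qb = 0 := by rw [Category.assoc, kernel.condition, comp_zero]
      have e3 : (inv (kernel.ι qa ≫ qb) ≫ kernel.ι qa) ≫ qb = 𝟙 _ := by rw [Category.assoc, IsIso.inv_hom_id]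
      have e4 : (inv (kernel.ι qa ≫ qb) ≫ kernel.ι qa) ≫ qa = 0 := by rw [Category.assoc, kernel.condition, comp_zero]
      refine ⟨hhMap k (inv (kernel.ι qb ≫ qa) ≫ kernel.ι qb) 1 u + hhMap k (inv (kernel.ι qa ≫ qb) ≫ kernel.ι qa) 1 v, ?_⟩
      refine Prod.ext ?_ ?_
      · show hhMap k qa 1 _ = u
        rw [map_add, ← hhMap_comp, ← hhMap_comp, e1, e4, hhMap_id, hhMap_zero, add_zero]
      · show hhMap k qb 1 _ = v
        rw [map_add, ← hhMap_comp, ← hhMap_comp, e2, e3, hhMap_id, hhMap_zero, zero_add]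
    have hle := LinearMap.finrank_le_finrank_of_surjective hΦ
    rw [Module.finrank_prod] at hle
    have hA : CurveRR.h k (A (clo T)) 0 ≤ CurveRR.h k (A (clo T₁)) 0 + CurveRR.h k (A (clo T₂)) 0 := by
      haveI := finite_proper k X _ (CurveRR.isCoh_idealMod (vI (clo T₁))).2 0
      haveI := finite_proper k X _ (CurveRR.isCoh_idealMod (vI (clo T₂))).2 0
      haveI := finite_proper k X _ (CurveRR.isCoh_idealMod (vI (clo T))).2 0
      letI := CurveRR.secMod k (A (clo T)) ⊤
      letI := CurveRR.secMod k (A (clo T₁)) ⊤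
      letI := CurveRR.secMod k (A (clo T₂)) ⊤
      haveI : Module.Finite k Γ(A (clo T₁), ⊤) := Module.Finite.equiv (CurveRR.secH0 (k := k) _).symm
      haveI : Module.Finite k Γ(A (clo T₂), ⊤) := Module.Finite.equiv (CurveRR.secH0 (k := k) _).symm
      let Ψ : Γ(A (clo T), ⊤) →ₗ[k] Γ(A (clo T₁), ⊤) × Γ(A (clo T₂), ⊤) :=
        { toFun := fun s => ((r (clo T) (clo T₁) (clo_mono hT₁.1)).app ⊤ s, (r (clo T) (clo T₂) (clo_mono hT₂.1)).app ⊤ s)
          map_add' := fun a b => Prod.ext (map_add _ a b) (map_add _ a b)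
          map_smul' := fun a s => Prod.ext (Scheme.Modules.Hom.app_smul (r (clo T) (clo T₁) (clo_mono hT₁.1)) _ _) (Scheme.Modules.Hom.app_smul (r (clo T) (clo T₂) (clo_mono hT₂.1)) _ _) }
      have hinjΨ : Function.Injective Ψ := (injective_iff_map_eq_zero Ψ).2 fun s hs => by
        refine section_eq_of_locally fun x hx => ?_
        obtain ⟨V, hV, a, hxV, ha⟩ := exists_lift (clo T) s hx
        refine ⟨V, hV, hxV, ?_⟩
        rw [map_zero, ← ha]
        refine (q_eq_zero_iff _ a).2 fun y hy => ?_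
        rcases hcov hy with hy | hy
        · refine (q_eq_zero_iff (clo T₁) a).1 ?_ y hy
          rw [← r_q (clo T) (clo T₁) (clo_mono hT₁.1), ha, ← app_res]
          exact (congrArg (res (A (clo T₁)) hV) (congrArg Prod.fst hs)).trans (map_zero _)
        · refine (q_eq_zero_iff (clo T₂) a).1 ?_ y hy
          rw [← r_q (clo T) (clo T₂) (clo_mono hT₂.1), ha, ← app_res]
          exact (congrArg (res (A (clo T₂)) hV) (congrArg Prod.snd hs)).trans (map_zero _)
      have := LinearMap.finrank_le_finrank_of_injective hinjΨ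
      rw [Module.finrank_prod, CurveRR.finrank_sec, CurveRR.finrank_sec, CurveRR.finrank_sec] at this
      exact this
    show _ ≤ _
    change CurveRR.h k (G (vI (clo S')) ω (clo T₁)) 1 + CurveRR.h k (G (vI (clo S')) ω (clo T₂)) 1 ≤
      CurveRR.h k (G (vI (clo S')) ω (clo T)) 1 at hle
    omega

omit [DecidableEq X] in
include hω ht in
/-- the dualizing module restricted to a subcurve and twisted down by the rest -/
theorem euler_G_le [AlgebraicGeometry.IsReduced X] (hdim : topologicalKrullDim X ≤ 1) {T : Finset X}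
    (hd : ∀ ξ ∈ T, ξ ∉ (clo S' : Set X)) (hc : ∀ x : X, x ∈ (clo T : Set X) ∨ x ∈ (clo S' : Set X)) :
    Curv2.euler k X (G (vI (clo S')) ω (clo T)) ≤ - Curv2.euler k X (A (clo T)) := by
  haveI := CurveRR.isNoetherian_of_proper k X
  obtain ⟨e⟩ := nonempty_iso_ideal hω hc
  haveI := CurveRR.mono_idealIncl hω (vI (clo S'))
  let ψ := e.inv ≫ CurveRR.idealIncl (vI (clo S')) ω
  have h1 := h0A_le_h1G_all k hω ht T hd ψ inferInstance
  haveI := mono_jG (vI (clo S')) hω (clo T)
  letI := CurveRR.secMod k (G (vI (clo S')) ω (clo T)) ⊤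
  haveI := finite_proper k X _ (CurveRR.isCoh_idealMod (vI (clo T))).2 1
  let lam : Module.Dual k (Coh.HH X (G (vI (clo S')) ω (clo T)) 1) := tr.comp (hhMap k ψ 1)
  have hinj : Function.Injective (pair hω (jG (vI (clo S')) ω (clo T)) k hdim lam) :=
    (injective_iff_map_eq_zero _).2 fun s hs => by
      have h0 : tb hω (clo T) (jG (vI (clo S')) ω (clo T)) (homOf s) ≫ ψ = 0 :=
        (ht.2 (A (clo T)) (CurveRR.isCoh_idealMod (vI (clo T))).2.1).1 (LinearMap.ext fun x => by
          refine Eq.trans ?_ (LinearMap.congr_fun hs x) |>.trans ?_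
          · show tr (hhMap k (_ ≫ ψ) 1 x) = tr (hhMap k ψ 1 (hhMap k _ 1 x))
            rw [hhMap_comp]
          · show (0 : k) = tr (hhMap k (0 : A (clo T) ⟶ ω) 1 x)
            rw [hhMap_zero, map_zero])
      have h2 : homOf s = 0 := by
        rw [← q_tb hω (clo T) (jG (vI (clo S')) ω (clo T)) (homOf s), (cancel_mono ψ).1 (h0.trans zero_comp.symm), comp_zero]
      have h3 := val_homOf s ⊤
      rw [res_self, h2] at h3
      exact h3.symm
  have h0le := LinearMap.finrank_le_finrank_of_injective hinj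
  rw [Subspace.dual_finrank_eq, CurveRR.finrank_sec] at h0le
  change _ ≤ CurveRR.h k (A (clo T)) 1 at h0le
  rw [CurveRR.euler_eq hdim, CurveRR.euler_eq hdim]
  omega

include hω ht in
/-- **adjunction formula**: `deg_D ω = -2χ(O_D) + (D ∩ D')` -/
theorem deg_omega [AlgebraicGeometry.IsReduced X] (hdim : topologicalKrullDim X ≤ 1) {S₀ S : Finset X} (hI : Indep S₀)
    (hcl : clo S₀ = ⊤) (hS : S ⊆ S₀) :
    degC k ω S = -2 * Curv2.euler k X (A (clo S)) +
      CurveRR.h k (ClSub.quotMod (vI (clo S) ⊔ vI (clo (S₀ \ S)))) 0 := by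
  have hd : ∀ ξ ∈ S, ξ ∉ (clo (S₀ \ S) : Set X) := fun ξ hξ h => by
    obtain ⟨η, hη, hx⟩ := mem_clo.1 h
    obtain ⟨hη0, hη1⟩ := Finset.mem_sdiff.1 hη
    exact hη1 (hI ξ (hS hξ) η hη0 hx ▸ hξ)
  have hd' : ∀ ξ ∈ S₀ \ S, ξ ∉ (clo S : Set X) := fun ξ hξ h => by
    obtain ⟨η, hη, hx⟩ := mem_clo.1 h
    obtain ⟨hξ0, hξ1⟩ := Finset.mem_sdiff.1 hξ
    exact hξ1 ((hI ξ hξ0 η (hS hη) hx).symm ▸ hη)
  have hc : ∀ x : X, x ∈ (clo S : Set X) ∨ x ∈ (clo (S₀ \ S) : Set X) := exists_compl hcl hS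
  have hc' : ∀ x : X, x ∈ (clo (S₀ \ S) : Set X) ∨ x ∈ (clo S : Set X) := fun x => (hc x).symm
  have h1 := euler_G_le k hω ht hdim hd hc
  have h2 := euler_G_le k hω ht hdim hd' hc'
  have hdz := dim_inter_le k hdim hd
  have hdz' := dim_inter_le k hdim hd'
  rw [euler_G' (vI (clo (S₀ \ S))) hω k (clo S) hdz] at h1
  rw [euler_G' (vI (clo S)) hω k (clo (S₀ \ S)) hdz', sup_comm] at h2
  have h3 := euler_cover k hω hc hdz
  have h4 := euler_cover k (TMul.isInvertible_structureModule (X := X)) hc hdz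
  rw [euler_M_unit, euler_M_unit] at h4
  rw [DualGeneric.euler_dualizing k hdim hω ht] at h3
  have hds : degC k ω S = _ := deg_sub k (clo S) hω
  rw [hds, sup_comm (vI (clo S))]
  omega

end Groth.Agent.DualGeneric.Sub
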