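import Groth.Agent.DualGeneric.SubH
import Groth.Agent.SchImg.IdealTools

/-!
Reduced connected one-dimensional closed subschemes as unions of components.
-/

set_option autoImplicit false
set_option backward.isDefEq.respectTransparency false
set_option backward.isDefEq.respectTransparency.types false
set_option linter.style.haveILetI false
set_option maxHeartbeats 1000000

universe u

open CategoryTheory CategoryTheory.Limits AlgebraicGeometry TopologicalSpace Opposite

noncomputable section

namespace Groth.Agent.DualGeneric.Sub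

variable {X : Scheme.{u}}

/-- a reduced closed subscheme is determined by its support -/
theorem eq_vI (J : X.IdealSheafData) [AlgebraicGeometry.IsReduced J.subscheme] : J = vI J.support := by
  refine le_antisymm (Scheme.IdealSheafData.le_support_iff_le_vanishingIdeal.1 le_rfl) ?_
  rw [← SchImg.comap_subschemeι_eq_bot_iff, ← Scheme.IdealSheafData.support_eq_top_iff]
  refine Closeds.ext (Set.eq_univ_of_forall fun y => ?_)
  rw [SetLike.mem_coe, Scheme.IdealSheafData.support_comap, ← SetLike.mem_coe]
  show J.subschemeι y ∈ ((vI J.support).support : Set X)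
  rw [Scheme.IdealSheafData.coe_support_vanishingIdeal]
  rw [← J.range_subschemeι]
  exact ⟨y, rfl⟩

variable (k : Type u) [Field k] [X.Over (Spec (CommRingCat.of k))] [IsProper (X ↘ Spec (CommRingCat.of k))]
  [DecidableEq X]

include k in
/-- subcurves are unions of components -/
theorem exists_sub (hdim : topologicalKrullDim X ≤ 1) {S₀ : Finset X} (hI : Indep S₀) (hcl : clo S₀ = ⊤)
    (J : X.IdealSheafData) [AlgebraicGeometry.IsReduced J.subscheme] [ConnectedSpace J.subscheme]
    (hJ : topologicalKrullDim J.subscheme = 1) :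
    ∃ S : Finset X, S ⊆ S₀ ∧ S.Nonempty ∧ _root_.IsConnected (clo S : Set X) ∧ J = vI (clo S) ∧
      (⟨closure ((J.support : Set X)ᶜ), isClosed_closure⟩ : Closeds X) = clo (S₀ \ S) := by
  classical
  letI : J.subscheme.Over (Spec (CommRingCat.of k)) := ⟨J.subschemeι ≫ (X ↘ Spec (CommRingCat.of k))⟩
  haveI : IsProper (J.subscheme ↘ Spec (CommRingCat.of k)) :=
    inferInstanceAs (IsProper (J.subschemeι ≫ (X ↘ Spec (CommRingCat.of k))))
  haveI := CurveRR.isNoetherian_of_proper k J.subscheme
  let i := J.subschemeι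
  let S := S₀.filter fun ξ => ξ ∈ (J.support : Set X)
  have hr : Set.range i = (J.support : Set X) := J.range_subschemeι
  have hsupp : (J.support : Set X) = clo S := by
    refine Set.Subset.antisymm (fun x hx => ?_) fun x hx => ?_
    · rw [← hr] at hx
      obtain ⟨y, rfl⟩ := hx
      obtain ⟨C, hC, hyC⟩ := exists_mem_irreducibleComponents_subset_of_isIrreducible _ (isIrreducible_singleton (x := y))
      have hCc := isClosed_of_mem_irreducibleComponents C hC
      have hη := hC.1.isGenericPoint_genericPoint hCc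
      have himg : i '' C = closure {i hC.1.genericPoint} := by
        refine Set.Subset.antisymm ?_ (closure_minimal (Set.singleton_subset_iff.2 ⟨_, hη.mem, rfl⟩)
          (i.isClosedEmbedding.isClosedMap _ hCc))
        rintro _ ⟨z, hz, rfl⟩
        exact ((hη.specializes hz).map i.continuous).mem_closure
      have hiη : i hC.1.genericPoint ∈ (clo S₀ : Set X) := by rw [hcl]; trivial
      obtain ⟨ξ, hξ, hle⟩ := mem_clo.1 hiη
      have heq : i hC.1.genericPoint = ξ := by
        by_contra hne
        have h0 : topologicalKrullDim (closure {i hC.1.genericPoint} : Set X) ≤ 0 := by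
          refine dim_le_zero_of_notMem (ξ := ξ) hdim isClosed_closure
            (closure_minimal (Set.singleton_subset_iff.2 hle) isClosed_closure) fun h => hne ?_
          exact (inseparable_iff_closure_eq.2 ((closure_minimal (Set.singleton_subset_iff.2 hle) isClosed_closure).antisymm
            (closure_minimal (Set.singleton_subset_iff.2 h) isClosed_closure))).eq
        have h1 := DualGeneric.dim_component_eq_one k hJ C hC
        have h2 : topologicalKrullDim C ≤ topologicalKrullDim (i '' C) :=
          (i.isClosedEmbedding.isEmbedding.homeomorphImage C).isInducing.topologicalKrullDim_le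
        rw [himg, h1] at h2
        exact absurd (h2.trans h0) (by norm_num)
      refine mem_clo.2 ⟨ξ, Finset.mem_filter.2 ⟨hξ, ?_⟩, ?_⟩
      · rw [← hr, ← heq]; exact ⟨_, rfl⟩
      · rw [← heq, ← himg]; exact ⟨y, hyC rfl, rfl⟩
    · obtain ⟨ξ, hξ, hx⟩ := mem_clo.1 hx
      exact closure_minimal (Set.singleton_subset_iff.2 (Finset.mem_filter.1 hξ).2) J.support.isClosed hx
  refine ⟨S, Finset.filter_subset _ _, ?_, ?_, ?_, ?_⟩
  · obtain ⟨y⟩ : Nonempty J.subscheme := inferInstance
    have : i y ∈ (clo S : Set X) := by rw [← hsupp, ← hr]; exact ⟨y, rfl⟩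
    obtain ⟨ξ, hξ, -⟩ := mem_clo.1 this
    exact ⟨ξ, hξ⟩
  · rw [← hsupp, ← hr]
    exact isConnected_range i.continuous
  · exact (eq_vI J).trans (congrArg vI (Closeds.ext hsupp))
  · refine Closeds.ext (Set.Subset.antisymm (closure_minimal (fun x hx => ?_) (clo (S₀ \ S)).isClosed) fun x hx => ?_)
    · rcases exists_compl hcl (Finset.filter_subset _ _ : S ⊆ S₀) x with h | h
      · exact absurd (hsupp.ge h) hx
      · exact h
    · obtain ⟨ξ, hξ, hx⟩ := mem_clo.1 hx
      obtain ⟨hξ0, hξ1⟩ := Finset.mem_sdiff.1 hξ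
      have : ξ ∈ (J.support : Set X)ᶜ := fun h => hξ1 (Finset.mem_filter.2 ⟨hξ0, h⟩)
      exact closure_mono (Set.singleton_subset_iff.2 this) hx

omit [DecidableEq X] in
/-- the dualizing module with its trace -/
theorem exists_trace [DCoh.HasRpush (X ↘ Spec (CommRingCat.of k))] (h : DCoh.RpushPreservesQCoh (X ↘ Spec (CommRingCat.of k)))
    [DCoh.HasShriek (X ↘ Spec (CommRingCat.of k)) h] (OY : DCoh.DQCoh (Spec (CommRingCat.of k)))
    (hOY : Nonempty (OY.obj ≅ DCoh.inD (Spec (CommRingCat.of k)) (Coh.structureModule (Spec (CommRingCat.of k)))))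
    (hdim : topologicalKrullDim X ≤ 1) :
    ∃ tr : Coh.HH X (DCoh.dualizingMod (X ↘ Spec (CommRingCat.of k)) h OY 1) 1 →ₗ[k] k,
      Canon.IsRDualOver k X 1 (DCoh.dualizingMod (X ↘ Spec (CommRingCat.of k)) h OY 1) tr := by
  obtain ⟨eO⟩ := hOY
  exact DCohShriek.exists_isRDual k (DCoh.shriekAdj (X ↘ Spec (CommRingCat.of k)) h) OY eO 1 hdim

variable [AlgebraicGeometry.IsReduced X] {ω : X.Modules} (hω : PicF.IsInvertible ω)
  {tr : Coh.HH X ω 1 →ₗ[k] k} (ht : Canon.IsRDualOver k X 1 ω tr)

omit [DecidableEq X] in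
include hω ht in
/-- `deg_J ω = -2χ(O_J) + k_J` -/
theorem deg_omega_J (hdim : topologicalKrullDim X ≤ 1)
    (J : X.IdealSheafData) [AlgebraicGeometry.IsReduced J.subscheme] [ConnectedSpace J.subscheme]
    (hJ : topologicalKrullDim J.subscheme = 1) :
    @Curv2.deg k _ J.subscheme ⟨J.subschemeι ≫ (X ↘ (Spec (CommRingCat.of k)))⟩ ((Scheme.Modules.pullback J.subschemeι).obj ω) 1 =
      -2 * @Curv2.euler k _ J.subscheme ⟨J.subschemeι ≫ (X ↘ (Spec (CommRingCat.of k)))⟩ (Coh.structureModule J.subscheme) +
        (Module.finrank k (Coh.HH X (ClSub.quotMod (J ⊔ (Scheme.IdealSheafData.vanishingIdeal ⟨closure ((J.support : Set X)ᶜ), isClosed_closure⟩))) 0) : ℤ) := by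
  classical
  obtain ⟨S₀, hI, hcl, -⟩ := exists_gens k (X := X)
  obtain ⟨S, hS, -, -, hJe, hcompl⟩ := exists_sub k hdim hI hcl J hJ
  rw [hcompl]
  have hd := deg_omega k hω ht hdim hI hcl hS
  rw [euler_A] at hd
  subst hJe
  exact hd

end Groth.Agent.DualGeneric.Sub
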