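import Groth.Agent.DualGeneric.SubJ
import Groth.Agent.DualGeneric.SubK
import Groth.Agent.DualGeneric.FiniteCount
import Groth.Agent.CurveRR.Multi2
import Groth.Agent.ResDesc.CartierFam

/-!
The degree of `O(D)` on subcurves, for a finite set `D` of points with invertible ideal.
-/

set_option autoImplicit false
set_option backward.isDefEq.respectTransparency false
set_option backward.isDefEq.respectTransparency.types false
set_option linter.style.haveILetI false
set_option maxHeartbeats 1000000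

universe u

open CategoryTheory CategoryTheory.Limits AlgebraicGeometry TopologicalSpace Opposite
open Groth.Agent.CohFinite
open Groth.Agent.QC (res resO res_res res_self res_smul resO_resO resO_self section_eq_of_locally app_res)
open TMul (IsGen tm)

noncomputable section

namespace Groth.Agent.DualGeneric.Sub

variable {X : Scheme.{u}}

/-- a closed set meets a finite set of closed points in a reduced scheme -/
theorem sup_vI_finite {Z : Closeds X} (hfin : (Z : Set X).Finite) (hcl : ∀ x ∈ (Z : Set X), IsClosed ({x} : Set X))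
    (D : Closeds X) : vI Z ⊔ vI D = vI ⟨(Z : Set X) ∩ D, Z.isClosed.inter D.isClosed⟩ := by
  classical
  refine Scheme.IdealSheafData.ext (funext fun U => ?_)
  rw [Scheme.IdealSheafData.ideal_sup, Pi.sup_apply, Scheme.IdealSheafData.vanishingIdeal_ideal,
    Scheme.IdealSheafData.vanishingIdeal_ideal, Scheme.IdealSheafData.vanishingIdeal_ideal]
  set f := U.2.fromSpec with hf
  let R := Γ(X, U.1)
  let a : Ideal R := PrimeSpectrum.vanishingIdeal (f ⁻¹' Z)
  let b : Ideal R := PrimeSpectrum.vanishingIdeal (f ⁻¹' D)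
  have hZ0 : PrimeSpectrum.zeroLocus (a : Set R) = f ⁻¹' Z := by
    rw [PrimeSpectrum.zeroLocus_vanishingIdeal_eq_closure, (Z.isClosed.preimage f.continuous).closure_eq]
  have hD0 : PrimeSpectrum.zeroLocus (b : Set R) = f ⁻¹' D := by
    rw [PrimeSpectrum.zeroLocus_vanishingIdeal_eq_closure, (D.isClosed.preimage f.continuous).closure_eq]
  show a ⊔ b = PrimeSpectrum.vanishingIdeal (f ⁻¹' ((Z : Set X) ∩ D))
  rw [Set.preimage_inter, ← hZ0, ← hD0, ← PrimeSpectrum.zeroLocus_sup,
    PrimeSpectrum.vanishingIdeal_zeroLocus_eq_radical]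
  refine le_antisymm Ideal.le_radical fun x hx => Ideal.mem_of_localization_maximal fun q hq => ?_
  by_cases hle : a ⊔ b ≤ q
  swap
  · obtain ⟨y, hy, hyq⟩ := SetLike.not_le_iff_exists.1 hle
    rw [Ideal.eq_top_of_isUnit_mem _ (Ideal.mem_map_of_mem _ hy)
      (IsLocalization.map_units (Localization.AtPrime q) (⟨y, hyq⟩ : q.primeCompl))]
    trivial
  have hxq : x ∈ q := hq.isPrime.radical_le_iff.2 hle hx
  let y : PrimeSpectrum R := ⟨q, hq.isPrime⟩
  have hF : (f ⁻¹' (Z : Set X)).Finite := hfin.preimage f.isOpenEmbedding.injective.injOn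
  have hsep : ∀ z ∈ hF.toFinset.erase y, ∃ w ∈ z.asIdeal, w ∉ q := fun z hz => by
    obtain ⟨hne, hz⟩ := Finset.mem_erase.1 hz
    rw [Set.Finite.mem_toFinset] at hz
    have hzc : IsClosed ({z} : Set (Spec Γ(X, U.1))) := by
      rw [show ({z} : Set (Spec Γ(X, U.1))) = f ⁻¹' {f z} from
        (f.isOpenEmbedding.injective.preimage_image {z}).symm.trans (by rw [Set.image_singleton])]
      exact (hcl _ hz).preimage f.continuous
    exact SetLike.not_le_iff_exists.1 fun hzq => hne (PrimeSpectrum.ext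
      (((PrimeSpectrum.isClosed_singleton_iff_isMaximal z).1 hzc).eq_of_le hq.ne_top hzq))
  choose w hw hwq using hsep
  let u : q.primeCompl := ∏ z ∈ (hF.toFinset.erase y).attach, ⟨w z.1 z.2, hwq z.1 z.2⟩
  have hux : (u : R) * x ∈ a := by
    refine (PrimeSpectrum.mem_vanishingIdeal _ _).2 fun z hz => ?_
    by_cases hzy : z = y
    · exact z.asIdeal.mul_mem_left _ (by rw [hzy]; exact hxq)
    · have hmem : z ∈ hF.toFinset.erase y := Finset.mem_erase.2 ⟨hzy, hF.mem_toFinset.2 hz⟩
      refine z.asIdeal.mul_mem_right _ ?_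
      show ((∏ z' ∈ (hF.toFinset.erase y).attach, ⟨w z'.1 z'.2, hwq z'.1 z'.2⟩ : q.primeCompl) : R) ∈ z.asIdeal
      rw [← Submonoid.subtype_apply, map_prod]
      exact z.asIdeal.mem_of_dvd (Finset.dvd_prod_of_mem _ (Finset.mem_attach _ ⟨z, hmem⟩)) (hw z hmem)
  exact (IsLocalization.algebraMap_mem_map_algebraMap_iff q.primeCompl (Localization.AtPrime q) _ _).2
    ⟨u, u.2, Submodule.mem_sup_left hux⟩

variable (k : Type u) [Field k] [IsAlgClosed k] [X.Over (Spec (CommRingCat.of k))]
  [IsProper (X ↘ Spec (CommRingCat.of k))]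

/-- the degree of the inverse of the ideal of finitely many points -/
theorem deg_inverse_sub {Z : Closeds X} (hfin : (Z : Set X).Finite) {L : X.Modules} (hL : PicF.IsInvertible L)
    (e : CohB1.tensorMod (ClSub.idealMod (vI Z)) L ≅ Coh.structureModule X) (D : Closeds X)
    (hdense : (D : Set X) ⊆ closure ((D : Set X) \ Z)) :
    letI : (vI D).subscheme.Over (Spec (CommRingCat.of k)) := ⟨(vI D).subschemeι ≫ (X ↘ Spec (CommRingCat.of k))⟩
    Curv2.deg k (vI D).subscheme ((Scheme.Modules.pullback (vI D).subschemeι).obj L) 1 =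
      (((Z : Set X) ∩ D).ncard : ℤ) := by
  haveI := CurveRR.isNoetherian_of_proper k X
  haveI : JacobsonSpace X := LocallyOfFiniteType.jacobsonSpace (X ↘ Spec (CommRingCat.of k))
  have hcl : ∀ x ∈ (Z : Set X), IsClosed ({x} : Set X) := fun x hx =>
    Intersect.isClosed_singleton_of_finite Z.isClosed hfin hx
  have hZdim : topologicalKrullDim ((vI Z).support : Set X) ≤ 0 := by
    rw [Scheme.IdealSheafData.coe_support_vanishingIdeal]
    haveI : Finite (Z : Set X) := hfin.to_subtype
    haveI : T1Space (Z : Set X) := t1Space_iff_exists_open.2 fun a b hab =>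
      ⟨Subtype.val ⁻¹' ({b.1}ᶜ : Set X), (hcl b.1 b.2).isOpen_compl.preimage continuous_subtype_val,
        fun h => hab (Subtype.ext h), fun h => h rfl⟩
    exact topologicalKrullDim_zero_of_discreteTopology _
  have hZ := euler_G (vI Z) hL k hZdim D
  rw [sup_vI_finite hfin hcl D, h0_quotMod_finite k _ (hfin.subset Set.inter_subset_left),
    Nat.card_coe_set_eq] at hZ
  -- the canonical section of `L` identifies `G` with `O_D`
  let π : Coh.structureModule X ⟶ G (vI Z) L D := e.inv ≫ tmap (Abelian.factorThruImage (f (vI Z) D)) L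
  haveI : Epi π := by
    haveI := (shortExact_tmap hL (CurveRR.shortExact_ker (Abelian.factorThruImage (f (vI Z) D)))).epi_g
    exact epi_comp _ _
  let σ : Coh.structureModule X ⟶ L := e.inv ≫ tmap (ClSub.idealModι (vI Z)) L ≫ (TMul.leftUnitIso L).hom
  have hval : ∀ (W : X.Opens), (π ≫ jG (vI Z) L D) = σ ≫ (TMul.leftUnitIso L).inv ≫ tmap (q D) L := fun W => by
    show (e.inv ≫ _) ≫ _ = _
    rw [Category.assoc, ← tmap_comp, Abelian.image.fac]
    simp only [σ, Category.assoc, Iso.hom_inv_id_assoc, tmap_comp]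
  have hap : ∀ (W : X.Opens) (c a : Γ(X, W)) (g : Γ(L, W)), TMul.val σ W = a • g →
      (π ≫ jG (vI Z) L D).app W c = tm ((q D).app W (show Γ(X, W) from c * a)) g := fun W c a g ha => by
    have h1 : σ.app W c = (c * a) • g := by rw [TMul.app_eq_smul, ha, smul_smul]
    have h2 : (TMul.leftUnitIso L).inv.app W ((c * a) • g) = tm (show Γ(Coh.structureModule X, W) from c * a) g := by
      have h3 : (TMul.leftUnitIso L).hom.app W (tm (show Γ(Coh.structureModule X, W) from c * a) g) = (c * a) • g := by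
        show (SecTwist.unitorR L).hom.app W ((TMul.commHom _ _).app W (tm _ g)) = _
        rw [TMul.commHom_tm]
        exact ResDesc.unitorR_tm L g _
      rw [← h3, ← app_comp, Iso.hom_inv_id]
      rfl
    rw [hval W, app_comp, app_comp, h1, h2, tmap_tm]
  -- `σ` generates off `Z`
  have hgen : ∀ y : X, y ∉ (Z : Set X) → y ∈ CohB1.genLocus L σ := fun y hy => by
    obtain ⟨U, g, hyU, hg⟩ := TMul.exists_isGen hL y
    obtain ⟨V, hV, hyV, hVU⟩ := exists_isAffineOpen_mem_and_subset
      (U := U ⊓ ⟨(Z : Set X)ᶜ, Z.isClosed.isOpen_compl⟩) (x := y) ⟨hyU, hy⟩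
    have hmem : (1 : Γ(X, V)) ∈ (vI Z).ideal ⟨V, hV⟩ := by
      rw [Scheme.IdealSheafData.vanishingIdeal_ideal, PrimeSpectrum.mem_vanishingIdeal]
      intro p hp
      have h1 : hV.fromSpec p ∈ V := by rw [← SetLike.mem_coe, ← hV.range_fromSpec]; exact ⟨p, rfl⟩
      exact absurd hp (hVU h1).2
    obtain ⟨m, hm⟩ := (Groth.Agent.QC.mem_range_idealModι_affine (vI Z) ⟨V, hV⟩ _).2 hmem
    have hg' := hg.res (hVU.trans inf_le_left)
    let b : Γ(X, V) := e.hom.app V (tm m (res L (hVU.trans inf_le_left) g))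
    have hb : b • TMul.val σ V = res L (hVU.trans inf_le_left) g := by
      rw [← TMul.app_eq_smul]
      show (e.inv ≫ tmap (ClSub.idealModι (vI Z)) L ≫ (TMul.leftUnitIso L).hom).app V (e.hom.app V _) = _
      rw [← app_comp, Iso.hom_inv_id_assoc, app_comp, tmap_tm, hm]
      show (SecTwist.unitorR L).hom.app V ((TMul.commHom _ _).app V (tm _ _)) = _
      rw [TMul.commHom_tm]
      exact (ResDesc.unitorR_tm L _ _).trans (one_smul _ _)
    obtain ⟨a, ha⟩ := (hg' V le_rfl).2 (TMul.val σ V)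
    simp only [Groth.Agent.QC.res_self] at ha
    rw [TMul.mem_genLocus_iff_isUnit σ hg' ha.symm hyV]
    refine IsUnit.map (X.presheaf.germ V y hyV).hom (IsUnit.of_mul_eq_one b ?_)
    refine (hg' V le_rfl).1 ?_
    show (a * b) • res L le_rfl _ = (1 : Γ(X, V)) • res L le_rfl _
    rw [Groth.Agent.QC.res_self, one_smul, mul_comm, ← smul_smul, ha, hb]
  have hkey : ∀ (W : X.Opens) (c : Γ(X, W)), (π ≫ jG (vI Z) L D).app W c = 0 ↔ ∀ z ∈ (D : Set X), z ∉ X.basicOpen c := by
    intro W c
    constructor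
    · intro h z hz hzc
      obtain ⟨y, hyc, hyD, hyZ⟩ := mem_closure_iff.1 (hdense hz) _ (X.basicOpen c).2 hzc
      have hyW : y ∈ W := X.basicOpen_le c hyc
      obtain ⟨U, g, hyU, hg⟩ := TMul.exists_isGen hL y
      have hg' := hg.res (inf_le_left : U ⊓ W ≤ U)
      obtain ⟨a, ha⟩ := (hg' _ le_rfl).2 (TMul.val σ (U ⊓ W))
      simp only [Groth.Agent.QC.res_self] at ha
      have h1 : (π ≫ jG (vI Z) L D).app (U ⊓ W) (resO X inf_le_right c) = 0 := by
        rw [show (resO X (inf_le_right : U ⊓ W ≤ W) c) =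
          res (Coh.structureModule X) (inf_le_right : U ⊓ W ≤ W) c from rfl, ← app_res, h, map_zero]
      rw [hap _ _ a _ ha.symm] at h1
      refine (tm_q_eq_zero_iff D _ hg').1 h1 y hyD ?_
      rw [Scheme.basicOpen_mul]
      exact ⟨(Scheme.basicOpen_res X c (homOfLE (inf_le_right : U ⊓ W ≤ W)).op).ge ⟨⟨hyU, hyW⟩, hyc⟩,
        (X.mem_basicOpen a y ⟨hyU, hyW⟩).2
          ((TMul.mem_genLocus_iff_isUnit σ hg' ha.symm ⟨hyU, hyW⟩).1 (hgen y hyZ))⟩
    · intro h
      refine section_eq_of_locally fun x hx => ?_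
      obtain ⟨U, g, hxU, hg⟩ := TMul.exists_isGen hL x
      have hg' := hg.res (inf_le_left : U ⊓ W ≤ U)
      obtain ⟨a, ha⟩ := (hg' _ le_rfl).2 (TMul.val σ (U ⊓ W))
      simp only [Groth.Agent.QC.res_self] at ha
      refine ⟨U ⊓ W, inf_le_right, ⟨hxU, hx⟩, ?_⟩
      rw [app_res, map_zero, show res (Coh.structureModule X) (inf_le_right : U ⊓ W ≤ W) c =
        resO X (inf_le_right : U ⊓ W ≤ W) c from rfl, hap _ _ a _ ha.symm]
      refine (tm_q_eq_zero_iff D _ hg').2 fun z hz hzb => ?_
      rw [Scheme.basicOpen_mul] at hzb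
      exact h z hz ((Scheme.basicOpen_res X c (homOfLE (inf_le_right : U ⊓ W ≤ W)).op).le hzb.1).2
  haveI := mono_jG (vI Z) hL D
  have hker : kernel.ι (q D) ≫ π = 0 := by
    rw [← cancel_mono (jG (vI Z) L D), zero_comp, Category.assoc]
    refine Scheme.Modules.hom_ext _ _ fun W => ?_
    ext c
    show (kernel.ι (q D) ≫ π ≫ jG (vI Z) L D).app W c = 0
    rw [app_comp]
    exact (hkey W _).2 ((q_eq_zero_iff D _).1 (kernel_app (q D) c))
  let η : A D ⟶ G (vI Z) L D := Abelian.epiDesc (q D) π hker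
  have hη : q D ≫ η = π := Abelian.comp_epiDesc _ _ _
  haveI : Epi η := epi_of_epi_fac hη
  haveI : Mono (η ≫ jG (vI Z) L D) := (Groth.Agent.QC.mono_iff_app_injective _).2 fun W =>
    (injective_iff_map_eq_zero _).2 fun t ht => by
      refine section_eq_of_locally fun x hx => ?_
      obtain ⟨V, hV, a, hxV, ha⟩ := exists_lift D t hx
      refine ⟨V, hV, hxV, ?_⟩
      rw [map_zero, ← ha, q_eq_zero_iff]
      refine (hkey V a).1 ?_
      rw [← hη, Category.assoc, app_comp, ha, ← app_res, ht, map_zero]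
  haveI : Mono η := mono_of_mono η (jG (vI Z) L D)
  haveI : IsIso η := isIso_of_mono_of_epi η
  rw [deg_sub k D hL]
  rw [← CurveRR.euler_eq_of_iso (k := k) (asIso η)] at hZ
  omega

end Groth.Agent.DualGeneric.Sub
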