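import Groth.Agent.DualGeneric.GlobalField
import Groth.Agent.SerrePn.Basic
import Groth.Agent.SymAlg.InvDual
import Groth.Agent.TMul.Pullback

/-!
Endomorphisms of invertible modules on schemes whose global functions form a field.
-/

set_option autoImplicit false
set_option backward.isDefEq.respectTransparency false
set_option backward.isDefEq.respectTransparency.types false
set_option linter.style.haveILetI false
set_option maxHeartbeats 1000000

universe u

open CategoryTheory CategoryTheory.Limits AlgebraicGeometry TopologicalSpace Opposite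

noncomputable section

namespace Groth.Agent.DualGeneric

variable {X : Scheme.{u}}

/-- values of composites -/
theorem val_comp_unit (a b : Coh.structureModule X ⟶ Coh.structureModule X) :
    TMul.val (a ≫ b) ⊤ = (HMul.hMul (α := Γ(X, ⊤)) (β := Γ(X, ⊤)) (TMul.val a ⊤) (TMul.val b ⊤) : Γ(X, ⊤)) := by
  show b.app ⊤ (TMul.val a ⊤) = _
  exact TMul.app_eq_smul b (TMul.val a ⊤)

theorem end_unit_eq_zero_or_isIso (hF : IsField Γ(X, ⊤)) (a : Coh.structureModule X ⟶ Coh.structureModule X) :
    a = 0 ∨ IsIso a := by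
  by_cases h : (TMul.val a ⊤ : Γ(X, ⊤)) = 0
  · exact Or.inl (TMul.hom_ext_val h)
  · obtain ⟨d, hd⟩ := hF.mul_inv_cancel h
    let b : Coh.structureModule X ⟶ Coh.structureModule X := TMul.homOf (L := Coh.structureModule X) d
    have hb : (TMul.val b ⊤ : Γ(X, ⊤)) = d :=
      (TMul.val_homOf (L := Coh.structureModule X) d ⊤).trans (Groth.Agent.QC.res_self _ _ _)
    refine Or.inr ⟨b, TMul.hom_ext_val ?_, TMul.hom_ext_val ?_⟩
    · rw [val_comp_unit, hb, hd]; rfl
    · rw [val_comp_unit, hb, mul_comm, hd]; rfl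

theorem end_eq_zero_or_isIso (hF : IsField Γ(X, ⊤)) {L : X.Modules} (hL : PicF.IsInvertible L) (ψ : L ⟶ L) :
    ψ = 0 ∨ IsIso ψ := by
  obtain ⟨L', hL', ⟨θ⟩⟩ := SymAlg.exists_inverse hL
  let θ' : CohB1.tensorMod L' L ≅ Coh.structureModule X := TMul.commIso L' L ≪≫ θ
  rcases end_unit_eq_zero_or_isIso hF (θ.inv ≫ CohFinite.tmap ψ L' ≫ θ.hom) with h | h
  · left
    refine LinRes.eq_zero_of_tmap hL' ψ ?_
    rw [← cancel_epi θ.inv, ← cancel_mono θ.hom]
    simpa using h
  · right
    haveI : IsIso (θ.inv ≫ CohFinite.tmap ψ L' ≫ θ.hom) := h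
    haveI : IsIso (CohFinite.tmap ψ L') := by
      haveI := IsIso.of_isIso_comp_left θ.inv (CohFinite.tmap ψ L' ≫ θ.hom)
      exact IsIso.of_isIso_comp_right (CohFinite.tmap ψ L') θ.hom
    haveI : IsIso (CohFinite.tmap (CohFinite.tmap ψ L') L) := by
      refine ⟨CohFinite.tmap (inv (CohFinite.tmap ψ L')) L, ?_, ?_⟩ <;>
        simp only [← CohFinite.tmap_comp, IsIso.hom_inv_id, IsIso.inv_hom_id, CohFinite.tmap_id]
    haveI : IsIso ((SerrePn.untw θ' L).hom ≫ ψ) := by
      rw [← SerrePn.untw_natural θ' ψ]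
      infer_instance
    exact IsIso.of_isIso_comp_left (SerrePn.untw θ' L).hom ψ

/-- no maps to `O` from an invertible module with a section that is not an isomorphism -/
theorem hom_to_unit_eq_zero (hF : IsField Γ(X, ⊤)) {L : X.Modules} (hL : PicF.IsInvertible L)
    (s : Coh.structureModule X ⟶ L) [Mono s] (hs : ¬ IsIso s) (φ : L ⟶ Coh.structureModule X) : φ = 0 := by
  rcases end_eq_zero_or_isIso hF hL (φ ≫ s) with h | h
  · exact (cancel_mono s).1 (h.trans zero_comp.symm)
  · haveI := h
    haveI : Epi s := epi_of_epi φ s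
    exact absurd (isIso_of_mono_of_epi s) hs

end Groth.Agent.DualGeneric
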